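import Mathlib
import Cfsg.Agent.Lib.H2.GenCent
import Cfsg.Agent.Lib.H3.Critical
import Cfsg.Agent.Lib.H3.Extraspecial
import Cfsg.Agent.Lib.H91.ExtraDual

set_option autoImplicit false
set_option linter.unusedSectionVars false
set_option linter.dupNamespace false

/-! A noncyclic abelian `p`-group of automorphisms of a 2-group whose nontrivial elements fix at most
one involution: the 2-group is extraspecial. -/

namespace H54.ExtraNine

open Subgroup
open scoped commutatorElement

variable {W : Type*} [Group W] [Finite W]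

/-- generation by fixed points, for groups of automorphisms -/
theorem gen_fix (E : Subgroup (MulAut W)) (hab : ∀ a ∈ E, ∀ b ∈ E, a * b = b * a)
    (hnc : ¬ IsCyclic E) (hcop : (Nat.card E).Coprime (Nat.card W)) (K H : Subgroup W)
    (hK : ∀ e ∈ E, ∀ x ∈ K, e x ∈ K)
    (hH : ∀ e ∈ E, e ≠ 1 → ∀ x ∈ K, e x = x → x ∈ H) : K ≤ H := by
  have hfin : Finite (W ⋊[E.subtype] E) :=
    Finite.of_equiv _ (SemidirectProduct.equivProd (φ := E.subtype)).symm
  let A : Subgroup (W ⋊[E.subtype] E) := (SemidirectProduct.inr : E →* W ⋊[E.subtype] E).range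
  let Kt : Subgroup (W ⋊[E.subtype] E) := K.map (SemidirectProduct.inl : W →* W ⋊[E.subtype] E)
  have eA : E ≃* A := MonoidHom.ofInjective SemidirectProduct.inr_injective
  have eK : K ≃* Kt := K.equivMapOfInjective _ SemidirectProduct.inl_injective
  have hcA : IsMulCommutative A := by
    refine ⟨⟨?_⟩⟩
    rintro ⟨_, a, rfl⟩ ⟨_, b, rfl⟩
    apply Subtype.ext
    show SemidirectProduct.inr a * SemidirectProduct.inr b =
      SemidirectProduct.inr b * SemidirectProduct.inr a
    rw [← map_mul, ← map_mul]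
    congr 1
    exact Subtype.ext (hab a a.2 b b.2)
  have hncA : ¬ IsCyclic A := fun h => hnc (isCyclic_of_surjective eA.symm eA.symm.surjective)
  have hstep : ∀ a ∈ A, ∀ x ∈ Kt, a * x * a⁻¹ ∈ Kt := by
    rintro _ ⟨e, rfl⟩ _ ⟨k, hk, rfl⟩
    have : (SemidirectProduct.inr e : W ⋊[E.subtype] E) * SemidirectProduct.inl k *
        (SemidirectProduct.inr e)⁻¹ = SemidirectProduct.inl (E.subtype e k) := by
      rw [SemidirectProduct.inl_aut, map_inv]
    rw [this]
    exact mem_map_of_mem _ (hK e e.2 k hk)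
  have hnorm : A ≤ normalizer (Kt : Set (W ⋊[E.subtype] E)) := by
    intro a ha
    rw [mem_normalizer_iff]
    intro x
    constructor
    · exact hstep a ha x
    · intro hx
      have := hstep a⁻¹ (inv_mem ha) _ hx
      have e : a⁻¹ * (a * x * a⁻¹) * a⁻¹⁻¹ = x := by group
      rwa [e] at this
  have hcop' : (Nat.card A).Coprime (Nat.card Kt) := by
    rw [← Nat.card_congr eA.toEquiv, ← Nat.card_congr eK.toEquiv]
    exact Nat.Coprime.coprime_dvd_right (card_subgroup_dvd_card K) hcop
  have hmain := H2.GenCent.main A Kt hcA hncA hnorm hcop'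
  have hle : H2.GenCent.gen A Kt ≤ H.map (SemidirectProduct.inl : W →* W ⋊[E.subtype] E) := by
    rw [H2.GenCent.gen]
    apply iSup₂_le
    rintro _ ⟨⟨e, rfl⟩, hne⟩
    intro x hx
    obtain ⟨hx1, hx2⟩ := mem_inf.mp hx
    obtain ⟨k, hk, rfl⟩ := hx1
    have hek : (e : MulAut W) k = k := by
      rw [mem_centralizer_iff] at hx2
      have h1 := hx2 _ (Set.mem_singleton _)
      have h2 : (SemidirectProduct.inl (E.subtype e k) : W ⋊[E.subtype] E) =
          SemidirectProduct.inl k := by
        rw [SemidirectProduct.inl_aut, h1, map_inv, mul_inv_cancel_right]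
      exact SemidirectProduct.inl_injective h2
    apply mem_map_of_mem
    apply hH e e.2 _ k hk hek
    intro he
    apply hne
    have : e = 1 := Subtype.ext he
    rw [this, map_one]
  intro k hk
  have h1 : (SemidirectProduct.inl k : W ⋊[E.subtype] E) ∈ Kt := mem_map_of_mem _ hk
  rw [← hmain] at h1
  obtain ⟨k', hk', e⟩ := hle h1
  rwa [← SemidirectProduct.inl_injective e]

/-- the hypotheses -/
structure Hy (p : ℕ) (E : Subgroup (MulAut W)) : Prop where
  pgW : IsPGroup 2 W
  pgE : IsPGroup p E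
  p2 : p ≠ 2
  ab : ∀ a ∈ E, ∀ b ∈ E, a * b = b * a
  nc : ¬ IsCyclic E
  fix : ∀ e ∈ E, e ≠ 1 → ∀ x y : W, orderOf x = 2 → orderOf y = 2 → e x = x → e y = y → x = y

variable {p : ℕ} [hp : Fact p.Prime] {E : Subgroup (MulAut W)}

theorem Hy.cop (h : Hy p E) {e : MulAut W} (he : e ∈ E) : Nat.Coprime (orderOf e) 2 := by
  obtain ⟨k, hk⟩ := (IsPGroup.iff_orderOf.mp h.pgE) ⟨e, he⟩
  rw [Subgroup.orderOf_mk] at hk
  rw [hk]
  apply Nat.Coprime.pow_left
  exact (Nat.coprime_primes hp.out Nat.prime_two).mpr h.p2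

theorem Hy.coprime (h : Hy p E) : (Nat.card E).Coprime (Nat.card W) := by
  have := Fact.mk Nat.prime_two
  obtain ⟨a, ha⟩ := IsPGroup.iff_card.mp h.pgE
  obtain ⟨b, hb⟩ := IsPGroup.iff_card.mp h.pgW
  rw [ha, hb]
  apply Nat.Coprime.pow
  exact (Nat.coprime_primes hp.out Nat.prime_two).mpr h.p2

theorem Hy.fix_mul (h : Hy p E) {e : MulAut W} (he : e ∈ E) {x c : W} (hx : e x = x * c)
    (hc : e c = c) : c = 1 := by
  have := Fact.mk Nat.prime_two
  exact H3.Critical.eq_one_of_fix_mul h.pgW e (h.cop he) hx hc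

/-- generation -/
theorem Hy.gen (h : Hy p E) (K H : Subgroup W) (hK : ∀ e ∈ E, ∀ x ∈ K, e x ∈ K)
    (hH : ∀ e ∈ E, e ≠ 1 → ∀ x ∈ K, e x = x → x ∈ H) : K ≤ H :=
  gen_fix E h.ab h.nc h.coprime K H hK hH

/-- fixed points of the group -/
def fixE (E : Subgroup (MulAut W)) : Subgroup W where
  carrier := {x | ∀ e ∈ E, e x = x}
  one_mem' := fun e _ => map_one e
  mul_mem' := fun {a b} ha hb e he => by rw [map_mul, ha e he, hb e he]
  inv_mem' := fun {a} ha e he => by rw [map_inv, ha e he]

/-- fixed points of an automorphism -/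
def fix1 (e : MulAut W) : Subgroup W where
  carrier := {x | e x = x}
  one_mem' := map_one e
  mul_mem' := fun {a b} ha hb => by
    show e (a * b) = a * b
    rw [map_mul, show e a = a from ha, show e b = b from hb]
  inv_mem' := fun {a} ha => by
    show e a⁻¹ = a⁻¹
    rw [map_inv, show e a = a from ha]

theorem mem_fixE {x : W} : x ∈ fixE E ↔ ∀ e ∈ E, e x = x := Iff.rfl
theorem mem_fix1 {e : MulAut W} {x : W} : x ∈ fix1 e ↔ e x = x := Iff.rfl

theorem Hy.comm_fix (h : Hy p E) {e f : MulAut W} (he : e ∈ E) (hf : f ∈ E) {x : W} (hx : e x = x) :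
    e (f x) = f x := by
  have h1 : e (f x) = f (e x) := by
    have := h.ab e he f hf
    exact congrArg (fun g : MulAut W => g x) this
  rw [h1, hx]

/-- involutions fixed by `e` are fixed by `E` -/
theorem Hy.inv_fix (h : Hy p E) {e f : MulAut W} (he : e ∈ E) (he1 : e ≠ 1) (hf : f ∈ E) {x : W}
    (hx : e x = x) (h2 : orderOf x = 2) : f x = x :=
  h.fix e he he1 (f x) x (by rw [MulEquiv.orderOf_eq, h2]) h2 (h.comm_fix he hf hx) hx

theorem orderOf_two {x : W} (h1 : x ≠ 1) (h2 : x ^ 2 = 1) : orderOf x = 2 :=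
  orderOf_eq_prime h2 h1

/-- abelian invariant subgroups are centralised -/
theorem Hy.abel (h : Hy p E) {D : Subgroup W} (hD : ∀ e ∈ E, ∀ x ∈ D, e x ∈ D)
    (hDc : ∀ x ∈ D, ∀ y ∈ D, x * y = y * x) : D ≤ fixE E := by
  apply h.gen D (fixE E) hD
  intro e he he1 x hx hex f hf
  obtain ⟨n, hn⟩ := h.pgW x
  induction n generalizing x with
  | zero =>
    rw [pow_zero, pow_one] at hn
    rw [hn, map_one]
  | succ n ih =>
    have h1 : f (x ^ 2) = x ^ 2 := by
      apply ih (x ^ 2) (pow_mem hx 2)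
      · rw [map_pow, hex]
      · rw [← pow_mul, ← pow_succ']; exact hn
    have hfx := hD f hf x hx
    have hc : x⁻¹ * f x ∈ D := mul_mem (inv_mem hx) hfx
    have h2 : (x⁻¹ * f x) ^ 2 = 1 := by
      have hcm : Commute x⁻¹ (f x) := hDc _ (inv_mem hx) _ hfx
      rw [hcm.mul_pow, ← map_pow, h1, inv_pow, inv_mul_cancel]
    have h3 : e (x⁻¹ * f x) = x⁻¹ * f x := by
      rw [map_mul, map_inv, hex, h.comm_fix he hf hex]
    have h4 : f (x⁻¹ * f x) = x⁻¹ * f x := by
      by_cases h5 : x⁻¹ * f x = 1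
      · rw [h5, map_one]
      · exact h.inv_fix he he1 hf h3 (orderOf_two h5 h2)
    have h5 := h.fix_mul hf (x := x) (c := x⁻¹ * f x) (by rw [mul_inv_cancel_left]) h4
    rw [inv_mul_eq_one] at h5
    exact h5.symm

theorem Hy.ne_bot (h : Hy p E) : ∃ e ∈ E, e ≠ 1 := by
  by_contra hcon
  push Not at hcon
  apply h.nc
  have : Subsingleton E := ⟨fun a b => Subtype.ext (by rw [hcon a a.2, hcon b b.2])⟩
  exact isCyclic_of_subsingleton

/-- `E` is not trivial on some fixed-point subgroup -/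
theorem Hy.exists_mv (h : Hy p E) (K : Subgroup W) (hK : ∀ e ∈ E, ∀ x ∈ K, e x ∈ K)
    (hne : ¬ K ≤ fixE E) : ∃ e ∈ E, e ≠ 1 ∧ ∃ x ∈ K, e x = x ∧ ∃ f ∈ E, f x ≠ x := by
  by_contra hcon
  push Not at hcon
  apply hne
  apply h.gen K _ hK
  intro e he he1 x hx hex f hf
  exact hcon e he he1 x hx hex f hf

/-- a central involution whose cyclic group is the centre -/
structure Cen (z : W) : Prop where
  ne : z ≠ 1
  sq : z ^ 2 = 1
  cen : ∀ x, x * z = z * x
  comm : ∀ x y : W, x * y = y * x ∨ x * y = y * x * z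
  pow : ∀ x : W, x ^ 2 = 1 ∨ x ^ 2 = z
  center : ∀ x : W, (∀ y, x * y = y * x) → x = 1 ∨ x = z

theorem Hy.exists_cen (h : Hy p E) : ∃ z : W, Cen z ∧ Cfsg.IsExtraspecial 2 W ∧ (∀ e ∈ E, e z = z) := by
  have h2f := Fact.mk Nat.prime_two
  obtain ⟨C, hchar, hc1, hc2, hc3⟩ := H3.Critical.exists_critical (p := 2) h.pgW
  have hCE : ∀ e ∈ E, ∀ x ∈ C, e x ∈ C := fun e _ x hx =>
    (H3.Critical.char_apply_mem (D := C) e).mpr hx
  set D : Subgroup W := C ⊓ centralizer (C : Set W) with hDdef
  have hDE : ∀ e ∈ E, ∀ x ∈ D, e x ∈ D := by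
    intro e he x hx
    obtain ⟨hx1, hx2⟩ := mem_inf.mp hx
    refine mem_inf.mpr ⟨hCE e he x hx1, ?_⟩
    rw [mem_centralizer_iff] at hx2 ⊢
    intro y hy
    have h1 := hx2 (e⁻¹ y) (hCE _ (inv_mem he) y hy)
    have h3 := congrArg e h1
    rw [map_mul, map_mul] at h3
    have h4 : e (e⁻¹ y) = y := MulAut.apply_inv_self _ e y
    rwa [h4] at h3
  have hDC : ∀ d ∈ D, ∀ x ∈ C, x * d = d * x := fun d hd x hx =>
    mem_centralizer_iff.mp (mem_inf.mp hd).2 x hx
  have hDfix : D ≤ fixE E := h.abel hDE (fun x hx y hy => (hDC y hy x (mem_inf.mp hx).1))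
  -- C is not centralised
  have hCn : C.Normal := inferInstance
  have hCne : ¬ C ≤ fixE E := by
    intro hcon
    obtain ⟨e, he, he1⟩ := h.ne_bot
    exact he1 (H3.Critical.eq_one_of_fix h.pgW e (h.cop he) C hc3 (fun x hx => hcon hx e he))
  obtain ⟨e, he, he1, x, hx, hex, f, hf, hfx⟩ := h.exists_mv C hCE hCne
  -- an involution z in D
  obtain ⟨y, hy⟩ : ∃ y, y = x⁻¹ * f x := ⟨_, rfl⟩
  have hfxy : f x = x * y := by rw [hy, mul_inv_cancel_left]
  have hyC : y ∈ C := by rw [hy]; exact mul_mem (inv_mem hx) (hCE f hf x hx)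
  have hyD : y ∉ D := by
    intro hcon
    have h1 := h.fix_mul hf hfxy (hDfix hcon f hf)
    rw [h1, mul_one] at hfxy
    exact hfx hfxy
  have hey : e y = y := by rw [hy, map_mul, map_inv, hex, h.comm_fix he hf hex]
  have hy1 : y ≠ 1 := fun h1 => hyD (h1 ▸ one_mem _)
  have hx2 : x ^ 2 ∈ D := hc1 x hx
  have hy2 : y ^ 2 ∈ D := hc1 y hyC
  have hyx : y * x * y = x := by
    have h1 : f (x ^ 2) = x ^ 2 := hDfix hx2 f hf
    rw [map_pow, hfxy, pow_two, pow_two] at h1
    have h3 : x * (y * x * y) = x * x := by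
      rw [← h1]; group
    exact mul_left_cancel h3
  have hy4 : (y ^ 2) ^ 2 = 1 := by
    have h1 : x⁻¹ * y * x = y⁻¹ := by
      have : y * x = x * y⁻¹ := by rw [eq_mul_inv_iff_mul_eq, hyx]
      rw [mul_assoc, this, inv_mul_cancel_left]
    have h3 : x⁻¹ * y ^ 2 * x = (y⁻¹) ^ 2 := by
      rw [← h1, pow_two, pow_two]; group
    have h4 : x⁻¹ * y ^ 2 * x = y ^ 2 := by
      rw [mul_assoc, ← hDC _ hy2 x hx, inv_mul_cancel_left]
    rw [h4, inv_pow] at h3
    rw [pow_two]
    nth_rewrite 2 [h3]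
    exact mul_inv_cancel _
  have hy2ne : y ^ 2 ≠ 1 := by
    intro h1
    -- y is an involution fixed by e, hence by E
    have h3 := h.inv_fix he he1 hf hey (orderOf_two hy1 h1)
    have h4 := h.fix_mul hf hfxy h3
    exact hy1 h4
  obtain ⟨z, hz⟩ : ∃ z, z = y ^ 2 := ⟨_, rfl⟩
  rw [← hz] at hy2 hy4 hy2ne
  have hzo : orderOf z = 2 := orderOf_two hy2ne hy4
  have hzE : ∀ g ∈ E, g z = z := fun g hg => hDfix hy2 g hg
  -- every involution of D is z
  have hinv : ∀ d ∈ D, d ^ 2 = 1 → d = 1 ∨ d = z := by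
    intro d hd hd2
    by_cases hd1 : d = 1
    · left; exact hd1
    · right
      exact h.fix e he he1 d z (orderOf_two hd1 hd2) hzo (hDfix hd e he) (hzE e he)
  have hnoroot : ∀ d ∈ D, d ^ 2 ≠ z := by
    intro d hd hdz
    have hcm : Commute y d := hDC d hd y hyC
    have h1 : (y * d) ^ 2 = 1 := by
      rw [hcm.mul_pow, hdz, ← hz, ← pow_two, hy4]
    have h3 : e (y * d) = y * d := by rw [map_mul, hey, hDfix hd e he]
    by_cases h4 : y * d = 1
    · apply hyD
      have : y = d⁻¹ := mul_eq_one_iff_eq_inv.mp h4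
      rw [this]; exact inv_mem hd
    · have h5 := h.fix e he he1 _ z (orderOf_two h4 h1) hzo h3 (hzE e he)
      apply hyD
      have : y = z * d⁻¹ := by rw [← h5, mul_inv_cancel_right]
      rw [this]; exact mul_mem hy2 (inv_mem hd)
  have hDz : ∀ d ∈ D, d = 1 ∨ d = z := by
    intro d hd
    obtain ⟨n, hn⟩ := h.pgW d
    induction n generalizing d with
    | zero => left; rwa [pow_zero, pow_one] at hn
    | succ n ih =>
      rcases ih (d ^ 2) (pow_mem hd 2) (by rw [← pow_mul, ← pow_succ']; exact hn) with h1 | h1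
      · exact hinv d hd h1
      · exact absurd h1 (hnoroot d hd)
  -- C is extraspecial
  have hcommC : ∀ a ∈ C, ∀ g : W, ⁅a, g⁆ = 1 ∨ ⁅a, g⁆ = z := fun a ha g => hDz _ (hc2 a ha g)
  have hzcen : ∀ g : W, g * z = z * g := by
    intro g
    rcases hcommC z (mem_inf.mp hy2).1 g with h1 | h1
    · rw [commutatorElement_eq_one_iff_mul_comm] at h1
      exact h1.symm
    · exfalso
      rw [commutatorElement_def] at h1
      have h3 : g * z⁻¹ * g⁻¹ = 1 := by
        have : z * (g * z⁻¹ * g⁻¹) = z * 1 := by rw [mul_one, ← mul_assoc, ← mul_assoc]; exact h1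
        exact mul_left_cancel this
      rw [mul_inv_eq_one] at h3
      have h4 : z⁻¹ = 1 := by
        have : g * z⁻¹ = g * 1 := by rw [mul_one]; exact h3
        exact mul_left_cancel this
      exact hy2ne (inv_eq_one.mp h4)
  have hcenC : ∀ c : C, c ∈ center C ↔ (c : W) = 1 ∨ (c : W) = z := by
    intro c
    constructor
    · intro hc
      apply hDz
      refine mem_inf.mpr ⟨c.2, ?_⟩
      rw [mem_centralizer_iff]
      intro a ha
      rw [mem_center_iff] at hc
      exact congrArg Subtype.val (hc ⟨a, ha⟩)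
    · intro hc
      rw [mem_center_iff]
      intro a
      apply Subtype.ext
      show (a : W) * c = c * a
      rcases hc with hc | hc
      · rw [hc, mul_one, one_mul]
      · rw [hc, hzcen]
  have hCext : Cfsg.IsExtraspecial 2 C := by
    apply H3.Extraspecial.isExtraspecial_of
    · rw [_root_.commutator_def, commutator_le]
      intro a _ b _
      rw [hcenC]
      exact hcommC a a.2 b
    · have hset : (center C : Set C) = {1, ⟨z, (mem_inf.mp hy2).1⟩} := by
        ext c
        rw [SetLike.mem_coe, hcenC, Set.mem_insert_iff, Set.mem_singleton_iff, Subtype.ext_iff,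
          Subtype.ext_iff]
        rfl
      show Nat.card ((center C : Set C)) = 2
      rw [hset]
      apply Set.ncard_pair
      intro h1
      exact hy2ne (congrArg Subtype.val h1).symm
    · refine ⟨⟨y, hyC⟩, ⟨x, hx⟩, ?_⟩
      intro h1
      have h3 : ⁅y, x⁆ = 1 := congrArg Subtype.val h1
      rw [commutatorElement_eq_one_iff_mul_comm] at h3
      rw [h3, mul_assoc] at hyx
      have : y * y = 1 := by
        have h4 : x * (y * y) = x * 1 := by rw [hyx, mul_one]
        exact mul_left_cancel h4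
      apply hy2ne
      rw [hz, pow_two, this]
  have hCtop : C = ⊤ := by
    rw [eq_top_iff]
    intro w _
    let φ : C →* C := (MulAut.conjNormal w : MulAut C).toMonoidHom
    have hφ : ∀ a, φ a * a⁻¹ ∈ center C := by
      intro a
      rw [hcenC]
      have h1 := hcommC a a.2 w
      have h3 : ((φ a * a⁻¹ : C) : W) = ⁅(a : W), w⁆⁻¹ := by
        rw [commutatorElement_def]
        show (MulAut.conjNormal w a : W) * (a : W)⁻¹ = _
        rw [MulAut.conjNormal_apply]; group
      rw [h3]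
      rcases h1 with h1 | h1
      · left; rw [h1, inv_one]
      · right
        rw [h1, inv_eq_iff_mul_eq_one, ← pow_two]
        exact hy4
    obtain ⟨g, hg⟩ := H91.ExtraDual.inner_of_trivial_mod_center hCext φ hφ
    have h1 : (g : W)⁻¹ * w ∈ C := by
      apply hc3
      rw [mem_centralizer_iff]
      intro a ha
      have h3 := congrArg Subtype.val (hg ⟨a, ha⟩)
      have h4 : w * a * w⁻¹ = g * a * (g : W)⁻¹ := by
        rw [← MulAut.conjNormal_apply w ⟨a, ha⟩]
        exact h3
      have h5 : w * a = g * a * (g : W)⁻¹ * w := by rw [← h4]; group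
      calc a * ((g : W)⁻¹ * w) = (g : W)⁻¹ * (g * a * (g : W)⁻¹ * w) := by group
        _ = (g : W)⁻¹ * (w * a) := by rw [h5]
        _ = (g : W)⁻¹ * w * a := by group
    have h3 := mul_mem g.2 h1
    rwa [mul_inv_cancel_left] at h3
  have hmemC : ∀ w : W, w ∈ C := fun w => hCtop ▸ mem_top w
  have hcen : Cen z := by
    refine ⟨hy2ne, hy4, hzcen, ?_, ?_, ?_⟩
    · intro a b
      rcases hcommC a (hmemC a) b with h1 | h1
      · left; rwa [commutatorElement_eq_one_iff_mul_comm] at h1
      · right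
        rw [hzcen, ← h1, commutatorElement_def]; group
    · intro a
      exact hDz _ (hc1 a (hmemC a))
    · intro a ha
      apply hDz
      refine mem_inf.mpr ⟨hmemC a, ?_⟩
      rw [mem_centralizer_iff]
      intro b _
      exact (ha b).symm
  refine ⟨z, hcen, ?_, hzE⟩
  apply H3.Extraspecial.isExtraspecial_of
  · rw [_root_.commutator_def, commutator_le]
    intro a _ b _
    rw [mem_center_iff]
    intro g
    rcases hcommC a (hmemC a) b with h1 | h1
    · rw [h1, mul_one, one_mul]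
    · rw [h1]; exact hzcen g
  · have hset : (center W : Set W) = {1, z} := by
      ext c
      rw [SetLike.mem_coe, Set.mem_insert_iff, Set.mem_singleton_iff, mem_center_iff]
      constructor
      · intro hc
        exact hcen.center c (fun y => (hc y).symm)
      · rintro (rfl | rfl)
        · intro g; rw [mul_one, one_mul]
        · exact hzcen
    show Nat.card ((center W : Set W)) = 2
    rw [hset]
    exact Set.ncard_pair hy2ne.symm
  · refine ⟨y, x, ?_⟩
    intro h3
    rw [commutatorElement_eq_one_iff_mul_comm] at h3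
    rw [h3, mul_assoc] at hyx
    have : y * y = 1 := by
      have h4 : x * (y * y) = x * 1 := by rw [hyx, mul_one]
      exact mul_left_cancel h4
    apply hy2ne
    rw [hz, pow_two, this]

end H54.ExtraNine
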