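import Mathlib
import Cfsg.Agent.Lib.H42.AltGen

set_option autoImplicit false
set_option linter.unusedSectionVars false
set_option linter.dupNamespace false

/-! Permutation groups containing 3-cycles: the alternating groups on the classes of the relation
"moved by a common 3-cycle of `H`". -/

namespace H54.ThreeCyc

open Equiv Equiv.Perm H42.AltGen

variable {α : Type} [Fintype α] [DecidableEq α]

/-- even permutations fixing all points outside `Ω` -/
def altOn (Ω : Set α) : Subgroup (Perm α) where
  carrier := {σ | σ ∈ alternatingGroup α ∧ ∀ x ∉ Ω, σ x = x}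
  one_mem' := ⟨one_mem _, fun _ _ => rfl⟩
  mul_mem' := by
    rintro a b ⟨ha, ha'⟩ ⟨hb, hb'⟩
    exact ⟨mul_mem ha hb, fun x hx => by rw [Perm.mul_apply, hb' x hx, ha' x hx]⟩
  inv_mem' := by
    rintro a ⟨ha, ha'⟩
    refine ⟨inv_mem ha, fun x hx => ?_⟩
    rw [Perm.inv_eq_iff_eq, ha' x hx]

theorem mem_altOn {Ω : Set α} {σ : Perm α} :
    σ ∈ altOn Ω ↔ σ ∈ alternatingGroup α ∧ ∀ x ∉ Ω, σ x = x := Iff.rfl

/-- the isomorphism with the alternating group -/
theorem altOn_eq (Ω : Set α) [DecidablePred (· ∈ Ω)] :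
    altOn Ω = (alternatingGroup ↥Ω).map (ofSubtype : Perm ↥Ω →* Perm α) := by
  ext σ
  rw [mem_altOn, Subgroup.mem_map]
  constructor
  · rintro ⟨h1, h2⟩
    have h3 : ∀ x, σ x ∈ Ω ↔ x ∈ Ω := by
      intro x
      constructor
      · intro h
        by_contra hx
        rw [h2 x hx] at h
        exact hx h
      · intro h
        by_contra hx
        have h4 := h2 _ hx
        have h5 := σ.injective h4
        rw [h5] at hx
        exact hx h
    have h4 : (ofSubtype (σ.subtypePerm h3) : Perm α) = σ :=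
      ofSubtype_subtypePerm h3 (fun x hx => by
        by_contra hcon
        exact hx (h2 x hcon))
    refine ⟨σ.subtypePerm h3, ?_, h4⟩
    rw [mem_alternatingGroup, ← sign_ofSubtype, h4]
    exact mem_alternatingGroup.mp h1
  · rintro ⟨τ, hτ, rfl⟩
    refine ⟨?_, fun x hx => ofSubtype_apply_of_not_mem τ hx⟩
    rw [mem_alternatingGroup, sign_ofSubtype]
    exact mem_alternatingGroup.mp hτ

theorem altOn_iso (Ω : Set α) [DecidablePred (· ∈ Ω)] {m : ℕ} (hm : Fintype.card ↥Ω = m) :
    Nonempty (↥(altOn Ω) ≃* ↥(alternatingGroup (Fin m))) := by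
  rw [altOn_eq]
  exact ⟨((alternatingGroup ↥Ω).equivMapOfInjective _ ofSubtype_injective).symm.trans
    (Equiv.altCongrHom (Fintype.equivFinOfCardEq hm))⟩

/-- commuting -/
theorem commute_altOn {Ω : Set α} {σ τ : Perm α} (hσ : ∀ x ∉ Ω, σ x = x) (hτ : ∀ x ∈ Ω, τ x = x) :
    σ * τ = τ * σ := by
  ext x
  simp only [Perm.mul_apply]
  by_cases hx : x ∈ Ω
  · rw [hτ x hx]
    have h1 : σ x ∈ Ω := by
      by_contra hcon
      have := σ.injective (hσ _ hcon)
      rw [this] at hcon
      exact hcon hx
    rw [hτ _ h1]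
  · rw [hσ x hx]
    by_cases h1 : τ x ∈ Ω
    · exfalso
      apply hx
      have h2 := hτ _ h1
      have h3 := τ.injective h2
      rwa [h3] at h1
    · rw [hσ _ h1]

variable (H : Subgroup (Perm α))

/-- moved by a common 3-cycle of `H` -/
def Rel (x y : α) : Prop := ∃ c ∈ H, IsThreeCycle c ∧ c x ≠ x ∧ c y ≠ y

/-- the class of `x` -/
def cmp (x : α) : Set α := {y | Relation.ReflTransGen (Rel H) x y}

variable {H}

theorem Rel.symm {x y : α} (h : Rel H x y) : Rel H y x := by
  obtain ⟨c, h1, h2, h3, h4⟩ := h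
  exact ⟨c, h1, h2, h4, h3⟩

theorem self_mem (x : α) : x ∈ cmp H x := Relation.ReflTransGen.refl

theorem cmp_symm {x y : α} (h : y ∈ cmp H x) : x ∈ cmp H y := by
  have h1 : Std.Symm (Rel H) := ⟨fun _ _ => Rel.symm⟩
  exact Relation.ReflTransGen.stdSymm.symm _ _ h

theorem cmp_eq {x y : α} (h : y ∈ cmp H x) : cmp H y = cmp H x := by
  ext z
  constructor
  · intro hz; exact Relation.ReflTransGen.trans h hz
  · intro hz; exact Relation.ReflTransGen.trans (cmp_symm h) hz

theorem mem_cmp_of_rel {x y z : α} (h : y ∈ cmp H x) (hr : Rel H y z) : z ∈ cmp H x :=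
  Relation.ReflTransGen.tail h hr

/-- a 3-cycle moving a point of the class lives on the class -/
theorem supp_le {x y : α} {c : Perm α} (hc : c ∈ H) (h3 : IsThreeCycle c) (hy : y ∈ cmp H x)
    (hcy : c y ≠ y) : ∀ z ∉ cmp H x, c z = z := by
  intro z hz
  by_contra hcz
  exact hz (mem_cmp_of_rel hy ⟨c, hc, h3, hcy, hcz⟩)

theorem support_eq {z : Perm α} (hz : z.IsThreeCycle) {x : α} (hx : x ∈ z.support) :
    z.support = {x, z x, z (z x)} := by
  have hz3 : ∀ x, z (z (z x)) = x := by
    intro x
    have := congrArg (fun f : Perm α => f x) (hz.orderOf ▸ pow_orderOf_eq_one z)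
    simpa [pow_succ] using this
  symm
  apply Finset.eq_of_subset_of_card_le
  · intro y hy
    simp only [Finset.mem_insert, Finset.mem_singleton] at hy
    rcases hy with rfl | rfl | rfl
    · exact hx
    · exact Perm.apply_mem_support.2 hx
    · exact Perm.apply_mem_support.2 (Perm.apply_mem_support.2 hx)
  · rw [hz.card_support]
    rw [Perm.mem_support] at hx
    have nx2 : z (z x) ≠ x := fun e => hx (by have := hz3 x; rw [e] at this; exact this)
    rw [Finset.card_insert_of_notMem (by simp [hx.symm, nx2.symm]),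
      Finset.card_insert_of_notMem (by simp; exact fun e => hx e.symm), Finset.card_singleton]

theorem three_cases {c : Perm α} (h3 : IsThreeCycle c) {y z : α} (hy : c y ≠ y) (hz : c z ≠ z) :
    z = y ∨ z = c y ∨ z = c (c y) := by
  have h := support_eq h3 (Perm.mem_support.mpr hy)
  have h1 := Perm.mem_support.mpr hz
  rw [h] at h1
  simpa using h1

theorem three_pow {c : Perm α} (h3 : IsThreeCycle c) (y : α) : c (c (c y)) = y := by
  have h1 : c ^ 3 = 1 := by rw [← h3.orderOf]; exact pow_orderOf_eq_one c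
  have h2 := congrArg (fun f : Perm α => f y) h1
  simpa [pow_succ, Perm.mul_apply] using h2

theorem three_eq {c : Perm α} (h3 : IsThreeCycle c) {y : α} (hy : c y ≠ y) :
    y ≠ c (c y) ∧ y ≠ c y ∧ c (c y) ≠ c y ∧ c = swap y (c (c y)) * swap y (c y) := by
  have h1 : c (c y) ≠ c y := fun h => hy (c.injective h)
  have h2 : y ≠ c (c y) := by
    intro h
    apply h1
    have := three_pow h3 y
    rw [← h] at this
    rw [← h]; exact this.symm
  refine ⟨h2, hy.symm, h1, ?_⟩
  ext w
  by_cases hw : c w = w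
  · rw [hw, cyc_apply_of_ne]
    · rintro rfl; exact hy hw
    · rintro rfl
      apply h2
      rw [three_pow h3] at hw
      exact hw
    · rintro rfl; exact h1 hw
  · rcases three_cases h3 hy hw with rfl | rfl | rfl
    · rw [cyc_apply₁ h2 hy.symm h1]
    · rw [cyc_apply₂]
    · rw [three_pow h3, cyc_apply₃ h2 h1]

theorem altOn_cmp_le {x : α} (hx : ∃ c ∈ H, IsThreeCycle c ∧ c x ≠ x) : altOn (cmp H x) ≤ H := by
  classical
  set Ω := cmp H x with hΩ
  set K : Subgroup (Perm ↥Ω) := H.comap (ofSubtype : Perm ↥Ω →* Perm α) with hK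
  -- restriction of an element of `H`
  have hres : ∀ c ∈ H, (∀ z ∉ Ω, c z = z) → ∃ c' ∈ K, ∀ w : ↥Ω, ((c' w : ↥Ω) : α) = c w := by
    intro c hc hfix
    have h3 : ∀ x, c x ∈ Ω ↔ x ∈ Ω := by
      intro x
      constructor
      · intro h
        by_contra hx
        rw [hfix x hx] at h
        exact hx h
      · intro h
        by_contra hx
        have h5 := c.injective (hfix _ hx)
        rw [h5] at hx
        exact hx h
    refine ⟨c.subtypePerm h3, ?_, fun w => rfl⟩
    rw [hK, Subgroup.mem_comap, ofSubtype_subtypePerm h3 (fun x hx => by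
        by_contra hcon
        exact hx (hfix x hcon))]
    exact hc
  have hx0 : x ∈ Ω := self_mem x
  have htr : ∀ y : α, ∀ hy : y ∈ Ω, ∃ g ∈ K, g ⟨x, hx0⟩ = ⟨y, hy⟩ := by
    intro y hy
    induction hy with
    | refl => exact ⟨1, one_mem _, rfl⟩
    | tail hb hr ih =>
      rename_i b z
      obtain ⟨g, hg, hgb⟩ := ih
      obtain ⟨c, hc, h3, hcb, hcz⟩ := hr
      obtain ⟨c', hc', he⟩ := hres c hc (supp_le hc h3 hb hcb)
      rcases three_cases h3 hcb hcz with rfl | rfl | rfl
      · exact ⟨g, hg, hgb⟩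
      · refine ⟨c' * g, mul_mem hc' hg, ?_⟩
        apply Subtype.ext
        rw [Perm.mul_apply, hgb, he]
      · refine ⟨c' * (c' * g), mul_mem hc' (mul_mem hc' hg), ?_⟩
        apply Subtype.ext
        rw [Perm.mul_apply, Perm.mul_apply, hgb, he, he]
  have key : alternatingGroup ↥Ω ≤ K := by
    apply alt_le_of_connected K
    · intro y z
      obtain ⟨g, hg, hgy⟩ := htr y y.2
      obtain ⟨g', hg', hgz⟩ := htr z z.2
      refine ⟨g' * g⁻¹, mul_mem hg' (inv_mem hg), ?_⟩
      rw [Perm.mul_apply]
      have : g⁻¹ y = ⟨x, hx0⟩ := by rw [Perm.inv_eq_iff_eq]; exact hgy.symm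
      rw [this]; exact hgz
    · intro D hD hcl
      obtain ⟨d, hd⟩ := hD
      -- closed under 3-cycles of `H`
      have hstep : ∀ y : α, ∀ hy : y ∈ Ω, (⟨y, hy⟩ : ↥Ω) ∈ D → ∀ z, ∀ hz : z ∈ Ω, Rel H y z →
          (⟨z, hz⟩ : ↥Ω) ∈ D := by
        rintro y hy hyD z hz ⟨c, hc, h3, hcy, hcz⟩
        obtain ⟨c', hc', he⟩ := hres c hc (supp_le hc h3 hy hcy)
        have e1 : (c' ⟨y, hy⟩ : α) = c y := he _
        have e2 : (c' (c' ⟨y, hy⟩) : α) = c (c y) := by rw [he, he]
        obtain ⟨n1, n2, n3, e⟩ := three_eq h3 hcy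
        have hce : c' = swap ⟨y, hy⟩ (c' (c' ⟨y, hy⟩)) * swap ⟨y, hy⟩ (c' ⟨y, hy⟩) := by
          have h3' : IsThreeCycle c' := by
            have : IsThreeCycle (ofSubtype c') := by
              have e3 : (ofSubtype c' : Perm α) = c := by
                ext w
                by_cases hw : w ∈ Ω
                · rw [ofSubtype_apply_of_mem _ hw, he]
                · rw [ofSubtype_apply_of_not_mem _ hw, supp_le hc h3 hy hcy w hw]
              rw [e3]; exact h3
            rw [← card_support_eq_three_iff] at this ⊢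
            rwa [support_ofSubtype, Finset.card_map] at this
          exact (three_eq h3' (fun h => hcy (by rw [← e1, h]))).2.2.2
        have h5 := hcl ⟨y, hy⟩ (c' (c' ⟨y, hy⟩)) (c' ⟨y, hy⟩)
          (fun h => n1 (by have := congrArg Subtype.val h; rwa [e2] at this))
          (fun h => n2 (by have := congrArg Subtype.val h; rwa [e1] at this))
          (fun h => n3 (by have := congrArg Subtype.val h; rwa [e2, e1] at this))
          (by rw [← hce]; exact hc') hyD
        rcases three_cases h3 hcy hcz with rfl | rfl | rfl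
        · exact hyD
        · have : (⟨c y, hz⟩ : ↥Ω) = c' ⟨y, hy⟩ := Subtype.ext e1.symm
          rw [this]; exact h5.2
        · have : (⟨c (c y), hz⟩ : ↥Ω) = c' (c' ⟨y, hy⟩) := Subtype.ext e2.symm
          rw [this]; exact h5.1
      have hall : ∀ z : α, Relation.ReflTransGen (Rel H) (d : α) z → ∀ hz : z ∈ Ω, (⟨z, hz⟩ : ↥Ω) ∈ D := by
        intro z h
        induction h with
        | refl => intro hz; exact hd
        | tail hb hr ih =>
          rename_i b z
          intro hz
          have hbΩ : b ∈ Ω := by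
            have : cmp H (d : α) = Ω := cmp_eq d.2
            rw [← this]; exact hb
          exact hstep _ hbΩ (ih hbΩ) _ hz hr
      rw [Set.eq_univ_iff_forall]
      intro z
      apply hall z
      have : cmp H (d : α) = Ω := cmp_eq d.2
      show (z : α) ∈ cmp H (d : α)
      rw [this]; exact z.2
    · obtain ⟨c, hc, h3, hcx⟩ := hx
      obtain ⟨c', hc', he⟩ := hres c hc (supp_le hc h3 hx0 hcx)
      have e1 : (c' ⟨x, hx0⟩ : α) = c x := he _
      have e2 : (c' (c' ⟨x, hx0⟩) : α) = c (c x) := by rw [he, he]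
      obtain ⟨n1, n2, n3, e⟩ := three_eq h3 hcx
      have h3' : IsThreeCycle c' := by
        have : IsThreeCycle (ofSubtype c') := by
          have e3 : (ofSubtype c' : Perm α) = c := by
            ext w
            by_cases hw : w ∈ Ω
            · rw [ofSubtype_apply_of_mem _ hw, he]
            · rw [ofSubtype_apply_of_not_mem _ hw, supp_le hc h3 hx0 hcx w hw]
          rw [e3]; exact h3
        rw [← card_support_eq_three_iff] at this ⊢
        rwa [support_ofSubtype, Finset.card_map] at this
      have hce := (three_eq h3' (fun h => hcx (by rw [← e1, h]))).2.2.2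
      refine ⟨⟨x, hx0⟩, c' (c' ⟨x, hx0⟩), c' ⟨x, hx0⟩, ?_, ?_, ?_, ?_⟩
      · exact fun h => n1 (by have := congrArg Subtype.val h; rwa [e2] at this)
      · exact fun h => n2 (by have := congrArg Subtype.val h; rwa [e1] at this)
      · exact fun h => n3 (by have := congrArg Subtype.val h; rwa [e2, e1] at this)
      · rw [← hce]; exact hc'
  rw [altOn_eq, Subgroup.map_le_iff_le_comap]
  exact key

end H54.ThreeCyc
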