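import Mathlib
import Cfsg.Agent.Lib.H54.ThreeCyc
import Cfsg.Agent.Lib.H26.Components
import Cfsg.Agent.Lib.H26.Quasisimple
import Cfsg.Agent.Lib.H98.DicksonSolv

set_option autoImplicit false
set_option linter.unusedSectionVars false
set_option linter.dupNamespace false

/-! Permutation groups with quasisimple generalized Fitting subgroup containing 3-cycles. -/

namespace H54.ThreeCyc

open Equiv Equiv.Perm Cfsg Subgroup

section abs

theorem isQuasisimple_alt {m : ℕ} (hm : 5 ≤ m) : IsQuasisimple (alternatingGroup (Fin m)) := by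
  have : IsSimpleGroup (alternatingGroup (Fin m)) := alternatingGroup.isSimpleGroup (by simpa using hm)
  have hc : center (alternatingGroup (Fin m)) = ⊥ :=
    alternatingGroup.center_eq_bot (by simp; omega)
  apply H26.Quasisimple.of_forall_normal
  · intro N hN
    rcases hN.eq_bot_or_eq_top with h | h
    · right; rw [h]; exact bot_le
    · left; exact h
  · intro h
    exact Group.IsNilpotent.center_ne_bot _ hc

variable {X : Type*} [Group X] [Finite X]

theorem isComponent_gF (hF : IsQuasisimple (generalizedFittingSubgroup X)) :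
    IsComponent (generalizedFittingSubgroup X) :=
  ⟨H26.Components.gFitting_normal.isSubnormal, hF⟩

theorem eq_gF (hF : IsQuasisimple (generalizedFittingSubgroup X)) {K : Subgroup X}
    (hK : IsComponent K) : K = generalizedFittingSubgroup X :=
  H26.Components.eq_of_le hK (isComponent_gF hF) (H26.Components.component_le_gFitting hK)

theorem solv_le (hF : IsQuasisimple (generalizedFittingSubgroup X)) {R : Subgroup X}
    (hR : R.IsSubnormal) (hs : Group.IsSolvable R) :
    R ≤ centralizer (generalizedFittingSubgroup X : Set X) ∧ R ≤ generalizedFittingSubgroup X := by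
  have h1 := H26.Components.commutator_eq_bot_of_isSolvable_subnormal (isComponent_gF hF) hs hR
  rw [commutator_eq_bot_iff_le_centralizer, le_centralizer_iff] at h1
  exact ⟨h1, h1.trans H26.Components.centralizer_gFitting_le⟩

end abs

variable {α : Type} [Fintype α] [DecidableEq α]

section syl

/-- permutations acting as powers of `ρ` on the orbits of `ρ` -/
def rhoSub (ρ : Perm α) (h3 : ∀ a, ρ (ρ (ρ a)) = a) : Subgroup (Perm α) where
  carrier := {g | (∀ a, g (ρ a) = ρ (g a)) ∧ ∀ a, g a = a ∨ g a = ρ a ∨ g a = ρ (ρ a)}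
  one_mem' := ⟨fun _ => rfl, fun _ => Or.inl rfl⟩
  mul_mem' := by
    rintro g h ⟨hg1, hg2⟩ ⟨hh1, hh2⟩
    refine ⟨fun a => by rw [Perm.mul_apply, hh1, hg1, Perm.mul_apply], fun a => ?_⟩
    rw [Perm.mul_apply]
    rcases hh2 a with h | h | h <;> rw [h] <;> rcases hg2 a with h' | h' | h' <;>
      simp [hg1, h', h3]
  inv_mem' := by
    rintro g ⟨hg1, hg2⟩
    have h1 : ∀ a, g⁻¹ (ρ a) = ρ (g⁻¹ a) := by
      intro a
      rw [Perm.inv_eq_iff_eq, hg1, show g (g⁻¹ a) = a from g.apply_symm_apply a]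
    refine ⟨h1, fun a => ?_⟩
    rcases hg2 a with h' | h' | h'
    · left; rw [Perm.inv_eq_iff_eq, h']
    · right; right; rw [Perm.inv_eq_iff_eq, hg1, hg1, h', h3]
    · right; left; rw [Perm.inv_eq_iff_eq, hg1, h', h3]

theorem rhoSub_cube {ρ : Perm α} {h3 : ∀ a, ρ (ρ (ρ a)) = a} {g : Perm α}
    (hg : g ∈ rhoSub ρ h3) : g ^ 3 = 1 := by
  obtain ⟨hg1, hg2⟩ := hg
  ext a
  simp only [pow_succ, pow_zero, one_mul, Perm.mul_apply, Perm.one_apply]
  rcases hg2 a with h | h | h <;> simp [h, hg1, h3]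

theorem rhoSub_isPGroup (ρ : Perm α) (h3 : ∀ a, ρ (ρ (ρ a)) = a) : IsPGroup 3 (rhoSub ρ h3) := by
  intro g
  refine ⟨1, ?_⟩
  apply Subtype.ext
  rw [pow_one]
  exact rhoSub_cube g.2

theorem exists_rho : ∃ ρ : Perm α, (∀ a, ρ (ρ (ρ a)) = a) ∧
    (Finset.univ \ ρ.support).card ≤ 2 := by
  obtain ⟨ρ, hρ⟩ : ∃ ρ : Perm α, ρ.cycleType = Multiset.replicate (Fintype.card α / 3) 3 := by
    rw [Equiv.Perm.exists_with_cycleType_iff]
    constructor
    · rw [Multiset.sum_replicate, smul_eq_mul]; omega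
    · intro a ha
      rw [Multiset.eq_of_mem_replicate ha]; norm_num
  refine ⟨ρ, ?_, ?_⟩
  · have h1 : orderOf ρ ∣ 3 := by
      rw [← lcm_cycleType, hρ]
      apply Multiset.lcm_dvd.mpr
      intro a ha
      rw [Multiset.eq_of_mem_replicate ha]
    have h2 : ρ ^ 3 = 1 := orderOf_dvd_iff_pow_eq_one.mp h1
    intro a
    have h3 := congrArg (fun f : Perm α => f a) h2
    simpa [pow_succ, Perm.mul_apply] using h3
  · have h1 := ρ.sum_cycleType
    rw [hρ, Multiset.sum_replicate, smul_eq_mul] at h1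
    rw [Finset.card_sdiff_of_subset (Finset.subset_univ _), ← h1, Finset.card_univ]
    omega

theorem exists_D (P : Sylow 3 (Perm α)) : ∃ D : Finset α, D.card ≤ 2 ∧
    ∀ a ∉ D, ∃ c ∈ (P : Subgroup (Perm α)), IsThreeCycle c ∧ c a ≠ a := by
  classical
  obtain ⟨ρ, h3, hc⟩ := exists_rho (α := α)
  have : Fact (Nat.Prime 3) := ⟨Nat.prime_three⟩
  obtain ⟨P', hP'⟩ := (rhoSub_isPGroup ρ h3).exists_le_sylow
  obtain ⟨g, hg⟩ := MulAction.exists_smul_eq (Perm α) P' P
  refine ⟨(Finset.univ \ ρ.support).map g.toEmbedding, by rwa [Finset.card_map], ?_⟩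
  intro a ha
  have hb : ρ (g⁻¹ a) ≠ g⁻¹ a := by
    intro hcon
    apply ha
    rw [Finset.mem_map]
    refine ⟨g⁻¹ a, ?_, g.apply_symm_apply a⟩
    rw [Finset.mem_sdiff, Perm.mem_support, not_not]
    exact ⟨Finset.mem_univ _, hcon⟩
  set b := g⁻¹ a with hbd
  set c := ρ.cycleOf b with hcd
  have hcm : c ∈ rhoSub ρ h3 := by
    constructor
    · intro d
      rw [hcd, cycleOf_apply, cycleOf_apply]
      by_cases hs : ρ.SameCycle b d
      · rw [if_pos hs, if_pos (sameCycle_apply_right.mpr hs)]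
      · rw [if_neg hs, if_neg (fun h => hs (sameCycle_apply_right.mp h))]
    · intro d
      rw [hcd, cycleOf_apply]
      split_ifs
      · right; left; rfl
      · left; rfl
  have hcb : c b ≠ b := by rw [hcd, cycleOf_apply_self]; exact hb
  have hc3 : IsThreeCycle c := by
    have h1 : IsCycle c := isCycle_cycleOf ρ hb
    have h2 : orderOf c = 3 := by
      rcases (Nat.dvd_prime Nat.prime_three).mp (orderOf_dvd_of_pow_eq_one (rhoSub_cube hcm)) with h | h
      · exfalso
        rw [orderOf_eq_one_iff] at h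
        apply hcb; rw [h]; rfl
      · exact h
    rw [← card_support_eq_three_iff, ← h1.orderOf, h2]
  refine ⟨g * c * g⁻¹, ?_, ?_, ?_⟩
  · rw [← hg]
    exact Subgroup.smul_mem_pointwise_smul c (MulAut.conj g) (P' : Subgroup (Perm α)) (hP' hcm)
  · rw [← card_support_eq_three_iff, card_support_conj, card_support_eq_three_iff]
    exact hc3
  · rw [Perm.mul_apply, Perm.mul_apply]
    intro h
    apply hcb
    rw [hbd] at *
    have h4 := congrArg (fun x => g⁻¹ x) h
    simpa using h4

end syl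

section main

variable {H : Subgroup (Perm α)}

/-- the subgroup generated by the 3-cycles of `H` -/
def N3 (H : Subgroup (Perm α)) : Subgroup (Perm α) := closure {c | c ∈ H ∧ IsThreeCycle c}

theorem N3_le : N3 H ≤ H := (closure_le H).mpr fun _ h => h.1

theorem le_norm_N3 : H ≤ normalizer (N3 H : Set (Perm α)) := by
  intro h hh
  have key : ∀ h ∈ H, N3 H ≤ (N3 H).comap (MulAut.conj h).toMonoidHom := by
    intro h hh
    rw [N3, closure_le]
    rintro c ⟨hc, hc3⟩
    show h * c * h⁻¹ ∈ Subgroup.closure _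
    apply Subgroup.subset_closure
    refine ⟨mul_mem (mul_mem hh hc) (inv_mem hh), ?_⟩
    rw [← card_support_eq_three_iff, card_support_conj, card_support_eq_three_iff]
    exact hc3
  rw [mem_normalizer_iff]
  intro x
  constructor
  · intro hx; exact key h hh hx
  · intro hx
    have := key h⁻¹ (inv_mem hh) hx
    have h2 : h⁻¹ * (h * x * h⁻¹) * h⁻¹⁻¹ ∈ N3 H := this
    have e : h⁻¹ * (h * x * h⁻¹) * h⁻¹⁻¹ = x := by group
    rwa [e] at h2

theorem N3_le_norm (x : α) : N3 H ≤ normalizer (altOn (cmp H x) : Set (Perm α)) := by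
  rw [N3, closure_le]
  rintro c ⟨hc, hc3⟩
  by_cases h : ∃ y ∈ cmp H x, c y ≠ y
  · obtain ⟨y, hy, hcy⟩ := h
    apply Subgroup.le_normalizer
    refine ⟨?_, supp_le hc hc3 hy hcy⟩
    rw [mem_alternatingGroup]
    exact hc3.sign
  · push Not at h
    apply centralizer_le_normalizer
    rw [mem_centralizer_iff]
    intro σ hσ
    exact commute_altOn hσ.2 h

/-- the class groups are subnormal -/
theorem sn {x : α} (hx : ∃ c ∈ H, IsThreeCycle c ∧ c x ≠ x) :
    ((altOn (cmp H x)).subgroupOf H).IsSubnormal := by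
  classical
  have hAH := altOn_cmp_le hx
  have hAN : altOn (cmp H x) ≤ N3 H := by
    rw [altOn_eq, ← closure_three_cycles_eq_alternating, MonoidHom.map_closure, N3, closure_le]
    rintro _ ⟨c, hc, rfl⟩
    have hc' : IsThreeCycle (ofSubtype c) := by
      rw [← card_support_eq_three_iff, support_ofSubtype, Finset.card_map,
        card_support_eq_three_iff]
      exact hc
    apply Subgroup.subset_closure
    refine ⟨?_, hc'⟩
    apply hAH
    exact ⟨mem_alternatingGroup.mpr hc'.sign, fun y hy => ofSubtype_apply_of_not_mem c hy⟩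
  have h1 : ((N3 H).subgroupOf H).Normal := by
    rw [normal_subgroupOf_iff_le_normalizer N3_le]
    exact le_norm_N3
  have hAN' : (altOn (cmp H x)).subgroupOf H ≤ (N3 H).subgroupOf H :=
    fun y hy => mem_subgroupOf.mpr (hAN (mem_subgroupOf.mp hy))
  apply H26.Subnormal.of_normal_subgroupOf h1.isSubnormal hAN'
  rw [normal_subgroupOf_iff_le_normalizer hAN']
  intro y hy
  have h3 := N3_le_norm x (mem_subgroupOf.mp hy)
  rw [mem_normalizer_iff] at h3 ⊢
  intro z
  exact h3 z

theorem altOn_solv {Ω : Set α} (h : Ω.ncard ≤ 4) : Group.IsSolvable (altOn Ω) := by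
  classical
  have h1 : Nat.card (altOn Ω) ∣ 24 := by
    obtain ⟨e⟩ := altOn_iso Ω (m := Fintype.card ↥Ω) rfl
    rw [Nat.card_congr e.toEquiv]
    have h2 : Fintype.card ↥Ω ≤ 4 := by
      rw [← Nat.card_eq_fintype_card]; exact h
    have h3 : Nat.card (alternatingGroup (Fin (Fintype.card ↥Ω))) ∣ Nat.card (Perm (Fin (Fintype.card ↥Ω))) :=
      Subgroup.card_subgroup_dvd_card _
    rw [Nat.card_perm, Nat.card_eq_fintype_card (α := Fin _), Fintype.card_fin] at h3
    exact h3.trans (Nat.factorial_dvd_factorial h2)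
  have h2 : Nat.card (altOn Ω) ∣ 2 ^ 3 * 3 ^ 1 := by simpa using h1
  obtain ⟨y, z, hy, hz, e⟩ := (Nat.dvd_mul).mp h2
  obtain ⟨i, -, rfl⟩ := (Nat.dvd_prime_pow Nat.prime_two).mp hy
  obtain ⟨j, -, rfl⟩ := (Nat.dvd_prime_pow Nat.prime_three).mp hz
  exact H98.DicksonSolv.solvable_of_card i j e.symm

/-- the 3-cycles of a small class centralise `F*(H)` -/
theorem small (hF : IsQuasisimple (generalizedFittingSubgroup H)) {x : α}
    (hx : ∃ c ∈ H, IsThreeCycle c ∧ c x ≠ x) (h4 : (cmp H x).ncard ≤ 4) :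
    (altOn (cmp H x)).subgroupOf H ≤ centralizer (generalizedFittingSubgroup H : Set H) ∧
      (altOn (cmp H x)).subgroupOf H ≤ generalizedFittingSubgroup H := by
  apply solv_le hF (sn hx)
  have h1 := altOn_solv h4
  have e := subgroupOfEquivOfLe (altOn_cmp_le hx)
  exact Group.isSolvable_of_isSolvable_injective (f := e.toMonoidHom) e.injective

/-- the big class -/
theorem big (hF : IsQuasisimple (generalizedFittingSubgroup H)) {x : α}
    (hx : ∃ c ∈ H, IsThreeCycle c ∧ c x ≠ x) (h5 : 5 ≤ (cmp H x).ncard) :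
    (altOn (cmp H x)).subgroupOf H = generalizedFittingSubgroup H := by
  classical
  apply eq_gF hF
  refine ⟨sn hx, ?_⟩
  have h1 : 5 ≤ Fintype.card ↥(cmp H x) := by
    rw [← Nat.card_eq_fintype_card]; exact h5
  obtain ⟨e⟩ := altOn_iso (cmp H x) rfl
  have e' := (subgroupOfEquivOfLe (altOn_cmp_le hx)).trans e
  exact H26.Quasisimple.of_mulEquiv e'.symm (isQuasisimple_alt h1)

theorem eq_of_card_two {D : Finset α} (hD : D.card ≤ 2) {a b c : α} (ha : a ∈ D) (hb : b ∈ D)
    (hc : c ∈ D) (hab : a ≠ b) (hac : a ≠ c) : b = c := by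
  by_contra hbc
  have h1 : ({a, b, c} : Finset α) ⊆ D := by
    intro x hx
    simp only [Finset.mem_insert, Finset.mem_singleton] at hx
    rcases hx with rfl | rfl | rfl <;> assumption
  have h2 := Finset.card_le_card h1
  rw [Finset.card_eq_three.mpr ⟨a, b, c, hab, hac, hbc, rfl⟩] at h2
  omega

theorem comm_two {D : Finset α} (hD : D.card ≤ 2) {e f : Perm α} (he : ∀ x ∈ D, e x ∈ D)
    (hf : ∀ x ∈ D, f x ∈ D) {a : α} (ha : a ∈ D) : e (f a) = f (e a) := by
  by_cases h1 : e a = a
  · by_cases h2 : f a = a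
    · rw [h1, h2, h1]
    · rw [h1]
      apply eq_of_card_two hD ha (he _ (hf a ha)) (hf a ha) _ (Ne.symm h2)
      intro h3
      apply h2
      apply e.injective
      rw [← h3, h1]
  · by_cases h2 : f a = a
    · rw [h2]
      symm
      apply eq_of_card_two hD ha (hf _ (he a ha)) (he a ha) _ (Ne.symm h1)
      intro h3
      apply h1
      apply f.injective
      rw [← h3, h2]
    · have h3 : e a = f a := eq_of_card_two hD ha (he a ha) (hf a ha) (Ne.symm h1) (Ne.symm h2)
      have h4 : e (e a) = a := by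
        by_contra hcon
        have := eq_of_card_two hD ha (he _ (he a ha)) (he a ha) (Ne.symm hcon) (Ne.symm h1)
        exact h1 (e.injective this)
      have h5 : f (f a) = a := by
        by_contra hcon
        have := eq_of_card_two hD ha (hf _ (hf a ha)) (hf a ha) (Ne.symm hcon) (Ne.symm h2)
        exact h2 (f.injective this)
      rw [← h3, h4, h3, h5]

theorem comm_pow {c e f : Perm α} (h3 : IsThreeCycle c) (he : ∀ x, e (c x) = c (e x))
    (hf : ∀ x, f (c x) = c (f x)) {a : α} (ha : c a ≠ a) : e (f a) = f (e a) := by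
  have h1 : c (e a) ≠ e a := by
    rw [← he]; exact fun h => ha (e.injective h)
  have h2 : c (f a) ≠ f a := by
    rw [← hf]; exact fun h => ha (f.injective h)
  rcases three_cases h3 ha h1 with h4 | h4 | h4 <;> rcases three_cases h3 ha h2 with h5 | h5 | h5 <;>
    simp [h4, h5, he, hf]

/-- some class is big when `F*(H)` is quasisimple and `H` contains a Sylow 3-subgroup -/
theorem exists_big (hF : IsQuasisimple (generalizedFittingSubgroup H)) {D : Finset α}
    (hD : D.card ≤ 2) (hH : ∀ a ∉ D, ∃ c ∈ H, IsThreeCycle c ∧ c a ≠ a) :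
    ∃ x, (∃ c ∈ H, IsThreeCycle c ∧ c x ≠ x) ∧ 5 ≤ (cmp H x).ncard := by
  classical
  by_contra hcon
  push Not at hcon
  apply H26.Quasisimple.not_isMulCommutative hF
  -- `F*(H)` centralises the 3-cycles
  have hcen : ∀ e ∈ generalizedFittingSubgroup H, ∀ c ∈ H, IsThreeCycle c → ∀ x,
      (e : Perm α) (c x) = c ((e : Perm α) x) := by
    intro e he c hc h3 x
    obtain ⟨y, hy⟩ : ∃ y, c y ≠ y := by
      by_contra hall
      push Not at hall
      have : c = 1 := Perm.ext hall
      rw [this] at h3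
      have h6 := h3.orderOf
      rw [orderOf_one] at h6
      norm_num at h6
    have h4 : (cmp H y).ncard ≤ 4 := by
      have := hcon y ⟨c, hc, h3, hy⟩
      omega
    have h5 : (⟨c, hc⟩ : H) ∈ (altOn (cmp H y)).subgroupOf H :=
      mem_subgroupOf.mpr ⟨mem_alternatingGroup.mpr h3.sign, supp_le hc h3 (self_mem y) hy⟩
    have h6 := mem_centralizer_iff.mp ((small hF ⟨c, hc, h3, hy⟩ h4).1 h5) e he
    have h7 := congrArg (fun g : H => (g : Perm α) x) h6
    simpa using h7
  set D' : Finset α := Finset.univ.filter fun a => ∀ c ∈ H, IsThreeCycle c → c a = a with hD'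
  have hD'c : D'.card ≤ 2 := by
    refine (Finset.card_le_card ?_).trans hD
    intro a ha
    by_contra hcon'
    obtain ⟨c, hc, h3, hca⟩ := hH a hcon'
    rw [hD', Finset.mem_filter] at ha
    exact hca (ha.2 c hc h3)
  have hinv : ∀ e ∈ H, ∀ a ∈ D', e a ∈ D' := by
    intro e he a ha
    rw [hD', Finset.mem_filter] at ha ⊢
    refine ⟨Finset.mem_univ _, fun c hc h3 => ?_⟩
    have h4 : IsThreeCycle (e⁻¹ * c * e⁻¹⁻¹) := by
      rw [← card_support_eq_three_iff, card_support_conj, card_support_eq_three_iff]; exact h3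
    have h5 := ha.2 _ (mul_mem (mul_mem (inv_mem he) hc) (inv_mem (inv_mem he))) h4
    rw [inv_inv, Perm.mul_apply, Perm.mul_apply, Perm.inv_eq_iff_eq] at h5
    exact h5
  refine ⟨⟨fun e f => ?_⟩⟩
  apply Subtype.ext
  apply Subtype.ext
  ext a
  show (e : Perm α) ((f : Perm α) a) = (f : Perm α) ((e : Perm α) a)
  by_cases ha : a ∈ D'
  · exact comm_two hD'c (hinv _ (e : H).2) (hinv _ (f : H).2) ha
  · rw [hD', Finset.mem_filter] at ha
    push Not at ha
    obtain ⟨c, hc, h3, hca⟩ := ha (Finset.mem_univ _)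
    exact comm_pow h3 (hcen e e.2 c hc h3) (hcen f f.2 c hc h3) hca

/-- all 3-cycles of `H` are supported on the big class -/
theorem big_all (hF : IsQuasisimple (generalizedFittingSubgroup H)) {x : α}
    (hx : ∃ c ∈ H, IsThreeCycle c ∧ c x ≠ x) (h5 : 5 ≤ (cmp H x).ncard) {y : α}
    (hy : ∃ c ∈ H, IsThreeCycle c ∧ c y ≠ y) : y ∈ cmp H x := by
  have h1 := big hF hx h5
  have h2 : (altOn (cmp H y)).subgroupOf H ≤ (altOn (cmp H x)).subgroupOf H := by
    rw [h1]
    rcases Nat.lt_or_ge (cmp H y).ncard 5 with h3 | h3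
    · exact (small hF hy (by omega)).2
    · exact (big hF hy h3).le
  obtain ⟨c, hc, h3, hcy⟩ := hy
  have h4 : (⟨c, hc⟩ : H) ∈ (altOn (cmp H y)).subgroupOf H :=
    mem_subgroupOf.mpr ⟨mem_alternatingGroup.mpr h3.sign, supp_le hc h3 (self_mem y) hcy⟩
  by_contra hcon
  exact hcy ((mem_subgroupOf.mp (h2 h4)).2 y hcon)

theorem big_iso (hF : IsQuasisimple (generalizedFittingSubgroup H)) {x : α}
    (hx : ∃ c ∈ H, IsThreeCycle c ∧ c x ≠ x) (h5 : 5 ≤ (cmp H x).ncard) :
    Nonempty (generalizedFittingSubgroup H ≃* alternatingGroup (Fin (cmp H x).ncard)) := by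
  classical
  obtain ⟨e⟩ := altOn_iso (cmp H x) (m := (cmp H x).ncard) (by
    rw [← Nat.card_eq_fintype_card]; rfl)
  have e' := (subgroupOfEquivOfLe (altOn_cmp_le hx)).trans e
  rw [big hF hx h5] at e'
  exact ⟨e'⟩

end main

end H54.ThreeCyc
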