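import Mathlib

/-!
Small general lemmas used by helper54: membership in conjugates, conjugates of Sylow subgroups.
-/
set_option autoImplicit false

namespace H54.Basic

variable {G : Type*} [Group G]

theorem mem_map_conj (g : G) (H : Subgroup G) (x : G) :
    x ∈ H.map (MulAut.conj g).toMonoidHom ↔ g⁻¹ * x * g ∈ H := by
  constructor
  · rintro ⟨y, hy, rfl⟩
    simpa [MulAut.conj_apply, mul_assoc] using hy
  · intro hx
    exact ⟨_, hx, by simp [MulAut.conj_apply, mul_assoc]⟩

theorem map_conj_mul (a b : G) (H : Subgroup G) :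
    H.map (MulAut.conj (a * b)).toMonoidHom =
      (H.map (MulAut.conj b).toMonoidHom).map (MulAut.conj a).toMonoidHom := by
  ext x
  simp only [mem_map_conj, mul_inv_rev, mul_assoc]

theorem map_conj_one (H : Subgroup G) : H.map (MulAut.conj (1 : G)).toMonoidHom = H := by
  ext x
  simp

theorem map_conj_le_map_conj (g : G) {H K : Subgroup G} (h : H ≤ K) :
    H.map (MulAut.conj g).toMonoidHom ≤ K.map (MulAut.conj g).toMonoidHom :=
  Subgroup.map_mono h

theorem map_conj_eq_iff (g : G) (H : Subgroup G) :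
    H.map (MulAut.conj g).toMonoidHom = H ↔ g ∈ Subgroup.normalizer (H : Set G) := by
  rw [Subgroup.mem_normalizer_iff]
  constructor
  · intro h x
    constructor
    · intro hx
      rw [← h, mem_map_conj]
      simpa [mul_assoc] using hx
    · intro hx
      rw [← h, mem_map_conj] at hx
      simpa [mul_assoc] using hx
  · intro h
    ext x
    rw [mem_map_conj]
    have := h (g⁻¹ * x * g)
    rw [this]
    simp [mul_assoc]

theorem mem_sylow_smul {p : ℕ} (g : G) (P : Sylow p G) (x : G) :
    x ∈ (g • P : Sylow p G) ↔ g⁻¹ * x * g ∈ P := by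
  change x ∈ ((g • P : Sylow p G) : Subgroup G) ↔ g⁻¹ * x * g ∈ (P : Subgroup G)
  rw [Sylow.coe_subgroup_smul, Subgroup.mem_pointwise_smul_iff_inv_smul_mem]
  simp [MulAut.smul_def, MulAut.conj_apply]

theorem coe_sylow_smul {p : ℕ} (g : G) (P : Sylow p G) :
    ((g • P : Sylow p G) : Subgroup G) = (P : Subgroup G).map (MulAut.conj g).toMonoidHom := by
  ext x
  rw [mem_map_conj]
  exact mem_sylow_smul g P x

theorem card_map_conj (g : G) (H : Subgroup G) :
    Nat.card ↥(H.map (MulAut.conj g).toMonoidHom) = Nat.card ↥H :=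
  Nat.card_congr (H.equivMapOfInjective _ (MulAut.conj g).injective).symm.toEquiv

theorem isPGroup_map_conj {p : ℕ} (g : G) {H : Subgroup G} (h : IsPGroup p ↥H) :
    IsPGroup p ↥(H.map (MulAut.conj g).toMonoidHom) := h.map _

theorem normalizer_map_conj (g : G) (H : Subgroup G) :
    Subgroup.normalizer ((H.map (MulAut.conj g).toMonoidHom : Subgroup G) : Set G) =
      (Subgroup.normalizer (H : Set G)).map (MulAut.conj g).toMonoidHom := by
  ext x
  rw [mem_map_conj, Subgroup.mem_normalizer_iff, Subgroup.mem_normalizer_iff]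
  constructor
  · intro h y
    have := h (g * y * g⁻¹)
    simp only [mem_map_conj] at this
    simpa [mul_assoc] using this
  · intro h y
    have := h (g⁻¹ * y * g)
    simp only [mem_map_conj]
    simpa [mul_assoc] using this

theorem centralizer_map_conj (g : G) (H : Subgroup G) :
    Subgroup.centralizer ((H.map (MulAut.conj g).toMonoidHom : Subgroup G) : Set G) =
      (Subgroup.centralizer (H : Set G)).map (MulAut.conj g).toMonoidHom := by
  ext x
  rw [mem_map_conj, Subgroup.mem_centralizer_iff, Subgroup.mem_centralizer_iff]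
  constructor
  · intro h y hy
    have := h (g * y * g⁻¹) (by
      simp only [SetLike.mem_coe, mem_map_conj]
      simpa [mul_assoc] using hy)
    have h2 : y * (g⁻¹ * x * g) = g⁻¹ * (g * y * g⁻¹ * x) * g := by group
    rw [h2, this]
    group
  · intro h y hy
    simp only [SetLike.mem_coe, mem_map_conj] at hy
    have := h (g⁻¹ * y * g) hy
    have h2 : y * x = g * (g⁻¹ * y * g * (g⁻¹ * x * g)) * g⁻¹ := by group
    rw [h2, this]
    group

/-- `A ≤ N(B)` and `B ≤ N(B)`, so the join of `A` and `B` normalizes `B`. -/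
theorem sup_le_normalizer {A B : Subgroup G} (h : A ≤ Subgroup.normalizer (B : Set G)) :
    A ⊔ B ≤ Subgroup.normalizer (B : Set G) :=
  sup_le h Subgroup.le_normalizer

theorem inv_mul_mem_of_mem_normalizer {H : Subgroup G} {g : G}
    (hg : g ∈ Subgroup.normalizer (H : Set G)) {x : G} (hx : x ∈ H) : g⁻¹ * x * g ∈ H := by
  have := (Subgroup.mem_normalizer_iff.mp (inv_mem hg) x).mp hx
  simpa using this

theorem mul_inv_mem_of_mem_normalizer {H : Subgroup G} {g : G}
    (hg : g ∈ Subgroup.normalizer (H : Set G)) {x : G} (hx : x ∈ H) : g * x * g⁻¹ ∈ H :=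
  (Subgroup.mem_normalizer_iff.mp hg x).mp hx

/-- A criterion for being in the normalizer (finite group or not): both conjugations stay inside. -/
theorem mem_normalizer_of_conj {H : Subgroup G} {g : G} (h1 : ∀ x ∈ H, g * x * g⁻¹ ∈ H)
    (h2 : ∀ x ∈ H, g⁻¹ * x * g ∈ H) : g ∈ Subgroup.normalizer (H : Set G) := by
  rw [Subgroup.mem_normalizer_iff]
  intro x
  constructor
  · exact h1 x
  · intro hx
    have := h2 _ hx
    simpa [mul_assoc] using this

/-- A subgroup `K` normalizes `H` as soon as `k x k⁻¹ ∈ H` for all `k ∈ K`, `x ∈ H`. -/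
theorem le_normalizer_of_conj {H K : Subgroup G} (h : ∀ k ∈ K, ∀ x ∈ H, k * x * k⁻¹ ∈ H) :
    K ≤ Subgroup.normalizer (H : Set G) := by
  intro k hk
  refine mem_normalizer_of_conj (h k hk) ?_
  intro x hx
  have := h k⁻¹ (inv_mem hk) x hx
  simpa using this

/-- If `A` normalizes `B`, elements of `B ⊔ A` are products. -/
theorem mem_sup_iff {A B : Subgroup G} (h : A ≤ Subgroup.normalizer (B : Set G)) {x : G} :
    x ∈ B ⊔ A ↔ ∃ b ∈ B, ∃ a ∈ A, b * a = x := by
  rw [← SetLike.mem_coe, Subgroup.coe_mul_of_right_le_normalizer_left B A h, Set.mem_mul]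
  simp

/-- If the `p`-subgroup `A` normalizes `B`, then an element of `B ⊔ A` of order prime to `p`
lies in `B`. -/
theorem mem_of_coprime_orderOf {p : ℕ} {A B : Subgroup G}
    (h : A ≤ Subgroup.normalizer (B : Set G)) (hA : IsPGroup p ↥A) {x : G} (hx : x ∈ B ⊔ A)
    (hc : Nat.Coprime (orderOf x) p) : x ∈ B := by
  obtain ⟨b, hb, a, ha, rfl⟩ := (mem_sup_iff h).mp hx
  have key : ∀ n : ℕ, ∃ b' ∈ B, (b * a) ^ n = b' * a ^ n := by
    intro n
    induction n with
    | zero => exact ⟨1, B.one_mem, by simp⟩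
    | succ n ih =>
      obtain ⟨b', hb', h'⟩ := ih
      refine ⟨b' * (a ^ n * b * (a ^ n)⁻¹), B.mul_mem hb' ?_, ?_⟩
      · exact mul_inv_mem_of_mem_normalizer (pow_mem (h ha) n) hb
      · rw [pow_succ, h', pow_succ]
        group
  obtain ⟨k, hk⟩ := hA ⟨a, ha⟩
  have hk' : a ^ p ^ k = 1 := by simpa [Subtype.ext_iff] using hk
  obtain ⟨b', hb', h'⟩ := key (p ^ k)
  rw [hk', mul_one] at h'
  have hc' : Nat.Coprime (orderOf (b * a)) (p ^ k) := hc.pow_right k
  obtain ⟨m, hm⟩ := exists_pow_eq_self_of_coprime (n := p ^ k) (x := b * a) (by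
    exact hc'.symm)
  rw [← hm, h']
  exact B.pow_mem hb' m

end H54.Basic
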