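import Mathlib
import Cfsg.Agent.Lib.H54.Basic
import Cfsg.Agent.Lib.H13.Cores
import Cfsg.Agent.Lib.H26.PxQ
import Cfsg.Agent.Lib.H26.LocalFitting

/-!
Groups of characteristic `p`: `C_H(O_p(H)) ≤ O_p(H)`, criteria with `p'`-elements.
-/
set_option autoImplicit false

open Subgroup H26.PxQ H26.LocalFitting

namespace H54.CharP

variable {G : Type*} [Group G]

/-- a subgroup all of whose `p'`-elements are trivial is a `p`-group -/
theorem isPGroup_of_forall [Finite G] {p : ℕ} [hp : Fact p.Prime] {H : Subgroup G}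
    (h : ∀ x ∈ H, (orderOf x).Coprime p → x = 1) : IsPGroup p H := by
  rintro ⟨x, hx⟩
  refine ⟨(orderOf x).factorization p, ?_⟩
  have hpos : 0 < orderOf x := orderOf_pos x
  have h1 : x ^ p ^ (orderOf x).factorization p = 1 := by
    apply h _ (H.pow_mem hx _)
    rw [orderOf_pow, Nat.gcd_eq_right (Nat.ordProj_dvd _ _)]
    exact (Nat.coprime_ordCompl hp.out hpos.ne').symm
  exact Subtype.ext (by simpa using h1)

/-- an element of a `p`-group of order prime to `p` is trivial -/
theorem eq_one_of_coprime {p : ℕ} {H : Subgroup G} (hH : IsPGroup p H) {x : G} (hx : x ∈ H)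
    (h : (orderOf x).Coprime p) : x = 1 := by
  obtain ⟨k, hk⟩ := hH ⟨x, hx⟩
  have hk' : x ^ p ^ k = 1 := by simpa [Subtype.ext_iff] using hk
  have h1 : orderOf x ∣ p ^ k := orderOf_dvd_of_pow_eq_one hk'
  exact orderOf_eq_one_iff.mp (Nat.Coprime.eq_one_of_dvd (h.pow_right k) h1)

/-- criterion for characteristic `p` of a group -/
theorem charP_of_forall [Finite G] {p : ℕ} [hp : Fact p.Prime]
    (h : ∀ x : G, (orderOf x).Coprime p → x ∈ centralizer (Cfsg.pCore p G : Set G) → x = 1) :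
    centralizer (Cfsg.pCore p G : Set G) ≤ Cfsg.pCore p G := by
  have h1 : IsPGroup p (centralizer (Cfsg.pCore p G : Set G)) :=
    isPGroup_of_forall fun x hx hc => h x hc hx
  exact H13.Cores.le_pCore inferInstance h1

theorem eq_one_of_charP [Finite G] {p : ℕ} [hp : Fact p.Prime]
    (h : centralizer (Cfsg.pCore p G : Set G) ≤ Cfsg.pCore p G) {x : G}
    (hx : (orderOf x).Coprime p) (hxc : x ∈ centralizer (Cfsg.pCore p G : Set G)) : x = 1 :=
  eq_one_of_coprime H13.Cores.isPGroup_pCore (h hxc) hx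

/-- criterion for characteristic `p` of a subgroup, in the ambient group -/
theorem charP_sub_iff [Finite G] {p : ℕ} [hp : Fact p.Prime] (L : Subgroup G) :
    centralizer (Cfsg.pCore p ↥L : Set ↥L) ≤ Cfsg.pCore p ↥L ↔
      ∀ x ∈ L, (orderOf x).Coprime p → x ∈ centralizer (pc p L : Set G) → x = 1 := by
  constructor
  · intro h x hx hxo hxc
    have h1 : (⟨x, hx⟩ : ↥L) = 1 := by
      apply eq_one_of_charP h
      · rwa [Subgroup.orderOf_mk]
      · rw [mem_centralizer_iff]
        intro y hy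
        apply Subtype.ext
        exact mem_centralizer_iff.mp hxc y ⟨y, hy, rfl⟩
    exact congrArg Subtype.val h1
  · intro h
    apply charP_of_forall
    rintro ⟨x, hx⟩ hxo hxc
    apply Subtype.ext
    refine h x hx (by rwa [Subgroup.orderOf_mk] at hxo) ?_
    rw [mem_centralizer_iff]
    rintro _ ⟨y, hy, rfl⟩
    exact congrArg Subtype.val (mem_centralizer_iff.mp hxc y hy)

theorem conj_mem_of_normal {N : Subgroup G} [hN : N.Normal] {x : G} (hx : x ∈ N) (g : G) :
    g * x * g⁻¹ ∈ N := hN.conj_mem x hx g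

/-- S2959 -/
theorem charP_of_pCore_le_normalizer [Finite G] {p : ℕ} [Fact p.Prime]
    (hG : centralizer (Cfsg.pCore p G : Set G) ≤ Cfsg.pCore p G) (L : Subgroup G)
    (hL : Cfsg.pCore p G ≤ normalizer (L : Set G)) :
    centralizer (Cfsg.pCore p ↥L : Set ↥L) ≤ Cfsg.pCore p ↥L := by
  rw [charP_sub_iff]
  intro y hy hyo hyc
  apply eq_one_of_charP hG hyo
  rw [mem_centralizer_iff]
  intro r hr
  have hRL : Cfsg.pCore p G ⊓ L ≤ pc p L := by
    apply le_pc inf_le_right
    · intro l hl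
      rw [H54.Basic.map_conj_eq_iff .. |>.symm, Subgroup.map_inf _ _ _ (MulAut.conj l).injective]
      congr 1
      · exact (H54.Basic.map_conj_eq_iff l _).mpr (by rw [normalizer_eq_top]; trivial)
      · exact (H54.Basic.map_conj_eq_iff l _).mpr (le_normalizer hl)
    · exact H13.Cores.isPGroup_pCore.to_le inf_le_left
  have hc1 : y * r * y⁻¹ * r⁻¹ ∈ Cfsg.pCore p G :=
    mul_mem (conj_mem_of_normal hr y) (inv_mem hr)
  have hc2 : y * r * y⁻¹ * r⁻¹ ∈ L := by
    have := H54.Basic.mul_inv_mem_of_mem_normalizer (hL hr) (L.inv_mem hy)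
    have h2 := L.mul_mem hy this
    simpa [mul_assoc] using h2
  have hcomm := mem_centralizer_iff.mp hyc _ (hRL ⟨hc1, hc2⟩)
  exact (commute_of_commute_commutator H13.Cores.isPGroup_pCore hyo hc1 hcomm.symm).symm

/-- S2959 inside a subgroup: if `K` has characteristic `p`, `H ≤ K` and `O_p(K)` normalizes `H`,
then `H` has characteristic `p`. -/
theorem charP_sub_of_le [Finite G] {p : ℕ} [Fact p.Prime] {H K : Subgroup G} (hHK : H ≤ K)
    (hK : centralizer (Cfsg.pCore p ↥K : Set ↥K) ≤ Cfsg.pCore p ↥K)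
    (hn : pc p K ≤ normalizer (H : Set G)) :
    centralizer (Cfsg.pCore p ↥H : Set ↥H) ≤ Cfsg.pCore p ↥H := by
  rw [charP_sub_iff] at hK ⊢
  intro y hy hyo hyc
  apply hK y (hHK hy) hyo
  rw [mem_centralizer_iff]
  intro r hr
  have hRL : pc p K ⊓ H ≤ pc p H := by
    apply le_pc inf_le_right
    · apply H54.Basic.le_normalizer_of_conj
      rintro l hl x ⟨hx1, hx2⟩
      exact ⟨H54.Basic.mul_inv_mem_of_mem_normalizer (le_normalizer_pc p K (hHK hl)) hx1,
        H.mul_mem (H.mul_mem hl hx2) (H.inv_mem hl)⟩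
    · exact (isPGroup_pc p K).to_le inf_le_left
  have hc1 : y * r * y⁻¹ * r⁻¹ ∈ pc p K :=
    mul_mem (H54.Basic.mul_inv_mem_of_mem_normalizer (le_normalizer_pc p K (hHK hy)) hr)
      (inv_mem hr)
  have hc2 : y * r * y⁻¹ * r⁻¹ ∈ H := by
    have := H54.Basic.mul_inv_mem_of_mem_normalizer (hn hr) (H.inv_mem hy)
    have h2 := H.mul_mem hy this
    simpa [mul_assoc] using h2
  have hcomm := mem_centralizer_iff.mp hyc _ (hRL ⟨hc1, hc2⟩)
  exact (commute_of_commute_commutator (isPGroup_pc p K) hyo hc1 hcomm.symm).symm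

/-- S2923 : subnormal subgroups of a group of characteristic `p` have characteristic `p` -/
theorem charP_of_isSubnormal [Finite G] {p : ℕ} [Fact p.Prime]
    (hG : centralizer (Cfsg.pCore p G : Set G) ≤ Cfsg.pCore p G) {Y : Subgroup G}
    (hY : Y.IsSubnormal) :
    centralizer (Cfsg.pCore p ↥Y : Set ↥Y) ≤ Cfsg.pCore p ↥Y := by
  induction hY with
  | top => exact charP_of_pCore_le_normalizer hG ⊤ (by rw [normalizer_eq_top]; exact le_top)
  | step H K hHK hK hn ih =>
    refine charP_sub_of_le hHK ih ?_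
    refine (pc_le p K).trans ?_
    rwa [Subgroup.normal_subgroupOf_iff_le_normalizer hHK] at hn

/-- S2960 -/
theorem centralizer_le_of_sylow [Finite G] {p : ℕ} [Fact p.Prime]
    (hG : centralizer (Cfsg.pCore p G : Set G) ≤ Cfsg.pCore p G)
    (T : Sylow p G) (Q : Subgroup G) (hQT : Q ≤ (T : Subgroup G))
    (hQn : (T : Subgroup G) ≤ normalizer (Q : Set G))
    (hC : (T : Subgroup G) ⊓ centralizer (Q : Set G) ≤ Q) : centralizer (Q : Set G) ≤ Q := by
  have hQp : IsPGroup p Q := T.2.to_le hQT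
  have hRT : Cfsg.pCore p G ≤ (T : Subgroup G) := H13.Cores.pCore_le_sylow T
  have hCp : IsPGroup p (centralizer (Q : Set G)) := by
    apply isPGroup_of_forall
    intro y hy hyo
    apply eq_one_of_charP hG hyo
    have h1 : ⁅Cfsg.pCore p G, zpowers y⁆ = ⊥ := by
      apply commutator_eq_bot_pxq (P := Q) hQp _ H13.Cores.isPGroup_pCore
      · rw [commutator_comm, commutator_eq_bot_iff_le_centralizer, zpowers_le]
        exact hy
      · rw [normalizer_eq_top]; exact le_top
      · rw [normalizer_eq_top]; exact le_top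
      · rw [commutator_comm, commutator_eq_bot_iff_le_centralizer, zpowers_le]
        refine centralizer_le ?_ hy
        exact (inf_le_inf_right _ hRT).trans hC
      · intro q hq
        exact Nat.Coprime.coprime_dvd_left (orderOf_dvd_of_mem_zpowers hq) hyo
    rw [commutator_comm, commutator_eq_bot_iff_le_centralizer, zpowers_le] at h1
    exact h1
  have hTC : (T : Subgroup G) ≤ normalizer ((centralizer (Q : Set G) : Subgroup G) : Set G) := by
    apply H54.Basic.le_normalizer_of_conj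
    intro t ht x hx
    rw [mem_centralizer_iff] at hx ⊢
    intro q hq
    have h2 := hx (t⁻¹ * q * t) (H54.Basic.inv_mul_mem_of_mem_normalizer (hQn ht) hq)
    have h3 : q * (t * x * t⁻¹) = t * (t⁻¹ * q * t * x) * t⁻¹ := by group
    rw [h3, h2]
    group
  have hTCp : IsPGroup p ↥((T : Subgroup G) ⊔ centralizer (Q : Set G)) :=
    T.2.to_sup_of_normal_right' hCp hTC
  have heq := T.3 hTCp le_sup_left
  have hCT : centralizer (Q : Set G) ≤ (T : Subgroup G) := heq ▸ le_sup_right
  exact (le_inf hCT le_rfl).trans hC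

/-- S2961 -/
theorem charP_of_sylow_normal_le [Finite G] {p : ℕ} [Fact p.Prime]
    (hG : centralizer (Cfsg.pCore p G : Set G) ≤ Cfsg.pCore p G)
    (T : Sylow p G) (Q : Subgroup G) (hQT : Q ≤ (T : Subgroup G))
    (hQn : (T : Subgroup G) ≤ normalizer (Q : Set G))
    (hC : (T : Subgroup G) ⊓ centralizer (Q : Set G) ≤ Q) (L : Subgroup G) (hQL : Q ≤ L) :
    centralizer (Cfsg.pCore p ↥L : Set ↥L) ≤ Cfsg.pCore p ↥L := by
  classical
  have hCQ := centralizer_le_of_sylow hG T Q hQT hQn hC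
  have hQp : IsPGroup p Q := T.2.to_le hQT
  set R := Cfsg.pCore p G with hR
  have hRp : IsPGroup p R := H13.Cores.isPGroup_pCore
  have hRT : R ≤ (T : Subgroup G) := H13.Cores.pCore_le_sylow T
  rw [charP_sub_iff]
  set C : Subgroup G := L ⊓ centralizer (pc p L : Set G) with hCdef
  set D : Subgroup G := opUp p C with hDdef
  have hDC : D ≤ C := opUp_le p C
  have hDL : D ≤ L := hDC.trans inf_le_left
  have hLC : L ≤ normalizer (C : Set G) := by
    apply H54.Basic.le_normalizer_of_conj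
    intro l hl x hx
    refine ⟨L.mul_mem (L.mul_mem hl hx.1) (L.inv_mem hl), ?_⟩
    have hx2 := mem_centralizer_iff.mp hx.2
    refine mem_centralizer_iff.mpr ?_
    intro q hq
    have h2 := hx2 (l⁻¹ * q * l)
      (H54.Basic.inv_mul_mem_of_mem_normalizer (le_normalizer_pc p L hl) hq)
    have h3 : q * (l * x * l⁻¹) = l * (l⁻¹ * q * l * x) * l⁻¹ := by group
    rw [h3, h2]
    group
  have hLD : L ≤ normalizer (D : Set G) := hLC.trans (normalizer_le_normalizer_opUp p C)
  -- the normal subgroup E of N_G(D)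
  have hCD : ∀ g ∈ normalizer (D : Set G), ∀ c ∈ centralizer (D : Set G),
      g * c * g⁻¹ ∈ centralizer (D : Set G) := by
    intro g hg c hc
    rw [mem_centralizer_iff] at hc ⊢
    intro d hd
    have h2 := hc (g⁻¹ * d * g) (H54.Basic.inv_mul_mem_of_mem_normalizer hg hd)
    have h3 : d * (g * c * g⁻¹) = g * (g⁻¹ * d * g * c) * g⁻¹ := by group
    rw [h3, h2]
    group
  let E : Subgroup G :=
    { carrier := {g | g ∈ normalizer (D : Set G) ∧ ∀ r ∈ R, g * r * g⁻¹ * r⁻¹ ∈
        centralizer (D : Set G)}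
      mul_mem' := by
        rintro a b ⟨ha, ha'⟩ ⟨hb, hb'⟩
        refine ⟨mul_mem ha hb, fun r hr => ?_⟩
        have h1 := hCD a ha _ (hb' r hr)
        have h2 := mul_mem h1 (ha' r hr)
        have h3 : a * (b * r * b⁻¹ * r⁻¹) * a⁻¹ * (a * r * a⁻¹ * r⁻¹) =
          a * b * r * (a * b)⁻¹ * r⁻¹ := by group
        rwa [h3] at h2
      one_mem' := ⟨one_mem _, fun r _ => by simp⟩
      inv_mem' := by
        rintro a ⟨ha, ha'⟩
        refine ⟨inv_mem ha, fun r hr => ?_⟩
        have h1 := hCD a⁻¹ (inv_mem ha) _ (inv_mem (ha' r hr))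
        have h3 : a⁻¹ * (a * r * a⁻¹ * r⁻¹)⁻¹ * a⁻¹⁻¹ = a⁻¹ * r * a⁻¹⁻¹ * r⁻¹ := by group
        rwa [h3] at h1 }
  have hEn : ∀ g ∈ normalizer (D : Set G), ∀ e ∈ E, g * e * g⁻¹ ∈ E := by
    rintro g hg e ⟨he, he'⟩
    refine ⟨mul_mem (mul_mem hg he) (inv_mem hg), fun r hr => ?_⟩
    have hr' : g⁻¹ * r * g ∈ R := by
      have := conj_mem_of_normal hr g⁻¹
      rwa [inv_inv] at this
    have h1 := hCD g hg _ (he' _ hr')
    have h3 : g * (e * (g⁻¹ * r * g) * e⁻¹ * (g⁻¹ * r * g)⁻¹) * g⁻¹ =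
      g * e * g⁻¹ * r * (g * e * g⁻¹)⁻¹ * r⁻¹ := by group
    rwa [h3] at h1
  have hRL : R ⊓ L ≤ pc p L := by
    apply le_pc inf_le_right
    · apply H54.Basic.le_normalizer_of_conj
      rintro l hl x ⟨hx1, hx2⟩
      exact ⟨conj_mem_of_normal hx1 l, L.mul_mem (L.mul_mem hl hx2) (L.inv_mem hl)⟩
    · exact hRp.to_le inf_le_left
  have hpcD : pc p L ≤ centralizer (D : Set G) := by
    intro x hx
    rw [mem_centralizer_iff]
    intro d hd
    exact (mem_centralizer_iff.mp (hDC hd).2 x hx).symm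
  have hQE : Q ≤ E := by
    intro q hq
    refine ⟨hLD (hQL hq), fun r hr => hpcD (hRL (Subgroup.mem_inf.mpr ⟨?_, ?_⟩))⟩
    · exact mul_mem (conj_mem_of_normal hr q) (inv_mem hr)
    · have h1 : r * q⁻¹ * r⁻¹ ∈ Q :=
        H54.Basic.mul_inv_mem_of_mem_normalizer (hQn (hRT hr)) (Q.inv_mem hq)
      have h2 := L.mul_mem (hQL hq) (hQL h1)
      simpa [mul_assoc] using h2
  -- E ∩ D is a p-group normal in L
  have hED : IsPGroup p ↥(E ⊓ D : Subgroup G) := by
    apply isPGroup_of_forall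
    rintro d ⟨⟨-, hd⟩, hdD⟩ hdo
    apply eq_one_of_charP hG hdo
    rw [mem_centralizer_iff]
    intro r hr
    refine (commute_of_commute_commutator hRp hdo
      (mul_mem (conj_mem_of_normal hr d) (inv_mem hr)) ?_).symm
    exact mem_centralizer_iff.mp (hd r hr) d hdD
  have hEDpc : E ⊓ D ≤ pc p L := by
    apply le_pc (inf_le_right.trans hDL) _ hED
    apply H54.Basic.le_normalizer_of_conj
    rintro l hl x ⟨hx1, hx2⟩
    exact ⟨hEn l (hLD hl) x hx1, H54.Basic.mul_inv_mem_of_mem_normalizer (hLD hl) hx2⟩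
  -- Q centralizes D
  have hQD : D ≤ centralizer (Q : Set G) := by
    rw [hDdef, opUp, closure_le]
    rintro d ⟨hdC, hdo⟩
    have hdD : d ∈ D := mem_opUp hdC hdo
    rw [SetLike.mem_coe, mem_centralizer_iff]
    intro q hq
    set c := q * d * q⁻¹ * d⁻¹ with hc
    have hcD : c ∈ D :=
      D.mul_mem (H54.Basic.mul_inv_mem_of_mem_normalizer (hLD (hQL hq)) hdD) (D.inv_mem hdD)
    have hcE : c ∈ E := by
      have h1 := hEn d (hLD (hDL hdD)) _ (E.inv_mem (hQE hq))
      have h2 := E.mul_mem (hQE hq) h1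
      have h3 : q * (d * q⁻¹ * d⁻¹) = c := by rw [hc]; group
      rwa [h3] at h2
    have hcpc : c ∈ pc p L := hEDpc ⟨hcE, hcD⟩
    have hcomm : Commute c d := (mem_centralizer_iff.mp (hpcD hcpc) d hdD).symm
    -- c = (q d q⁻¹) * d⁻¹ with commuting factors of order prime to p
    have hcd : q * d * q⁻¹ = c * d := by rw [hc]; group
    have ho : orderOf (c * d) = orderOf d := by
      rw [← hcd]
      have := orderOf_injective (MulAut.conj q).toMonoidHom (MulAut.conj q).injective d
      simpa [MulAut.conj_apply] using this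
    have hcp : c = 1 := by
      apply eq_one_of_coprime (isPGroup_pc p L) hcpc
      have h4 : Commute (c * d) d⁻¹ := (hcomm.mul_left (Commute.refl d)).inv_right
      have h5 : orderOf c ∣ Nat.lcm (orderOf (c * d)) (orderOf d⁻¹) := by
        have := h4.orderOf_mul_dvd_lcm
        simpa using this
      rw [ho, orderOf_inv, Nat.lcm_self] at h5
      exact Nat.Coprime.coprime_dvd_left h5 hdo
    rw [hcp] at hc
    have h6 : q * d * q⁻¹ * d⁻¹ = 1 := hc.symm
    rw [mul_inv_eq_one, mul_inv_eq_iff_eq_mul] at h6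
    exact h6
  have hDp : IsPGroup p D := hQp.to_le (hQD.trans hCQ)
  intro y hy hyo hyc
  exact eq_one_of_coprime hDp (mem_opUp ⟨hy, hyc⟩ hyo) hyo

end H54.CharP
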