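import Mathlib
import Cfsg.Agent.Lib.H54.CharP
import Cfsg.Agent.Lib.H26.GenFitting

/-!
Characteristic `p` of local subgroups (S2922).
-/
set_option autoImplicit false

open Subgroup H26.PxQ H26.LocalFitting H54.CharP

namespace H54.CharP2

variable {G : Type*} [Group G]

theorem normalizer_le_normalizer_centralizer (B : Subgroup G) :
    normalizer (B : Set G) ≤ normalizer ((centralizer (B : Set G) : Subgroup G) : Set G) := by
  apply H54.Basic.le_normalizer_of_conj
  intro t ht x hx
  rw [mem_centralizer_iff] at hx ⊢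
  intro q hq
  have h2 := hx (t⁻¹ * q * t) (H54.Basic.inv_mul_mem_of_mem_normalizer ht hq)
  have h3 : q * (t * x * t⁻¹) = t * (t⁻¹ * q * t * x) * t⁻¹ := by group
  rw [h3, h2]
  group

theorem charP_centralizer [Finite G] {p : ℕ} [Fact p.Prime] {B N : Subgroup G}
    (hB : IsPGroup p B) (hBN : B ≤ N) (hCN : centralizer (B : Set G) ≤ N)
    (hN : centralizer (Cfsg.pCore p ↥N : Set ↥N) ≤ Cfsg.pCore p ↥N) :
    centralizer (Cfsg.pCore p ↥(centralizer (B : Set G)) : Set ↥(centralizer (B : Set G))) ≤
      Cfsg.pCore p ↥(centralizer (B : Set G)) := by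
  rw [charP_sub_iff] at hN ⊢
  intro y hy hyo hyc
  apply hN y (hCN hy) hyo
  have h1 : pc p N ⊓ centralizer (B : Set G) ≤ pc p (centralizer (B : Set G)) := by
    apply le_pc inf_le_right
    · apply H54.Basic.le_normalizer_of_conj
      rintro l hl x ⟨hx1, hx2⟩
      exact Subgroup.mem_inf.mpr ⟨H54.Basic.mul_inv_mem_of_mem_normalizer (le_normalizer_pc p N (hCN hl)) hx1,
        mul_mem (mul_mem hl hx2) (inv_mem hl)⟩
    · exact (isPGroup_pc p N).to_le inf_le_left
  have h2 : ⁅pc p N, zpowers y⁆ = ⊥ := by
    apply commutator_eq_bot_pxq (P := B) hB _ (isPGroup_pc p N)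
    · rw [commutator_comm, commutator_eq_bot_iff_le_centralizer, zpowers_le]
      exact hy
    · exact hBN.trans (le_normalizer_pc p N)
    · rw [zpowers_le]
      exact le_normalizer_pc p N (hCN hy)
    · rw [commutator_comm, commutator_eq_bot_iff_le_centralizer, zpowers_le]
      exact centralizer_le h1 hyc
    · intro q hq
      exact Nat.Coprime.coprime_dvd_left (orderOf_dvd_of_mem_zpowers hq) hyo
  rw [commutator_comm, commutator_eq_bot_iff_le_centralizer, zpowers_le] at h2
  exact h2

theorem charP_normalizer_of_centralizer [Finite G] {p : ℕ} [Fact p.Prime] {B : Subgroup G}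
    (hB : IsPGroup p B)
    (hC : centralizer (Cfsg.pCore p ↥(centralizer (B : Set G)) : Set ↥(centralizer (B : Set G))) ≤
      Cfsg.pCore p ↥(centralizer (B : Set G))) :
    centralizer (Cfsg.pCore p ↥(normalizer (B : Set G)) : Set ↥(normalizer (B : Set G))) ≤
      Cfsg.pCore p ↥(normalizer (B : Set G)) := by
  rw [charP_sub_iff] at hC ⊢
  intro y hy hyo hyc
  have hBpc : B ≤ pc p (normalizer (B : Set G)) := le_pc le_normalizer le_rfl hB
  have hyB : y ∈ centralizer (B : Set G) := centralizer_le hBpc hyc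
  refine hC y hyB hyo (centralizer_le ?_ hyc)
  apply le_pc ((pc_le _ _).trans (centralizer_le_normalizer _)) _ (isPGroup_pc _ _)
  exact (normalizer_le_normalizer_centralizer B).trans (normalizer_le_normalizer_pc p _)

end H54.CharP2
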