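import Mathlib
import Cfsg.Agent.Lib.H54.ExtraNine1

set_option autoImplicit false
set_option linter.unusedSectionVars false
set_option linter.dupNamespace false

/-! A noncyclic abelian `p`-group of automorphisms of a 2-group whose nontrivial elements fix at most
one involution: orders. -/

namespace H54.ExtraNine

open Subgroup
open scoped commutatorElement

variable {W : Type*} [Group W] [Finite W] {p : ℕ} [hp : Fact p.Prime] {E : Subgroup (MulAut W)}
  {z : W}

section cen

variable (hz : Cen z)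
include hz

theorem zz : z * z = 1 := by rw [← pow_two]; exact hz.sq

theorem ord_z : orderOf z = 2 := orderOf_two hz.ne hz.sq

variable (h : Hy p E) (hzE : ∀ e ∈ E, e z = z)
include h hzE

theorem sqz {e : MulAut W} (he : e ∈ E) (he1 : e ≠ 1) {x : W} (hx : e x = x) (h1 : x ≠ 1)
    (h2 : x ≠ z) : x * x = z := by
  rcases hz.pow x with h3 | h3
  · exact absurd (h.fix e he he1 x z (orderOf_two h1 h3) (ord_z hz) hx (hzE e he)) h2
  · rw [← pow_two]; exact h3

theorem anti {e : MulAut W} (he : e ∈ E) (he1 : e ≠ 1) {a b : W} (ha : e a = a) (hb : e b = b)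
    (a1 : a ≠ 1) (a2 : a ≠ z) (b1 : b ≠ 1) (b2 : b ≠ z) (b3 : b ≠ a) (b4 : b ≠ a * z) :
    a * b = b * a * z := by
  rcases hz.comm a b with h1 | h1
  · exfalso
    have sa := sqz hz h hzE he he1 ha a1 a2
    have sb := sqz hz h hzE he he1 hb b1 b2
    have h2 : (a * b) * (a * b) = 1 := by
      calc (a * b) * (a * b) = a * (b * a) * b := by group
        _ = a * (a * b) * b := by rw [h1]
        _ = (a * a) * (b * b) := by group
        _ = 1 := by rw [sa, sb, zz hz]
    have h3 : e (a * b) = a * b := by rw [map_mul, ha, hb]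
    have ainv : a⁻¹ = a * z := by
      rw [inv_eq_iff_mul_eq_one, ← mul_assoc, sa, zz hz]
    by_cases h4 : a * b = 1
    · apply b4
      rw [← ainv]
      exact (eq_inv_of_mul_eq_one_right h4)
    · have h5 : a * b = z := by
        by_contra h6
        have := sqz hz h hzE he he1 h3 h4 h6
        rw [h2] at this
        exact hz.ne this.symm
      apply b3
      have : b = a⁻¹ * z := by rw [← h5]; group
      rw [this, ainv, mul_assoc, zz hz, mul_one]
  · exact h1

theorem eight {e : MulAut W} (he : e ∈ E) (he1 : e ≠ 1) {a b c : W} (ha : e a = a) (hb : e b = b)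
    (hc : e c = c) (a1 : a ≠ 1) (a2 : a ≠ z) (b1 : b ≠ 1) (b2 : b ≠ z) (b3 : b ≠ a)
    (b4 : b ≠ a * z) :
    (c = 1 ∨ c = z) ∨ (c = a ∨ c = a * z) ∨ (c = b ∨ c = b * z) ∨ (c = a * b ∨ c = a * b * z) := by
  by_contra hcon
  push Not at hcon
  obtain ⟨⟨c1, c2⟩, ⟨c3, c4⟩, ⟨c5, c6⟩, ⟨c7, c8⟩⟩ := hcon
  have hab := anti hz h hzE he he1 ha hb a1 a2 b1 b2 b3 b4
  have hac := anti hz h hzE he he1 ha hc a1 a2 c1 c2 c3 c4
  have sb := sqz hz h hzE he he1 hb b1 b2
  have binv : b⁻¹ = b * z := by rw [inv_eq_iff_mul_eq_one, ← mul_assoc, sb, zz hz]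
  have hba : b * a = a * b * z := by rw [hab, mul_assoc, zz hz, mul_one]
  have hbc : ∀ w, b * c = w → c = b * z * w := by
    intro w hw
    rw [← binv, ← hw]; group
  have hzc := hz.cen
  have h1 := anti hz h hzE he he1 (b := b * c) ha (by rw [map_mul, hb, hc]) a1 a2
    (by
      intro h2
      apply c6
      rw [hbc _ h2, mul_one])
    (by
      intro h2
      apply c5
      rw [hbc _ h2, mul_assoc, zz hz, mul_one])
    (by
      intro h2
      apply c7
      rw [hbc _ h2, mul_assoc, ← hzc a, ← mul_assoc, hba, mul_assoc, zz hz, mul_one])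
    (by
      intro h2
      apply c8
      rw [hbc _ h2, mul_assoc b z, ← mul_assoc z a z, ← hzc a, mul_assoc a z z, zz hz, mul_one, hba])
  have h2 : a * (b * c) = b * c * a := by
    calc a * (b * c) = (a * b) * c := by group
      _ = b * a * z * c := by rw [hab]
      _ = b * (a * (z * c)) := by group
      _ = b * (a * (c * z)) := by rw [hzc c]
      _ = b * ((a * c) * z) := by group
      _ = b * (c * a * z * z) := by rw [hac]
      _ = b * c * a * (z * z) := by group
      _ = b * c * a := by rw [zz hz, mul_one]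
  rw [h2] at h1
  exact hz.ne (mul_eq_left.mp h1.symm)

/-- moved points -/
theorem mv {e f : MulAut W} (he : e ∈ E) (he1 : e ≠ 1) (hf : f ∈ E) {a : W} (ha : e a = a)
    (hfa : f a ≠ a) : a ≠ 1 ∧ a ≠ z ∧ f a ≠ 1 ∧ f a ≠ z ∧ f a ≠ a * z ∧
      (f (f a) = a * f a ∨ f (f a) = a * f a * z) ∧ f (f (f a)) = a := by
  have hfz := hzE f hf
  have a1 : a ≠ 1 := by rintro rfl; exact hfa (map_one f)
  have a2 : a ≠ z := by rintro rfl; exact hfa hfz
  have b1 : f a ≠ 1 := by
    intro h1
    apply a1
    apply f.injective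
    rw [h1, map_one]
  have b2 : f a ≠ z := by
    intro h1
    apply a2
    apply f.injective
    rw [h1, hfz]
  have b4 : f a ≠ a * z := fun h1 => hz.ne (h.fix_mul hf h1 hfz)
  have hb : e (f a) = f a := h.comm_fix he hf ha
  have hc : e (f (f a)) = f (f a) := h.comm_fix he hf hb
  have hab := anti hz h hzE he he1 ha hb a1 a2 b1 b2 hfa b4
  have hba : f a * a = a * f a * z := by rw [hab, mul_assoc, zz hz, mul_one]
  have sb := sqz hz h hzE he he1 hb b1 b2
  have key : f (f a) = a * f a ∨ f (f a) = a * f a * z := by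
    rcases eight hz h hzE he he1 ha hb hc a1 a2 b1 b2 hfa b4 with (h1 | h1) | (h1 | h1) |
      (h1 | h1) | h1
    · exact absurd (f.injective (h1.trans (map_one f).symm)) b1
    · exact absurd (f.injective (h1.trans hfz.symm)) b2
    · exfalso
      have h2 : f (a * f a) = (a * f a) * z := by rw [map_mul, h1, hba]
      exact hz.ne (h.fix_mul hf h2 hfz)
    · exfalso
      have h2 : (f * f) a = a * z := h1
      have h3 : (f * f) z = z := by
        show f (f z) = z
        rw [hfz, hfz]
      exact hz.ne (h.fix_mul (mul_mem hf hf) h2 h3)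
    · exact absurd (f.injective h1) hfa
    · exact absurd (h.fix_mul hf h1 hfz) hz.ne
    · exact h1
  refine ⟨a1, a2, b1, b2, b4, key, ?_⟩
  have h5 : f a * (a * f a) = a := by
    calc f a * (a * f a) = (f a * a) * f a := by group
      _ = a * f a * z * f a := by rw [hba]
      _ = a * f a * (f a * z) := by rw [mul_assoc _ z, ← hz.cen]
      _ = a * (f a * f a) * z := by group
      _ = a * (z * z) := by rw [sb, mul_assoc]
      _ = a := by rw [zz hz, mul_one]
  rcases key with h1 | h1
  · rw [h1, map_mul, h1, h5]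
  · rw [h1, map_mul, map_mul, h1, hfz]
    calc f a * (a * f a * z) * z = f a * (a * f a) * (z * z) := by group
      _ = a := by rw [h5, zz hz, mul_one]

theorem cube {f : MulAut W} (hf : f ∈ E) : f ^ 3 = 1 := by
  have h1 : (⊤ : Subgroup W) ≤ fix1 (f ^ 3) := by
    apply h.gen ⊤ _ (fun _ _ _ _ => mem_top _)
    intro e he he1 x _ hx
    show (f ^ 3) x = x
    have h2 : (f ^ 3) x = f (f (f x)) := by
      rw [pow_succ, pow_two]; rfl
    rw [h2]
    by_cases hfx : f x = x
    · rw [hfx, hfx, hfx]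
    · exact (mv hz h hzE he he1 hf hx hfx).2.2.2.2.2.2
  ext x
  exact h1 (mem_top x)

theorem p_three : p = 3 := by
  obtain ⟨e, he, he1⟩ := h.ne_bot
  obtain ⟨k, hk⟩ := (IsPGroup.iff_orderOf.mp h.pgE) ⟨e, he⟩
  rw [Subgroup.orderOf_mk] at hk
  have := Fact.mk Nat.prime_three
  have h3 : orderOf e = 3 := orderOf_eq_prime (cube hz h hzE he) he1
  rw [h3] at hk
  have hk0 : k ≠ 0 := by rintro rfl; norm_num at hk
  have : p ∣ 3 := hk ▸ dvd_pow_self p hk0
  exact (Nat.prime_dvd_prime_iff_eq hp.out Nat.prime_three).mp this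

theorem exists_data : ∃ e ∈ E, e ≠ 1 ∧ ∃ f ∈ E, ∃ a, e a = a ∧ f a ≠ a := by
  have hne : ¬ (⊤ : Subgroup W) ≤ fixE E := by
    intro hcon
    obtain ⟨e, he, he1⟩ := h.ne_bot
    apply he1
    ext x
    exact hcon (mem_top x) e he
  obtain ⟨e, he, he1, x, -, hx, f, hf, hfx⟩ := h.exists_mv ⊤ (fun _ _ _ _ => mem_top _) hne
  exact ⟨e, he, he1, f, hf, x, hx, hfx⟩

theorem fixE_eq {x : W} (hx : x ∈ fixE E) : x = 1 ∨ x = z := by
  obtain ⟨e, he, he1, f, hf, a, ha, hfa⟩ := exists_data hz h hzE
  obtain ⟨a1, a2, b1, b2, b4, hff, -⟩ := mv hz h hzE he he1 hf ha hfa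
  have hb : e (f a) = f a := h.comm_fix he hf ha
  have hzf : z ∈ fixE E := fun g hg => hzE g hg
  have mz : ∀ w, w * z ∈ fixE E → w ∈ fixE E := by
    intro w hw
    have := mul_mem hw hzf
    rwa [mul_assoc, zz hz, mul_one] at this
  have na : a ∉ fixE E := fun h1 => hfa (h1 f hf)
  have nb : f a ∉ fixE E := fun h1 => hfa (f.injective (h1 f hf))
  have nab : a * f a ∉ fixE E := by
    intro h1
    have h2 := h1 f hf
    rw [map_mul] at h2
    rcases hff with h3 | h3
    · rw [h3] at h2
      exact b1 (mul_eq_right.mp h2)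
    · rw [h3] at h2
      have h4 : f a * z * (a * f a) = 1 * (a * f a) := by
        rw [one_mul, mul_assoc, ← hz.cen (a * f a)]; exact h2
      have h5 := mul_right_cancel h4
      apply b2
      rw [mul_eq_one_iff_eq_inv] at h5
      rw [h5, inv_eq_iff_mul_eq_one, zz hz]
  rcases eight hz h hzE he he1 ha hb (hx e he) a1 a2 b1 b2 hfa b4 with h1 | (h1 | h1) |
    (h1 | h1) | (h1 | h1)
  · exact h1
  · exact absurd (h1 ▸ hx) na
  · exact absurd (mz _ (h1 ▸ hx)) na
  · exact absurd (h1 ▸ hx) nb
  · exact absurd (mz _ (h1 ▸ hx)) nb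
  · exact absurd (h1 ▸ hx) nab
  · exact absurd (mz _ (h1 ▸ hx)) nab

/-- the eight elements -/
theorem subset_eight {e : MulAut W} (he : e ∈ E) (he1 : e ≠ 1) : Nat.card (fix1 e) ≤ 8 := by
  classical
  have h8 : ∀ s : Finset W, (fix1 e : Set W) ⊆ s → s.card ≤ 8 → Nat.card (fix1 e) ≤ 8 := by
    intro s hs hc
    have h1 := Set.ncard_le_ncard hs (Finset.finite_toSet s)
    rw [Set.ncard_coe_finset] at h1
    exact h1.trans hc
  by_cases h1 : ∃ a, e a = a ∧ a ≠ 1 ∧ a ≠ z
  · obtain ⟨a, ha, a1, a2⟩ := h1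
    by_cases h2 : ∃ b, e b = b ∧ b ≠ 1 ∧ b ≠ z ∧ b ≠ a ∧ b ≠ a * z
    · obtain ⟨b, hb, b1, b2, b3, b4⟩ := h2
      apply h8 {1, z, a, a * z, b, b * z, a * b, a * b * z}
      · intro c hc
        simp only [Finset.coe_insert, Finset.coe_singleton, Set.mem_insert_iff,
          Set.mem_singleton_iff]
        have := eight hz h hzE he he1 ha hb hc a1 a2 b1 b2 b3 b4
        tauto
      · exact (Finset.card_insert_le _ _).trans (Nat.succ_le_succ
          ((Finset.card_insert_le _ _).trans (Nat.succ_le_succ Finset.card_le_six)))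
    · push Not at h2
      apply h8 {1, z, a, a * z}
      · intro c hc
        simp only [Finset.coe_insert, Finset.coe_singleton, Set.mem_insert_iff,
          Set.mem_singleton_iff]
        have := h2 c hc
        tauto
      · exact Finset.card_le_four.trans (by norm_num)
  · push Not at h1
    apply h8 {1, z}
    · intro c hc
      simp only [Finset.coe_insert, Finset.coe_singleton, Set.mem_insert_iff,
        Set.mem_singleton_iff]
      have := h1 c hc
      tauto
    · exact Finset.card_le_two.trans (by norm_num)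

end cen

end H54.ExtraNine
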