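import Mathlib
import Cfsg.Agent.Lib.H54.ExtraNine2

set_option autoImplicit false
set_option linter.unusedSectionVars false
set_option linter.dupNamespace false

/-! A noncyclic abelian `p`-group of automorphisms of a 2-group whose nontrivial elements fix at most
one involution: conclusion. -/

namespace H54.ExtraNine

open Subgroup
open scoped commutatorElement

variable {W : Type*} [Group W] [Finite W] {p : ℕ} [hp : Fact p.Prime] {E : Subgroup (MulAut W)}
  {z : W}

theorem Hy.of_le {E' : Subgroup (MulAut W)} (h : Hy p E) (hle : E' ≤ E) (hnc : ¬ IsCyclic E') :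
    Hy p E' where
  pgW := h.pgW
  pgE := h.pgE.to_le hle
  p2 := h.p2
  ab := fun a ha b hb => h.ab a (hle ha) b (hle hb)
  nc := hnc
  fix := fun e he => h.fix e (hle he)

section cen

variable (hz : Cen z)
include hz
variable (h : Hy p E) (hzE : ∀ e ∈ E, e z = z)
include h hzE

/-- a subgroup of order more than 3 is not cyclic -/
theorem not_cyclic {K : Subgroup (MulAut W)} (hK : K ≤ E) (h3 : 3 < Nat.card K) : ¬ IsCyclic K := by
  intro hc
  obtain ⟨g, hg⟩ := hc.exists_generator
  have h1 : orderOf g = Nat.card K := orderOf_eq_card_of_forall_mem_zpowers hg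
  have h2 : g ^ 3 = 1 := Subtype.ext (cube hz h hzE (hK g.2))
  have := Nat.le_of_dvd (by norm_num) (orderOf_dvd_of_pow_eq_one h2)
  omega

theorem card_E : Nat.card E = 9 := by
  classical
  have hp3 := p_three hz h hzE
  subst hp3
  obtain ⟨n, hn⟩ := IsPGroup.iff_card.mp h.pgE
  have hn2 : 2 ≤ n := by
    by_contra hcon
    apply h.nc
    have : n = 0 ∨ n = 1 := by omega
    rcases this with rfl | rfl
    · rw [pow_zero] at hn
      have : Subsingleton E := (Nat.card_eq_one_iff_unique.mp hn).1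
      exact isCyclic_of_subsingleton
    · rw [pow_one] at hn
      exact isCyclic_of_prime_card hn
  by_contra hne
  have hn3 : 3 ≤ n := by
    by_contra hcon
    have : n = 2 := by omega
    subst this
    exact hne (by rw [hn]; norm_num)
  obtain ⟨e, he, he1, f, hf, a, ha, hfa⟩ := exists_data hz h hzE
  obtain ⟨a1, a2, b1, b2, b4, hff, -⟩ := mv hz h hzE he he1 hf ha hfa
  have hb : e (f a) = f a := h.comm_fix he hf ha
  -- the stabiliser of a
  let St : Subgroup E := MulAction.stabilizer E a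
  have hidx : St.index ≤ 6 := by
    rw [MulAction.index_stabilizer]
    have hsub : MulAction.orbit E a ⊆ (({a, a * z, f a, f a * z, a * f a, a * f a * z} : Finset W) : Set W) := by
      rintro _ ⟨g, rfl⟩
      have h1 : e ((g : MulAut W) a) = (g : MulAut W) a := h.comm_fix he g.2 ha
      have h2 := eight hz h hzE he he1 ha hb h1 a1 a2 b1 b2 hfa b4
      have h3 : (g : MulAut W) a ≠ 1 := by
        intro h3
        exact a1 ((g : MulAut W).injective (h3.trans (map_one _).symm))
      have h4 : (g : MulAut W) a ≠ z := by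
        intro h3
        exact a2 ((g : MulAut W).injective (h3.trans (hzE g g.2).symm))
      simp only [Finset.coe_insert, Finset.coe_singleton, Set.mem_insert_iff,
        Set.mem_singleton_iff]
      have h5 : g • a = (g : MulAut W) a := rfl
      show g • a = a ∨ _
      rw [h5]
      tauto
    have h1 := Set.ncard_le_ncard hsub (Finset.finite_toSet _)
    rw [Set.ncard_coe_finset] at h1
    exact h1.trans Finset.card_le_six
  let K : Subgroup (MulAut W) := St.map E.subtype
  have hKE : K ≤ E := by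
    rintro _ ⟨g, -, rfl⟩
    exact g.2
  have hKc : Nat.card K = Nat.card St :=
    (Nat.card_congr (St.equivMapOfInjective E.subtype E.subtype_injective).toEquiv).symm
  have hK3 : 3 < Nat.card K := by
    have h1 := St.card_mul_index
    rw [hn] at h1
    rw [hKc]
    have h2 : 3 ^ 3 ≤ 3 ^ n := Nat.pow_le_pow_right (by norm_num) hn3
    by_contra hcon
    push Not at hcon
    have : Nat.card St * St.index ≤ 3 * 6 := Nat.mul_le_mul hcon hidx
    omega
  have hKh : Hy 3 K := h.of_le hKE (not_cyclic hz h hzE hKE hK3)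
  have hKa : ∀ g ∈ K, g a = a := by
    rintro _ ⟨g, hg, rfl⟩
    exact hg
  have hKb : ∀ g ∈ K, g (f a) = f a := by
    intro g hg
    exact h.comm_fix (hKE hg) hf (hKa g hg)
  have h1 : (⊤ : Subgroup W) ≤ fix1 e := by
    apply hKh.gen ⊤ _ (fun _ _ _ _ => mem_top _)
    intro g hg hg1 x _ hx
    have hz1 : z ∈ fix1 e := hzE e he
    have ha1 : a ∈ fix1 e := ha
    have hb1 : f a ∈ fix1 e := hb
    rcases eight hz h hzE (hKE hg) hg1 (hKa g hg) (hKb g hg) hx a1 a2 b1 b2 hfa b4 with
      (rfl | rfl) | (rfl | rfl) | (rfl | rfl) | (rfl | rfl)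
    · exact one_mem _
    · exact hz1
    · exact ha1
    · exact mul_mem ha1 hz1
    · exact hb1
    · exact mul_mem hb1 hz1
    · exact mul_mem ha1 hb1
    · exact mul_mem (mul_mem ha1 hb1) hz1
  apply he1
  ext x
  exact h1 (mem_top x)

omit h hzE in
theorem normal_of_mem {N : Subgroup W} (hN : z ∈ N) : N.Normal := by
  constructor
  intro n hn g
  rcases hz.comm g n with h1 | h1
  · rw [h1, mul_inv_cancel_right]; exact hn
  · rw [h1]
    have : n * g * z * g⁻¹ = n * z := by
      rw [mul_assoc n g z, hz.cen g]; group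
    rw [this]
    exact mul_mem hn hN

omit hz h hzE in
theorem card_mul_rel {G : Type*} [Group G] {K L : Subgroup G} (hKL : K ≤ L) :
    Nat.card K * K.relIndex L = Nat.card L := by
  have := Subgroup.relIndex_mul_relIndex ⊥ K L bot_le hKL
  rwa [Subgroup.relIndex_bot_left, Subgroup.relIndex_bot_left] at this

theorem card_sup {e : MulAut W} (he : e ∈ E) (he1 : e ≠ 1) {N : Subgroup W} (hN : z ∈ N) :
    Nat.card (fix1 e ⊔ N : Subgroup W) ≤ 4 * Nat.card N := by
  have hNn := normal_of_mem hz hN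
  have h1 := Subgroup.relIndex_sup_right (H := fix1 e) (K := N)
  have h2 : N.relIndex (fix1 e ⊔ N) * Nat.card N = Nat.card (fix1 e ⊔ N : Subgroup W) := by
    rw [mul_comm, card_mul_rel le_sup_right]
  rw [h1] at h2
  rw [← h2]
  apply Nat.mul_le_mul_right
  -- the index in fix1 e
  have h3 : Nat.card (N ⊓ fix1 e : Subgroup W) * N.relIndex (fix1 e) = Nat.card (fix1 e) := by
    rw [← Subgroup.inf_relIndex_right, card_mul_rel inf_le_right]
  have h4 : 2 ≤ Nat.card (N ⊓ fix1 e : Subgroup W) := by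
    have h5 : zpowers z ≤ N ⊓ fix1 e := by
      rw [zpowers_le]
      exact mem_inf.mpr ⟨hN, hzE e he⟩
    have h6 : Nat.card (zpowers z) = 2 := by rw [Nat.card_zpowers, ord_z hz]
    have h7 := Subgroup.card_le_of_le h5
    omega
  have h5 := subset_eight hz h hzE he he1
  by_contra hcon
  push Not at hcon
  have : 2 * 5 ≤ Nat.card (N ⊓ fix1 e : Subgroup W) * N.relIndex (fix1 e) :=
    Nat.mul_le_mul h4 hcon
  omega

/-- the four subgroups of order 3 -/
theorem exists_four : ∃ e1 ∈ E, ∃ e2 ∈ E, ∃ e3 ∈ E, ∃ e4 ∈ E, e1 ≠ 1 ∧ e2 ≠ 1 ∧ e3 ≠ 1 ∧ e4 ≠ 1 ∧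
    ∀ e ∈ E, e ≠ 1 → e ∈ zpowers e1 ∨ e ∈ zpowers e2 ∨ e ∈ zpowers e3 ∨ e ∈ zpowers e4 := by
  have h3f := Fact.mk Nat.prime_three
  obtain ⟨x, hx, hx1⟩ := h.ne_bot
  have hox : orderOf x = 3 := orderOf_eq_prime (cube hz h hzE hx) hx1
  have hcE := card_E hz h hzE
  obtain ⟨y, hy, hyx⟩ : ∃ y ∈ E, y ∉ zpowers x := by
    by_contra hcon
    push Not at hcon
    have hxE : zpowers x ≤ E := by rw [zpowers_le]; exact hx
    have : zpowers x = E := le_antisymm hxE hcon
    have hcx : Nat.card (zpowers x) = 3 := by rw [Nat.card_zpowers, hox]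
    rw [this, hcE] at hcx
    omega
  have hy1 : y ≠ 1 := fun h1 => hyx (h1 ▸ one_mem _)
  let gx : E := ⟨x, hx⟩
  let gy : E := ⟨y, hy⟩
  have hgx3 : gx ^ 3 = 1 := Subtype.ext (cube hz h hzE hx)
  have hgy3 : gy ^ 3 = 1 := Subtype.ext (cube hz h hzE hy)
  have hogx : orderOf gx = 3 := orderOf_eq_prime hgx3 (fun h1 => hx1 (congrArg Subtype.val h1))
  have hcx : Nat.card (zpowers gx) = 3 := by rw [Nat.card_zpowers, hogx]
  have hgyx : gy ∉ zpowers gx := by
    intro h1
    obtain ⟨k, hk⟩ := h1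
    apply hyx
    refine ⟨k, ?_⟩
    have := congrArg Subtype.val hk
    simpa using this
  letI : CommGroup E := { (inferInstance : Group E) with
    mul_comm := fun a b => Subtype.ext (h.ab a a.2 b b.2) }
  have hsup : zpowers gx ⊔ zpowers gy = ⊤ := by
    apply Subgroup.eq_top_of_card_eq
    have h1 : Nat.card (zpowers gx ⊔ zpowers gy : Subgroup E) ∣ 3 ^ 2 := by
      have := Subgroup.card_subgroup_dvd_card (zpowers gx ⊔ zpowers gy)
      rw [hcE] at this
      norm_num
      exact this
    obtain ⟨k, hk, hk2⟩ := (Nat.dvd_prime_pow Nat.prime_three).mp h1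
    have h2 : 3 < Nat.card (zpowers gx ⊔ zpowers gy : Subgroup E) := by
      rw [← hcx]
      rcases Nat.lt_or_ge (Nat.card (zpowers gx)) (Nat.card (zpowers gx ⊔ zpowers gy : Subgroup E)) with h3 | h3
      · exact h3
      · exfalso
        have := Subgroup.eq_of_le_of_card_ge (le_sup_left : zpowers gx ≤ zpowers gx ⊔ zpowers gy) h3
        apply hgyx
        rw [this]
        exact (le_sup_right : zpowers gy ≤ _) (mem_zpowers gy)
    rw [hk2] at h2 ⊢
    rw [hcE]
    have : k = 2 := by
      by_contra hcon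
      have : k = 0 ∨ k = 1 := by omega
      rcases this with rfl | rfl <;> norm_num at h2
    rw [this]; norm_num
  have hcases : ∀ w : E, w ^ 3 = 1 → ∀ u ∈ zpowers w, u = 1 ∨ u = w ∨ u = w⁻¹ := by
    intro w hw3 u hu
    rw [mem_zpowers_iff] at hu
    obtain ⟨k, rfl⟩ := hu
    have h1 : w ^ k = w ^ (k % 3) := by
      conv_lhs => rw [← Int.emod_add_mul_ediv k 3]
      rw [zpow_add, zpow_mul]
      have : w ^ (3 : ℤ) = 1 := by exact_mod_cast hw3
      rw [this, one_zpow, mul_one]
    have h2 : k % 3 = 0 ∨ k % 3 = 1 ∨ k % 3 = 2 := by omega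
    rw [h1]
    rcases h2 with h2 | h2 | h2
    · left; rw [h2, zpow_zero]
    · right; left; rw [h2, zpow_one]
    · right; right
      rw [h2, eq_inv_iff_mul_eq_one]
      have : w ^ (2 : ℤ) * w = w ^ (3 : ℤ) := by
        rw [← zpow_add_one]; rfl
      rw [this]; exact_mod_cast hw3
  have hyx' : y⁻¹ ∉ zpowers x := fun h1 => hyx (by simpa using inv_mem h1)
  refine ⟨x, hx, y, hy, x * y, mul_mem hx hy, x * y⁻¹, mul_mem hx (inv_mem hy), hx1, hy1, ?_, ?_, ?_⟩
  · intro h1
    apply hyx
    have : y = x⁻¹ := eq_inv_of_mul_eq_one_right h1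
    rw [this]; exact inv_mem (mem_zpowers x)
  · intro h1
    apply hyx'
    have : y⁻¹ = x⁻¹ := eq_inv_of_mul_eq_one_right h1
    rw [this]; exact inv_mem (mem_zpowers x)
  · intro e he he1
    have hmem : (⟨e, he⟩ : E) ∈ zpowers gx ⊔ zpowers gy := by rw [hsup]; exact mem_top _
    obtain ⟨u, hu, v, hv, huv⟩ := Subgroup.mem_sup.mp hmem
    have huv' : (u : MulAut W) * v = e := congrArg Subtype.val huv
    have hxy := h.ab x hx y hy
    have hinv1 : x⁻¹ * y⁻¹ = (x * y)⁻¹ := by rw [hxy, mul_inv_rev]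
    have hinv2 : x⁻¹ * y = (x * y⁻¹)⁻¹ := by
      rw [mul_inv_rev, inv_inv]
      have := h.ab x⁻¹ (inv_mem hx) y hy
      exact this
    rcases hcases gx hgx3 u hu with rfl | rfl | rfl <;> rcases hcases gy hgy3 v hv with rfl | rfl | rfl
    · exfalso
      apply he1
      rw [← huv']; simp
    · right; left
      rw [← huv']; simp [gy, mem_zpowers]
    · right; left
      rw [← huv']
      simp [gy, mem_zpowers]
    · left
      rw [← huv']; simp [gx, mem_zpowers]
    · right; right; left
      rw [← huv']; exact mem_zpowers _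
    · right; right; right
      rw [← huv']; exact mem_zpowers _
    · left
      rw [← huv']; simp [gx, mem_zpowers]
    · right; right; right
      rw [← huv']
      show x⁻¹ * y ∈ _
      rw [hinv2]; exact inv_mem (mem_zpowers _)
    · right; right; left
      rw [← huv']
      show x⁻¹ * y⁻¹ ∈ _
      rw [hinv1]; exact inv_mem (mem_zpowers _)

theorem card_W_le : Nat.card W ≤ 512 := by
  obtain ⟨e1, he1, e2, he2, e3, he3, e4, he4, n1, n2, n3, n4, hall⟩ := exists_four hz h hzE
  have hpow : ∀ {e e' : MulAut W}, e ∈ zpowers e' → fix1 e' ≤ fix1 (e : MulAut W) ∧ 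
      (e ≠ 1 → e' ∈ E → fix1 e ≤ fix1 e') := by
    intro e e' he
    obtain ⟨k, rfl⟩ := he
    have key : ∀ (g : MulAut W) (k : ℤ), fix1 g ≤ fix1 (g ^ k) := by
      intro g k x hx
      have h1 : g ∈ MulAction.stabilizer (MulAut W) x := hx
      have h2 := zpow_mem h1 k
      exact h2
    refine ⟨key e' k, ?_⟩
    intro hne he'
    have hc := cube hz h hzE he'
    have h1 : ∃ l : ℤ, (e' ^ k) ^ l = e' := by
      have h3 : k % 3 ≠ 0 := by
        intro h3
        apply hne
        show e' ^ k = 1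
        obtain ⟨j, hj⟩ := Int.dvd_of_emod_eq_zero h3
        rw [hj, zpow_mul]
        have : e' ^ (3 : ℤ) = 1 := by exact_mod_cast hc
        rw [this, one_zpow]
      refine ⟨k, ?_⟩
      rw [← zpow_mul]
      have h4 : (k * k - 1) % 3 = 0 := by
        have : k % 3 = 1 ∨ k % 3 = 2 := by omega
        rcases this with h5 | h5
        · have : (k * k) % 3 = 1 := by rw [Int.mul_emod, h5]; rfl
          omega
        · have : (k * k) % 3 = 1 := by rw [Int.mul_emod, h5]; rfl
          omega
      obtain ⟨j, hj⟩ := Int.dvd_of_emod_eq_zero h4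
      have h5 : k * k = 3 * j + 1 := by omega
      rw [h5, zpow_add, zpow_mul, zpow_one]
      have : e' ^ (3 : ℤ) = 1 := by exact_mod_cast hc
      rw [this, one_zpow, one_mul]
    obtain ⟨l, hl⟩ := h1
    have := key (e' ^ k) l
    rw [hl] at this
    exact this
  have hzz : z ∈ zpowers z := mem_zpowers z
  have hz1 : z ∈ fix1 e1 ⊔ zpowers z := (le_sup_right : zpowers z ≤ _) hzz
  have hz2 : z ∈ fix1 e2 ⊔ (fix1 e1 ⊔ zpowers z) := (le_sup_right : (fix1 e1 ⊔ zpowers z) ≤ _) hz1
  have hz3 : z ∈ fix1 e3 ⊔ (fix1 e2 ⊔ (fix1 e1 ⊔ zpowers z)) :=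
    (le_sup_right : (fix1 e2 ⊔ (fix1 e1 ⊔ zpowers z)) ≤ _) hz2
  have c1 := card_sup hz h hzE he1 n1 hzz
  have c2 := card_sup hz h hzE he2 n2 hz1
  have c3 := card_sup hz h hzE he3 n3 hz2
  have c4 := card_sup hz h hzE he4 n4 hz3
  have htop : (⊤ : Subgroup W) ≤ fix1 e4 ⊔ (fix1 e3 ⊔ (fix1 e2 ⊔ (fix1 e1 ⊔ zpowers z))) := by
    apply h.gen ⊤ _ (fun _ _ _ _ => mem_top _)
    intro e he hne x _ hx
    have l4 : fix1 e4 ≤ fix1 e4 ⊔ (fix1 e3 ⊔ (fix1 e2 ⊔ (fix1 e1 ⊔ zpowers z))) := le_sup_left
    have l3 : fix1 e3 ≤ fix1 e4 ⊔ (fix1 e3 ⊔ (fix1 e2 ⊔ (fix1 e1 ⊔ zpowers z))) :=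
      le_sup_left.trans le_sup_right
    have l2 : fix1 e2 ≤ fix1 e4 ⊔ (fix1 e3 ⊔ (fix1 e2 ⊔ (fix1 e1 ⊔ zpowers z))) :=
      (le_sup_left.trans le_sup_right).trans le_sup_right
    have l1 : fix1 e1 ≤ fix1 e4 ⊔ (fix1 e3 ⊔ (fix1 e2 ⊔ (fix1 e1 ⊔ zpowers z))) :=
      ((le_sup_left.trans le_sup_right).trans le_sup_right).trans le_sup_right
    rcases hall e he hne with h1 | h1 | h1 | h1
    · exact l1 ((hpow h1).2 hne he1 hx)
    · exact l2 ((hpow h1).2 hne he2 hx)
    · exact l3 ((hpow h1).2 hne he3 hx)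
    · exact l4 ((hpow h1).2 hne he4 hx)
  have htop' := top_le_iff.mp htop
  rw [htop', Subgroup.card_top] at c4
  have hcz : Nat.card (zpowers z) = 2 := by rw [Nat.card_zpowers, ord_z hz]
  omega

theorem card_W_gt : 8 < Nat.card W := by
  classical
  obtain ⟨e, he, he1, f, hf, a, ha, hfa⟩ := exists_data hz h hzE
  obtain ⟨a1, a2, b1, b2, b4, hff, -⟩ := mv hz h hzE he he1 hf ha hfa
  have hb : e (f a) = f a := h.comm_fix he hf ha
  have h5 : 5 ≤ Nat.card (fix1 e) := by
    have hsub : (({1, z, a, a * z, f a} : Finset W) : Set W) ⊆ (fix1 e : Set W) := by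
      intro x hx
      simp only [Finset.coe_insert, Finset.coe_singleton, Set.mem_insert_iff,
        Set.mem_singleton_iff] at hx
      have hz1 : z ∈ fix1 e := hzE e he
      have ha1 : a ∈ fix1 e := ha
      have hb1 : f a ∈ fix1 e := hb
      rcases hx with rfl | rfl | rfl | rfl | rfl
      · exact one_mem _
      · exact hz1
      · exact ha1
      · exact mul_mem ha1 hz1
      · exact hb1
    have h1 := Set.ncard_le_ncard hsub (Set.toFinite _)
    rw [Set.ncard_coe_finset] at h1
    have h2 : ({1, z, a, a * z, f a} : Finset W).card = 5 := by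
      have haz1 : a * z ≠ 1 := by
        intro h3
        apply a2
        rw [mul_eq_one_iff_eq_inv] at h3
        rw [h3, inv_eq_iff_mul_eq_one, zz hz]
      have haz2 : a * z ≠ z := fun h3 => a1 (mul_eq_right.mp h3)
      have haz3 : a ≠ a * z := fun h3 => hz.ne (mul_eq_left.mp h3.symm)
      rw [Finset.card_insert_of_notMem, Finset.card_insert_of_notMem, Finset.card_insert_of_notMem,
        Finset.card_insert_of_notMem, Finset.card_singleton]
      · simpa using b4.symm
      · simp only [Finset.mem_insert, Finset.mem_singleton, not_or]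
        exact ⟨haz3, hfa.symm⟩
      · simp only [Finset.mem_insert, Finset.mem_singleton, not_or]
        exact ⟨a2.symm, haz2.symm, b2.symm⟩
      · simp only [Finset.mem_insert, Finset.mem_singleton, not_or]
        exact ⟨hz.ne.symm, a1.symm, haz1.symm, b1.symm⟩
    rw [h2] at h1
    exact h1
  have h2f := Fact.mk Nat.prime_two
  obtain ⟨k, hk⟩ := IsPGroup.iff_card.mp (h.pgW.to_subgroup (fix1 e))
  have hk3 : 3 ≤ k := by
    by_contra hcon
    have : k = 0 ∨ k = 1 ∨ k = 2 := by omega
    rcases this with rfl | rfl | rfl <;> omega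
  have h8 : 8 ≤ Nat.card (fix1 e) := by
    rw [hk]
    have : 2 ^ 3 ≤ 2 ^ k := Nat.pow_le_pow_right (by norm_num) hk3
    omega
  have hne : fix1 e ≠ ⊤ := by
    intro hcon
    apply he1
    ext x
    have : x ∈ fix1 e := by rw [hcon]; exact mem_top x
    exact this
  have hlt : Nat.card (fix1 e) < Nat.card W := by
    rcases Nat.lt_or_ge (Nat.card (fix1 e)) (Nat.card W) with h1 | h1
    · exact h1
    · exact absurd (Subgroup.eq_top_of_le_card _ h1) hne
  omega

end cen

/-- the conclusion -/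
theorem main (h : Hy p E) : Nat.card E = 9 ∧ Cfsg.IsExtraspecial 2 W ∧
    (Nat.card W = 2 ^ 5 ∨ Nat.card W = 2 ^ 7 ∨ Nat.card W = 2 ^ 9) ∧
    {x : W | ∀ e ∈ E, e x = x} = (Subgroup.center W : Set W) := by
  have h2f := Fact.mk Nat.prime_two
  obtain ⟨z, hz, hext, hzE⟩ := h.exists_cen
  refine ⟨card_E hz h hzE, hext, ?_, ?_⟩
  · obtain ⟨n, hn1, hn⟩ := H3.Extraspecial.card_eq_of_isExtraspecial hext
    have h1 := card_W_le hz h hzE
    have h2 := card_W_gt hz h hzE
    rw [hn] at h1 h2 ⊢
    have hn2 : 2 ≤ n := by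
      by_contra hcon
      have : n = 1 := by omega
      subst this
      norm_num at h2
    have hn4 : n ≤ 4 := by
      by_contra hcon
      have : 2 ^ 11 ≤ 2 ^ (2 * n + 1) := Nat.pow_le_pow_right (by norm_num) (by omega)
      omega
    have : n = 2 ∨ n = 3 ∨ n = 4 := by omega
    rcases this with rfl | rfl | rfl
    · left; norm_num
    · right; left; norm_num
    · right; right; norm_num
  · ext x
    rw [Set.mem_ofPred_eq, SetLike.mem_coe, mem_center_iff]
    constructor
    · intro hx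
      rcases fixE_eq hz h hzE (x := x) hx with rfl | rfl
      · intro g; rw [mul_one, one_mul]
      · exact hz.cen
    · intro hx e he
      rcases hz.center x (fun y => (hx y).symm) with rfl | rfl
      · exact map_one e
      · exact hzE e he

end H54.ExtraNine
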