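import Mathlib
import Cfsg.Agent.Lib.H5.GLc
import Cfsg.Agent.Lib.H5.GLh
import Cfsg.Agent.Lib.H5.IndexTwo

/-!
Finite groups without normal subgroups of index two with an involution whose centralizer is `GL₂(3)`
are simple.
-/

set_option autoImplicit false
set_option linter.unusedSectionVars false

open Subgroup

universe u

namespace H54.GL23

open H5.GLa H5.GLb H5.GLc H5.GLa.Model

theorem d_M : ∀ q : Q, det q = 1 → mul q q = one → q ≠ one → q = neg := by decide +kernel

theorem d_inv_or : ∀ c : Q, det c = 1 → ∃ u : Q, det u ≠ 0 ∧ mul u u = one ∧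
    (mul (mul u c) (mul u c) = one ∨ mul (mul neg (mul u c)) (mul neg (mul u c)) = one) := by
  decide +kernel

theorem d_w0det : det w0 = 2 := by decide +kernel

theorem d_w0w : ∀ c : Q, det c ≠ 0 → det c ≠ 1 → det (mul c w0) = 1 := by decide +kernel

theorem d_three : ∀ c : Q, det c ≠ 0 → mul (mul c c) c = one → c ≠ one →
    ∃ d : Q, det d ≠ 0 ∧ mul (mul c (mul (mul d c) (inv d))) (mul c (mul (mul d c) (inv d))) = neg := by
  decide +kernel

theorem d_odd : ∀ c : Q, det c ≠ 0 →
    (mul (mul (mul c c) (mul c c)) (mul (mul c c) (mul c c)) = one) ∨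
    (mul (mul c c) c = one) ∨ (mul (mul c c) c = neg) := by
  decide +kernel

variable {G : Type u} [Group G]

/-- Version of `H5.GLc.exists_dat` without simplicity. -/
theorem exists_dat' [Finite G] (hno : ∀ H : Subgroup G, H.Normal → H.index ≠ 2) {t : G}
    (ht : orderOf t = 2) (C : Subgroup G)
    (hC : ∀ x : G, x ∈ C ↔ x * t = t * x) {ψ : C → Q} (h : Model C ψ) : Dat t C ψ := by
  have : Fact (Nat.Prime 2) := ⟨Nat.prime_two⟩
  have htC : t ∈ C := (hC t).2 rfl
  set z : C := ⟨t, htC⟩ with hzdef
  have hzo : orderOf z = 2 := by rw [hzdef, Subgroup.orderOf_mk, ht]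
  have hzc : ∀ c : C, c * z = z * c := fun c => Subtype.ext ((hC c).1 c.2)
  have hzneg := eq_neg h hzo hzc
  have hz' : ∀ c : C, (c : G) = t → ψ c = neg := by
    intro c hc
    have : c = z := Subtype.ext hc
    rw [this, hzneg]
  -- a noncentral involution
  obtain ⟨w, hw⟩ := h.surj w0 d_w0.2.2.2
  have hwo : orderOf w = 2 := (order_two h).2 (by rw [hw]; exact ⟨d_w0.1, d_w0.2.1⟩)
  have hwne : ψ w ≠ neg := by rw [hw]; exact d_w0.2.2.1
  have hwc : ¬ ∀ c : C, c * w = w * c := fun hcon => hwne (eq_neg h hwo hcon)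
  have ht1 : t ≠ 1 := H5.Dihedral.ne_one ht
  -- the Sylow 2-subgroup
  have hScard : Nat.card (SS h) = 16 := card_SS h
  have hSmap : IsPGroup 2 ((SS h).map C.subtype) := by
    apply IsPGroup.of_card (n := 4)
    rw [Subgroup.card_map_of_injective C.subtype_injective, hScard]; norm_num
  obtain ⟨P, hP⟩ := hSmap.exists_le_sylow
  have hPnt : Nontrivial (P : Subgroup G) := by
    have h1 : 16 ∣ Nat.card (P : Subgroup G) := by
      have := Subgroup.card_dvd_of_le hP
      rwa [Subgroup.card_map_of_injective C.subtype_injective, hScard] at this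
    rw [← Finite.one_lt_card_iff_nontrivial]
    have := Nat.le_of_dvd Nat.card_pos h1
    omega
  have hcenP : ∃ v : G, v ∈ (P : Subgroup G) ∧ orderOf v = 2 ∧ ∀ g ∈ (P : Subgroup G), g * v = v * g := by
    have h1 : Nontrivial (Subgroup.center (P : Subgroup G)) := P.2.center_nontrivial
    have h2 : 2 ∣ Nat.card (Subgroup.center (P : Subgroup G)) := by
      have h3 : IsPGroup 2 (Subgroup.center (P : Subgroup G)) := P.2.to_subgroup _
      obtain ⟨n, hn⟩ := IsPGroup.iff_card.mp h3
      rw [hn]
      apply dvd_pow_self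
      rintro rfl
      rw [pow_zero] at hn
      have := (Finite.one_lt_card_iff_nontrivial (α := Subgroup.center (P : Subgroup G))).mpr h1
      omega
    obtain ⟨v, hv⟩ := exists_prime_orderOf_dvd_card' 2 h2
    refine ⟨v.1, v.1.2, ?_, ?_⟩
    · rw [Subgroup.orderOf_coe, Subgroup.orderOf_coe, hv]
    · intro g hg
      exact congrArg Subtype.val (Subgroup.mem_center_iff.mp v.2 ⟨g, hg⟩)
  obtain ⟨v, hvP, hvo, hvc⟩ := hcenP
  have htS : z ∈ SS h := by
    rw [mem_SS, hzneg]; decide +kernel
  have htP : t ∈ (P : Subgroup G) := hP ⟨z, htS, rfl⟩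
  have hvC : v ∈ C := by
    rw [hC]
    exact (hvc t htP).symm
  have hvt : v = t := by
    by_contra hne
    have hvne : ψ ⟨v, hvC⟩ ≠ neg := by
      rw [← hzneg]
      intro h1
      exact hne (congrArg Subtype.val (h.inj h1))
    have h1 := card_cent h (w := ⟨v, hvC⟩) (by rw [Subgroup.orderOf_mk, hvo]) hvne
    have h2 : Nat.card (SS h) ≤ Nat.card {c : C // c * ⟨v, hvC⟩ = ⟨v, hvC⟩ * c} := by
      apply Nat.card_le_card_of_injective
        (fun s : SS h => (⟨s.1, Subtype.ext (hvc s.1 (hP ⟨s.1, s.2, rfl⟩))⟩ :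
          {c : C // c * ⟨v, hvC⟩ = ⟨v, hvC⟩ * c}))
      intro a b hab
      have h5 := congrArg Subtype.val hab
      exact Subtype.ext h5
    rw [h1, hScard] at h2
    omega
  rw [hvt] at hvc
  have hPC : (P : Subgroup G) ≤ C := fun g hg => (hC g).2 (hvc g hg)
  have hodd : Odd C.index := by
    have h1 : ¬ 2 ∣ (P : Subgroup G).index := P.not_dvd_index
    have h2 : C.index ∣ (P : Subgroup G).index := Subgroup.index_dvd_of_le hPC
    rw [← Nat.not_even_iff_odd, even_iff_two_dvd]
    exact fun h3 => h1 (h3.trans h2)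
  -- fusion
  have hcardC : Nat.card C = 48 := h.card
  have hfinC : Finite C := inferInstance
  have hwt : ∃ g : G, g * (w : G) * g⁻¹ = t := by
    -- the elements of determinant one in the Sylow subgroup
    let D : Subgroup C :=
      { carrier := {c | inS (ψ c) ∧ det (ψ c) = 1}
        one_mem' := by
          rw [Set.mem_ofPred_eq, h.one]; exact ⟨d_oneS, by decide +kernel⟩
        mul_mem' := by
          rintro a b ⟨ha, ha'⟩ ⟨hb, hb'⟩
          rw [Set.mem_ofPred_eq, h.mul]
          exact ⟨d_mulS _ _ ha hb, by rw [d_det_mul, ha', hb']; decide +kernel⟩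
        inv_mem' := by
          rintro a ⟨ha, ha'⟩
          rw [Set.mem_ofPred_eq]
          have h1 : mul (ψ a) (ψ a⁻¹) = one := by rw [← h.mul, mul_inv_cancel, h.one]
          refine ⟨d_invS _ _ h1 ha, ?_⟩
          have h2 := d_det_mul (ψ a) (ψ a⁻¹)
          rw [h1, ha', one_mul] at h2
          rw [← h2]; decide +kernel }
    have hDcard : Nat.card D = 8 := by
      have h1 := h.card_filter (fun c => c ∈ D) (fun q => inS q ∧ det q = 1) (fun c => Iff.rfl)
      have h2 : (Finset.univ.filter fun q : Q => det q ≠ 0 ∧ (inS q ∧ det q = 1)).card = 8 := by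
        decide +kernel
      exact h1.trans h2
    have hMcard : Nat.card (D.map C.subtype) = 8 := by
      rw [Subgroup.card_map_of_injective C.subtype_injective, hDcard]
    have hPcard : Nat.card (P : Subgroup G) = 16 := by
      have h1 : Nat.card (P : Subgroup G) ∣ 48 := by
        rw [← hcardC]; exact Subgroup.card_dvd_of_le hPC
      have h2 : 16 ∣ Nat.card (P : Subgroup G) := by
        have := Subgroup.card_dvd_of_le hP
        rwa [Subgroup.card_map_of_injective C.subtype_injective, hScard] at this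
      obtain ⟨n, hn⟩ := IsPGroup.iff_card.mp P.2
      rw [hn] at h1 h2 ⊢
      have h3 : n ≤ 5 := by
        by_contra hcon
        have h4 := Nat.le_of_dvd (by norm_num) h1
        have h5 : 2 ^ 6 ≤ 2 ^ n := Nat.pow_le_pow_right (by norm_num) (by omega)
        omega
      interval_cases n <;> revert h1 h2 <;> decide
    have hidx : ∃ m : ℕ, Odd m ∧ (D.map C.subtype).index = 2 * m := by
      refine ⟨(P : Subgroup G).index, ?_, ?_⟩
      · rw [← Nat.not_even_iff_odd, even_iff_two_dvd]
        exact P.not_dvd_index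
      · have h1 := (P : Subgroup G).card_mul_index
        have h2 := (D.map C.subtype).card_mul_index
        rw [hPcard] at h1
        rw [hMcard] at h2
        omega
    obtain ⟨m, hm, hidx⟩ := hidx
    by_contra hcon
    push Not at hcon
    obtain ⟨H, hH1, hH2, -⟩ := H5.IndexTwo.exists_index_two_of_not_conj (D.map C.subtype) m hm hidx (w : G)
      (by rw [Subgroup.orderOf_coe, hwo]) (by
        rintro g ⟨d, ⟨hd1, hd2⟩, hd⟩
        have hdo : orderOf d = 2 := by
          rw [← Subgroup.orderOf_coe]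
          have : (d : G) = g * w * g⁻¹ := hd
          rw [this, H5.Dihedral.orderOf_conj, Subgroup.orderOf_coe, hwo]
        have h1 := (order_two h).1 hdo
        have h2 := d_M _ hd2 h1.1 h1.2
        have h3 : d = z := h.inj (by rw [h2, hzneg])
        apply hcon g
        rw [← hd, h3]
        rfl)
    exact hno H hH1 hH2
  obtain ⟨g, hg⟩ := hwt
  have hwt' : IsConj t (w : G) := (isConj_iff.mpr ⟨g, hg⟩ : IsConj (w : G) t).symm
  refine ⟨ht, hC, h, hz', ?_, hodd⟩
  intro w' hw'
  obtain ⟨R, hR⟩ := (IsPGroup.of_card (n := 1) (p := 2) (G := Subgroup.zpowers w')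
    (by rw [Nat.card_zpowers, hw', pow_one])).exists_le_sylow
  obtain ⟨k, hk⟩ := MulAction.exists_smul_eq G R P
  have hkP : k * w' * k⁻¹ ∈ (P : Subgroup G) := by
    rw [← hk]
    exact ⟨w', hR (Subgroup.mem_zpowers w'), rfl⟩
  have hw'c : IsConj w' (k * w' * k⁻¹) := isConj_iff.mpr ⟨k, rfl⟩
  refine IsConj.trans ?_ hw'c.symm
  by_cases hkt : k * w' * k⁻¹ = t
  · rw [hkt]
  · refine hwt'.trans ?_
    have h1 : IsConj w (⟨k * w' * k⁻¹, hPC hkP⟩ : C) := by
      apply conj_inv h
      · exact hwo
      · exact hwne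
      · rw [Subgroup.orderOf_mk, H5.Dihedral.orderOf_conj, hw']
      · rw [← hzneg]; intro h1; exact hkt (congrArg Subtype.val (h.inj h1))
    obtain ⟨c, hc⟩ := isConj_iff.mp h1
    exact isConj_iff.mpr ⟨c, congrArg Subtype.val hc⟩

end H54.GL23
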