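import Mathlib
import Cfsg.Agent.Lib.H54.GL23a

/-!
Simplicity of the groups with an involution centralizer `GL₂(3)` and without subgroups of index two.
-/

set_option autoImplicit false
set_option linter.unusedSectionVars false

open Subgroup

universe u

namespace H54.GL23

open H5.GLa H5.GLb H5.GLc H5.GLa.Model

variable {G : Type u} [Group G] [Finite G] {t : G} {C : Subgroup G} {ψ : C → Q}

theorem Dat.card_eq (h : Dat t C ψ) : Nat.card G = 48 * C.index := by
  rw [← h.mod.card, C.card_mul_index]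

/-- the element `t` in `C` -/
theorem Dat.t_mem (h : Dat t C ψ) : t ∈ C := (h.hC t).2 rfl

theorem Dat.exists_w (h : Dat t C ψ) : ∃ w : C, ψ w = w0 ∧ orderOf w = 2 := by
  obtain ⟨w, hw⟩ := h.mod.surj w0 d_w0.2.2.2
  exact ⟨w, hw, (order_two h.mod).2 (by rw [hw]; exact ⟨d_w0.1, d_w0.2.1⟩)⟩

theorem Dat.mem_of_involutions (h : Dat t C ψ) {N : Subgroup G} (hN : ∀ u : G, orderOf u = 2 → u ∈ N) :
    C ≤ N := by
  have hinv : ∀ c : C, mul (ψ c) (ψ c) = one → (c : G) ∈ N := by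
    intro c hc
    by_cases h1 : ψ c = one
    · have : c = 1 := h.mod.eq_one_iff.mp h1
      rw [this]; exact one_mem _
    · apply hN
      rw [Subgroup.orderOf_coe]
      exact (order_two h.mod).2 ⟨hc, h1⟩
  have hdet1 : ∀ c : C, H5.GLa.det (ψ c) = 1 → (c : G) ∈ N := by
    intro c hc
    obtain ⟨u, hu, huu, h1⟩ := d_inv_or (ψ c) hc
    obtain ⟨v, rfl⟩ := h.mod.surj u hu
    have hv := hinv v huu
    have hvc : ((v * c : C) : G) ∈ N := by
      rcases h1 with h1 | h1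
      · apply hinv
        rw [h.mod.mul]; exact h1
      · have hz : ψ ⟨t, Dat.t_mem h⟩ = neg := h.hz _ rfl
        have h2 : (((⟨t, Dat.t_mem h⟩ : C) * (v * c) : C) : G) ∈ N := by
          apply hinv
          rw [h.mod.mul, h.mod.mul, hz]; exact h1
        have h3 : ((v * c : C) : G) = t⁻¹ * (((⟨t, Dat.t_mem h⟩ : C) * (v * c) : C) : G) := by
          push_cast; group
        rw [h3]
        exact N.mul_mem (N.inv_mem (hN t h.ht)) h2
    have h4 : (c : G) = (v : G)⁻¹ * ((v * c : C) : G) := by push_cast; group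
    rw [h4]
    exact N.mul_mem (N.inv_mem hv) hvc
  intro c hc
  by_cases h1 : H5.GLa.det (ψ ⟨c, hc⟩) = 1
  · exact hdet1 ⟨c, hc⟩ h1
  · obtain ⟨w, hw, hwo⟩ := Dat.exists_w h
    have h2 := hdet1 (⟨c, hc⟩ * w) (by rw [h.mod.mul, hw]; exact d_w0w _ (h.mod.det _) h1)
    have h3 : (w : G) ∈ N := hN _ (by rw [Subgroup.orderOf_coe, hwo])
    have h4 : c = ((⟨c, hc⟩ * w : C) : G) * (w : G)⁻¹ := by push_cast; group
    rw [h4]
    exact N.mul_mem h2 (N.inv_mem h3)

/-- a Sylow 2-subgroup inside `C` whose normalizer lies in `C` -/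
theorem Dat.exists_sylow (h : Dat t C ψ) : ∃ P : Sylow 2 G, (P : Subgroup G) ≤ C ∧
    Subgroup.normalizer ((P : Subgroup G) : Set G) ≤ C ∧ Nat.card (P : Subgroup G) = 16 ∧
    (P : Subgroup G) = (SS h.mod).map C.subtype := by
  have : Fact (Nat.Prime 2) := ⟨Nat.prime_two⟩
  have hScard : Nat.card (SS h.mod) = 16 := card_SS h.mod
  have hmcard : Nat.card ((SS h.mod).map C.subtype) = 16 := by
    rw [Subgroup.card_map_of_injective C.subtype_injective, hScard]
  have hSmap : IsPGroup 2 ((SS h.mod).map C.subtype) := by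
    apply IsPGroup.of_card (n := 4)
    rw [hmcard]; norm_num
  obtain ⟨P, hP⟩ := hSmap.exists_le_sylow
  have hcard : Nat.card (P : Subgroup G) = 16 := by
    have h0 : Nat.card (P : Subgroup G) ∣ 48 * C.index := by
      rw [← Dat.card_eq h]; exact Subgroup.card_subgroup_dvd_card _
    have h2 : 16 ∣ Nat.card (P : Subgroup G) := by
      have := Subgroup.card_dvd_of_le hP
      rwa [hmcard] at this
    obtain ⟨n, hn⟩ := IsPGroup.iff_card.mp P.2
    rw [hn] at h0 h2 ⊢
    have h1 : 2 ^ n ∣ 48 := by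
      refine Nat.Coprime.dvd_of_dvd_mul_right ?_ h0
      exact Nat.Coprime.pow_left n (Nat.coprime_two_left.mpr h.odd)
    have h3 : n ≤ 5 := by
      by_contra hcon
      have h4 := Nat.le_of_dvd (by norm_num) h1
      have h5 : 2 ^ 6 ≤ 2 ^ n := Nat.pow_le_pow_right (by norm_num) (by omega)
      omega
    interval_cases n <;> revert h1 h2 <;> decide
  have hPeq : (P : Subgroup G) = (SS h.mod).map C.subtype := by
    symm
    apply Subgroup.eq_of_le_of_card_ge hP
    rw [hcard, hmcard]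
  have hPC : (P : Subgroup G) ≤ C := by rw [hPeq]; exact Subgroup.map_subtype_le _
  refine ⟨P, hPC, ?_, hcard, hPeq⟩
  intro g hg
  have htP : t ∈ (P : Subgroup G) := by
    rw [hPeq]
    refine ⟨⟨t, Dat.t_mem h⟩, ?_, rfl⟩
    have hz : ψ ⟨t, Dat.t_mem h⟩ = neg := h.hz _ rfl
    show (⟨t, Dat.t_mem h⟩ : C) ∈ SS h.mod
    rw [mem_SS, hz]; decide +kernel
  have hvP : g * t * g⁻¹ ∈ (P : Subgroup G) := (Subgroup.mem_normalizer_iff.mp hg t).mp htP
  have hvc : ∀ y ∈ (P : Subgroup G), y * (g * t * g⁻¹) = (g * t * g⁻¹) * y := by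
    intro y hy
    have h1 : g⁻¹ * y * g ∈ (P : Subgroup G) := (Subgroup.mem_normalizer_iff''.mp hg y).mp hy
    have h2 := (h.hC _).1 (hPC h1)
    calc y * (g * t * g⁻¹) = g * ((g⁻¹ * y * g) * t) * g⁻¹ := by group
      _ = g * (t * (g⁻¹ * y * g)) * g⁻¹ := by rw [h2]
      _ = (g * t * g⁻¹) * y := by group
  have hvo : orderOf (g * t * g⁻¹) = 2 := by rw [H5.Dihedral.orderOf_conj, h.ht]
  have hvt : g * t * g⁻¹ = t := by
    by_contra hne
    have hvC := hPC hvP
    have hvne : ψ ⟨g * t * g⁻¹, hvC⟩ ≠ neg := by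
      intro h1
      apply hne
      have h2 : ψ ⟨t, Dat.t_mem h⟩ = neg := h.hz _ rfl
      exact congrArg Subtype.val (h.mod.inj (h1.trans h2.symm))
    have h1 := card_cent h.mod (w := ⟨g * t * g⁻¹, hvC⟩) (by rw [Subgroup.orderOf_mk, hvo]) hvne
    have hfinC : Finite C := inferInstance
    have h2 : Nat.card (SS h.mod) ≤ Nat.card {c : C // c * ⟨g * t * g⁻¹, hvC⟩ = ⟨g * t * g⁻¹, hvC⟩ * c} := by
      apply Nat.card_le_card_of_injective
        (fun s : SS h.mod => (⟨s.1, Subtype.ext (hvc s.1 (hP ⟨s.1, s.2, rfl⟩))⟩ :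
          {c : C // c * ⟨g * t * g⁻¹, hvC⟩ = ⟨g * t * g⁻¹, hvC⟩ * c}))
      intro a b hab
      have h5 := congrArg Subtype.val hab
      exact Subtype.ext h5
    rw [h1, hScard] at h2
    omega
  rw [h.hC]
  exact mul_inv_eq_iff_eq_mul.mp hvt

theorem odd_normal (h : Dat t C ψ) (N : Subgroup G) (hN : N.Normal) (hodd : ¬ 2 ∣ Nat.card N) : N = ⊥ := by
  have hnotinv : ∀ u ∈ N, orderOf u ≠ 2 := by
    intro u hu h2
    apply hodd
    rw [← h2, ← Subgroup.orderOf_mk u hu]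
    exact orderOf_dvd_natCard _
  have hcop : ∀ u ∈ N, u * u = 1 → u = 1 := by
    intro u hu h2
    by_contra hne
    exact hnotinv u hu (orderOf_eq_prime (by rw [pow_two, h2]) hne)
  have htN : t ∉ N := fun h1 => hnotinv t h1 h.ht
  have hNC : ∀ c ∈ N, c ∈ C → c = 1 := by
    intro c hcN hcC
    set c' : C := ⟨c, hcC⟩ with hc'
    have hz : ψ ⟨t, Dat.t_mem h⟩ = neg := h.hz _ rfl
    rcases d_odd (ψ c') (h.mod.det c') with h1 | h1 | h1
    · have h2 : (c * c) * (c * c) * ((c * c) * (c * c)) = 1 := by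
        have h3 : (c' * c') * (c' * c') * ((c' * c') * (c' * c')) = 1 := by
          apply h.mod.eq_one_iff.mp
          rw [h.mod.mul, h.mod.mul, h.mod.mul]; exact h1
        exact congrArg Subtype.val h3
      have hcc : c * c ∈ N := N.mul_mem hcN hcN
      exact hcop c hcN (hcop _ hcc (hcop _ (N.mul_mem hcc hcc) h2))
    · by_contra hne
      have hne' : ψ c' ≠ one := by
        intro h2
        exact hne (congrArg Subtype.val (h.mod.eq_one_iff.mp h2))
      obtain ⟨d, hd, h3⟩ := d_three (ψ c') (h.mod.det c') h1 hne'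
      obtain ⟨e, rfl⟩ := h.mod.surj d hd
      rw [← h.mod.inv, ← h.mod.mul, ← h.mod.mul, ← h.mod.mul, ← h.mod.mul, ← hz] at h3
      have h4 := congrArg Subtype.val (h.mod.inj h3)
      apply htN
      have h5 : (c * (e * c * (e : G)⁻¹)) * (c * (e * c * (e : G)⁻¹)) = t := h4
      rw [← h5]
      have h6 : (e : G) * c * (e : G)⁻¹ ∈ N := hN.conj_mem c hcN e
      exact N.mul_mem (N.mul_mem hcN h6) (N.mul_mem hcN h6)
    · exfalso
      apply htN
      rw [← hz, ← h.mod.mul, ← h.mod.mul] at h1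
      have h4 := congrArg Subtype.val (h.mod.inj h1)
      have h5 : c * c * c = t := h4
      rw [← h5]
      exact N.mul_mem (N.mul_mem hcN hcN) hcN
  have hinv : ∀ n ∈ N, t * n * t⁻¹ = n⁻¹ := by
    have hm : ∀ n : N, (n : G)⁻¹ * (t * n * t⁻¹) ∈ N := fun n => N.mul_mem (N.inv_mem n.2) (hN.conj_mem n n.2 t)
    have hinj : Function.Injective (fun n : N => (⟨(n : G)⁻¹ * (t * n * t⁻¹), hm n⟩ : N)) := by
      intro a b hab
      have h1 : (a : G)⁻¹ * (t * a * t⁻¹) = (b : G)⁻¹ * (t * b * t⁻¹) := congrArg Subtype.val hab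
      have h2 : (b : G) * (a : G)⁻¹ ∈ C := by
        rw [h.hC]
        calc (b : G) * (a : G)⁻¹ * t = b * ((a : G)⁻¹ * (t * a * t⁻¹)) * t * (a : G)⁻¹ := by group
          _ = b * ((b : G)⁻¹ * (t * b * t⁻¹)) * t * (a : G)⁻¹ := by rw [h1]
          _ = t * ((b : G) * (a : G)⁻¹) := by group
      have h3 := hNC _ (N.mul_mem b.2 (N.inv_mem a.2)) h2
      exact Subtype.ext (mul_inv_eq_one.mp h3).symm
    intro n hn
    obtain ⟨a, ha⟩ := (Finite.injective_iff_surjective.mp hinj) ⟨n, hn⟩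
    have ha' : (a : G)⁻¹ * (t * a * t⁻¹) = n := congrArg Subtype.val ha
    have ht2 : t * t = 1 := by rw [← pow_two, ← h.ht]; exact pow_orderOf_eq_one t
    rw [← ha']
    calc t * ((a : G)⁻¹ * (t * a * t⁻¹)) * t⁻¹ = (t * (a : G)⁻¹ * t⁻¹) * ((t * t) * a * (t * t)⁻¹) := by group
      _ = (t * (a : G)⁻¹ * t⁻¹) * a := by rw [ht2]; group
      _ = ((a : G)⁻¹ * (t * a * t⁻¹))⁻¹ := by group
  have hinv' : ∀ u : G, orderOf u = 2 → ∀ n ∈ N, u * n * u⁻¹ = n⁻¹ := by
    intro u hu n hn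
    obtain ⟨g, hg⟩ := isConj_iff.mp (h.cj u hu)
    rw [← hg]
    have h1 := hinv (g⁻¹ * n * g) (by
      have := hN.conj_mem n hn g⁻¹
      rwa [inv_inv] at this)
    calc g * t * g⁻¹ * n * (g * t * g⁻¹)⁻¹ = g * (t * (g⁻¹ * n * g) * t⁻¹) * g⁻¹ := by group
      _ = g * (g⁻¹ * n * g)⁻¹ * g⁻¹ := by rw [h1]
      _ = n⁻¹ := by group
  obtain ⟨w, hw, hwo⟩ := Dat.exists_w h
  have hwG : orderOf (w : G) = 2 := by rw [Subgroup.orderOf_coe, hwo]
  have htw : orderOf (t * (w : G)) = 2 := by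
    have h1 : orderOf ((⟨t, Dat.t_mem h⟩ : C) * w) = 2 := by
      rw [order_two h.mod, h.mod.mul, hw]
      have hz : ψ ⟨t, Dat.t_mem h⟩ = neg := h.hz _ rfl
      rw [hz]
      decide +kernel
    rw [← Subgroup.orderOf_coe] at h1
    exact h1
  rw [eq_bot_iff]
  intro n hn
  rw [Subgroup.mem_bot]
  apply hcop n hn
  have h1 := hinv' _ htw n hn
  have h2 : t * (w : G) * n * (t * (w : G))⁻¹ = n := by
    calc t * (w : G) * n * (t * (w : G))⁻¹ = t * ((w : G) * n * (w : G)⁻¹) * t⁻¹ := by group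
      _ = t * n⁻¹ * t⁻¹ := by rw [hinv' _ hwG n hn]
      _ = n := by rw [hinv' t h.ht _ (N.inv_mem hn), inv_inv]
  rw [h2] at h1
  calc n * n = n * n⁻¹ := congrArg (fun x => n * x) h1
    _ = 1 := mul_inv_cancel n

theorem simple (h : Dat t C ψ) : IsSimpleGroup G := by
  have : Fact (Nat.Prime 2) := ⟨Nat.prime_two⟩
  have hnt : Nontrivial G := ⟨⟨t, 1, H5.Dihedral.ne_one h.ht⟩⟩
  refine ⟨fun N hN => ?_⟩
  by_cases h2 : 2 ∣ Nat.card N
  · right
    obtain ⟨u, hu⟩ := exists_prime_orderOf_dvd_card' 2 h2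
    have huG : orderOf (u : G) = 2 := by rw [Subgroup.orderOf_coe, hu]
    have hall : ∀ v : G, orderOf v = 2 → v ∈ N := by
      intro v hv
      obtain ⟨g, hg⟩ := isConj_iff.mp ((h.cj (u : G) huG).symm.trans (h.cj v hv))
      rw [← hg]
      exact hN.conj_mem _ u.2 g
    have hCN := Dat.mem_of_involutions h hall
    obtain ⟨P, hPC, hPN, -, -⟩ := Dat.exists_sylow h
    have hPN' : (P : Subgroup G) ≤ N := hPC.trans hCN
    have h3 := Sylow.normalizer_sup_eq_top (P.subtype hPN')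
    have h4 : ((P.subtype hPN' : Sylow 2 N) : Subgroup N).map N.subtype = (P : Subgroup G) := by
      rw [Sylow.coe_subtype, Subgroup.map_subgroupOf_eq_of_le hPN']
    rw [h4] at h3
    rw [eq_top_iff, ← h3]
    exact sup_le (hPN.trans hCN) le_rfl
  · left
    exact odd_normal h N hN h2

/-- the reduction for a group without normal subgroups of index two -/
theorem reduce (hno : ∀ H : Subgroup G, H.Normal → H.index ≠ 2) (ht : orderOf t = 2)
    (e : Subgroup.centralizer ({t} : Set G) ≃* Matrix.GeneralLinearGroup (Fin 2) (ZMod 3)) :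
    IsSimpleGroup G := by
  obtain ⟨ψ, hψ⟩ := exists_model e
  exact simple (exists_dat' hno ht (Subgroup.centralizer ({t} : Set G))
    (fun x => Subgroup.mem_centralizer_singleton_iff) hψ)

end H54.GL23
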