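import Mathlib
import Cfsg.Agent.Lib.H54.GL23b

/-!
Local data in a group with an involution centralizer `GL₂(3)`: matrix names for the elements of the
centralizer, and an element `n` of order three permuting the three involutions of a four-group.
-/

set_option autoImplicit false
set_option linter.unusedSectionVars false

open Subgroup

universe u

namespace H54.GL23

open H5.GLa H5.GLb H5.GLc H5.GLa.Model

def xQ : Q := (1, 1, 0, 1)
def yQ : Q := (1, 0, 1, 1)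
def sQ : Q := (1, 0, 0, 2)
def uQ : Q := (2, 0, 0, 1)
def wQ : Q := (0, 1, 1, 0)

set_option synthInstance.maxHeartbeats 400000 in
set_option synthInstance.maxSize 4000 in
theorem dR : ∀ q : Q, det q ≠ 0 → mul (mul q q) q = one → mul (mul sQ q) sQ = inv q →
    q = one ∨ q = xQ ∨ q = mul xQ xQ ∨ q = yQ ∨ q = mul yQ yQ := by decide +kernel

theorem dCx : ∀ q : Q, det q ≠ 0 → mul (mul q q) q = one → mul q xQ = mul xQ q →
    q = one ∨ q = xQ ∨ q = mul xQ xQ := by decide +kernel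

def pw4 (q : Q) : Q := mul (mul q q) (mul q q)

set_option synthInstance.maxHeartbeats 400000 in
set_option synthInstance.maxSize 4000 in
theorem dCx2 : ∀ q : Q, det q ≠ 0 → pw4 (pw4 q) = one → mul q xQ = mul xQ q →
    q = one ∨ q = neg := by decide +kernel

theorem dE : ∀ q : Q, det q ≠ 0 → mul q sQ = mul sQ q → q = one ∨ q = neg ∨ q = sQ ∨ q = uQ := by
  decide +kernel

theorem d3conj : ∀ q : Q, det q ≠ 0 → mul (mul q q) q = one → q ≠ one →
    ∃ g : Q, det g ≠ 0 ∧ mul (mul g q) (inv g) = xQ := by decide +kernel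

theorem dinvdet : ∀ q : Q, det q ≠ 0 → det (inv q) ≠ 0 := by decide +kernel

theorem dmuldet : ∀ q r : Q, det q ≠ 0 → det r ≠ 0 → det (mul q r) ≠ 0 := by
  intro q r hq hr
  rw [d_det_mul]
  exact mul_ne_zero hq hr

variable {G : Type u} [Group G] {t : G} {C : Subgroup G} {ψ : C → Q}

open Classical in
/-- the element of `C` with matrix `q` -/
noncomputable def E (ψ : C → Q) (q : Q) : G :=
  if hq : ∃ c, ψ c = q then (Classical.choose hq : C) else 1

theorem E_spec (h : Dat t C ψ) {q : Q} (hq : det q ≠ 0) : ∃ c : C, ψ c = q ∧ (c : G) = E ψ q := by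
  have h1 := h.mod.surj q hq
  refine ⟨Classical.choose h1, Classical.choose_spec h1, ?_⟩
  unfold E
  rw [dif_pos h1]

theorem E_coe (h : Dat t C ψ) (c : C) : E ψ (ψ c) = c := by
  obtain ⟨d, hd, hd2⟩ := E_spec h (h.mod.det c)
  rw [← hd2, h.mod.inj hd]

theorem E_mul (h : Dat t C ψ) {q r : Q} (hq : det q ≠ 0) (hr : det r ≠ 0) :
    E ψ q * E ψ r = E ψ (mul q r) := by
  obtain ⟨c, hc, hc2⟩ := E_spec h hq
  obtain ⟨d, hd, hd2⟩ := E_spec h hr
  rw [← hc2, ← hd2, ← Subgroup.coe_mul, ← E_coe h (c * d), h.mod.mul, hc, hd]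

theorem E_mem (h : Dat t C ψ) {q : Q} (hq : det q ≠ 0) : E ψ q ∈ C := by
  obtain ⟨c, -, hc2⟩ := E_spec h hq
  rw [← hc2]; exact c.2

theorem exists_E (h : Dat t C ψ) {g : G} (hg : g ∈ C) : ∃ q : Q, det q ≠ 0 ∧ g = E ψ q :=
  ⟨ψ ⟨g, hg⟩, h.mod.det _, (E_coe h ⟨g, hg⟩).symm⟩

theorem E_one (h : Dat t C ψ) : E ψ one = 1 := by
  have := E_coe h 1
  rwa [h.mod.one] at this

theorem E_neg (h : Dat t C ψ) : E ψ neg = t := by
  have h1 : ψ ⟨t, (h.hC t).2 rfl⟩ = neg := h.hz _ rfl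
  have := E_coe h ⟨t, (h.hC t).2 rfl⟩
  rwa [h1] at this

theorem E_inj (h : Dat t C ψ) {q r : Q} (hq : det q ≠ 0) (hr : det r ≠ 0) (he : E ψ q = E ψ r) : q = r := by
  obtain ⟨c, hc, hc2⟩ := E_spec h hq
  obtain ⟨d, hd, hd2⟩ := E_spec h hr
  rw [← hc2, ← hd2] at he
  rw [← hc, ← hd, Subtype.ext he]

theorem E_inv (h : Dat t C ψ) {q : Q} (hq : det q ≠ 0) : (E ψ q)⁻¹ = E ψ (inv q) := by
  obtain ⟨c, hc, hc2⟩ := E_spec h hq
  rw [← hc2, ← hc, ← h.mod.inv, E_coe h, Subgroup.coe_inv]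

theorem E_comm (h : Dat t C ψ) {q : Q} (hq : det q ≠ 0) : E ψ q * t = t * E ψ q :=
  (h.hC _).1 (E_mem h hq)

theorem s_sq (h : Dat t C ψ) : E ψ sQ * E ψ sQ = 1 := by
  rw [E_mul h (by decide) (by decide), ← E_one h]; congr 1

theorem t_sq (h : Dat t C ψ) : t * t = 1 := by
  rw [← pow_two, ← h.ht]; exact pow_orderOf_eq_one t

theorem s_ne_one (h : Dat t C ψ) : E ψ sQ ≠ 1 := by
  rw [← E_one h]
  intro he
  exact absurd (E_inj h (by decide) (by decide) he) (by decide)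

theorem s_ne_t (h : Dat t C ψ) : E ψ sQ ≠ t := by
  rw [← E_neg h]
  intro he
  exact absurd (E_inj h (by decide) (by decide) he) (by decide)

theorem ts_eq (h : Dat t C ψ) : t * E ψ sQ = E ψ uQ := by
  have h1 : t * E ψ sQ = E ψ neg * E ψ sQ := by rw [E_neg h]
  rw [h1, E_mul h (by decide) (by decide)]
  congr 1

theorem st_eq (h : Dat t C ψ) : E ψ sQ * t = E ψ uQ := by
  rw [E_comm h (by decide), ts_eq h]

/-- elements commuting with `t` and `s` -/
theorem cent_E (h : Dat t C ψ) {v : G} (h1 : v * t = t * v) (h2 : v * E ψ sQ = E ψ sQ * v) :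
    v = 1 ∨ v = t ∨ v = E ψ sQ ∨ v = E ψ uQ := by
  obtain ⟨q, hq, rfl⟩ := exists_E h ((h.hC v).2 h1)
  rw [E_mul h hq (by decide), E_mul h (by decide) hq] at h2
  have h3 := E_inj h (dmuldet _ _ hq (by decide)) (dmuldet _ _ (by decide) hq) h2
  rcases dE q hq h3 with rfl | rfl | rfl | rfl
  · exact Or.inl (E_one h)
  · exact Or.inr (Or.inl (E_neg h))
  · exact Or.inr (Or.inr (Or.inl rfl))
  · exact Or.inr (Or.inr (Or.inr rfl))

theorem exists_n [Finite G] (h : Dat t C ψ) : ∃ n : G, n * t * n⁻¹ = E ψ sQ ∧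
    n * E ψ sQ * n⁻¹ = E ψ uQ ∧ n * E ψ uQ * n⁻¹ = t ∧ n * n * n = 1 := by
  set s := E ψ sQ with hs
  have hso : orderOf s = 2 := orderOf_eq_prime (by rw [pow_two, s_sq h]) (s_ne_one h)
  obtain ⟨g, hg⟩ := isConj_iff.mp (h.cj s hso).symm
  -- hg : g * s * g⁻¹ = t
  have hst : s * t = t * s := E_comm h (by decide)
  have hu : g * t * g⁻¹ ∈ C := by
    rw [h.hC, ← hg]
    calc g * (g * s * g⁻¹) * g⁻¹ * (g * s * g⁻¹) = g * ((g * s * g⁻¹) * s) * g⁻¹ := by group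
      _ = g * (t * s) * g⁻¹ := by rw [hg]
      _ = g * (s * t) * g⁻¹ := by rw [hst]
      _ = g * (s * (g * s * g⁻¹)) * g⁻¹ := by rw [hg]
      _ = (g * s * g⁻¹) * (g * (g * s * g⁻¹) * g⁻¹) := by group
  have huo : orderOf (g * t * g⁻¹) = 2 := by rw [H5.Dihedral.orderOf_conj, h.ht]
  have hune : g * t * g⁻¹ ≠ t := by
    intro e
    have h1 : g * t * g⁻¹ = g * s * g⁻¹ := by rw [e, hg]
    exact s_ne_t h (mul_left_cancel (mul_right_cancel h1)).symm
  have htneg : ψ ⟨t, (h.hC t).2 rfl⟩ = neg := h.hz _ rfl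
  obtain ⟨cs, hcs, hcs2⟩ := E_spec h (q := sQ) (by decide)
  have h1 : IsConj (⟨g * t * g⁻¹, hu⟩ : C) cs := by
    apply conj_inv h.mod
    · rw [Subgroup.orderOf_mk, huo]
    · rw [← htneg]
      intro e
      exact hune (congrArg Subtype.val (h.mod.inj e))
    · rw [← Subgroup.orderOf_coe, hcs2]; exact hso
    · rw [hcs]; decide
  obtain ⟨c, hc⟩ := isConj_iff.mp h1
  have hc' : (c : G) * (g * t * g⁻¹) * (c : G)⁻¹ = s := by
    rw [hs, ← hcs2]
    exact congrArg Subtype.val hc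
  have hct := (h.hC (c : G)).1 c.2
  set k := (c : G) * g with hk
  have k1 : k * s * k⁻¹ = t := by
    calc k * s * k⁻¹ = (c : G) * (g * s * g⁻¹) * (c : G)⁻¹ := by rw [hk]; group
      _ = t := by rw [hg, hct, mul_inv_cancel_right]
  have k2 : k * t * k⁻¹ = s := by
    rw [← hc', hk]; group
  have hw1 : E ψ wQ * t * (E ψ wQ)⁻¹ = t := by
    rw [E_comm h (by decide), mul_inv_cancel_right]
  have hw2 : E ψ wQ * s * (E ψ wQ)⁻¹ = E ψ uQ := by
    rw [mul_inv_eq_iff_eq_mul, hs, E_mul h (by decide) (by decide), E_mul h (by decide) (by decide)]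
    congr 1
  have hu' : E ψ uQ = t * s := (ts_eq h).symm
  have k3 : k * E ψ uQ * k⁻¹ = E ψ uQ := by
    calc k * E ψ uQ * k⁻¹ = (k * t * k⁻¹) * (k * s * k⁻¹) := by rw [hu']; group
      _ = s * t := by rw [k1, k2]
      _ = E ψ uQ := st_eq h
  have hw3 : E ψ wQ * E ψ uQ * (E ψ wQ)⁻¹ = s := by
    calc E ψ wQ * E ψ uQ * (E ψ wQ)⁻¹ = (E ψ wQ * t * (E ψ wQ)⁻¹) * (E ψ wQ * s * (E ψ wQ)⁻¹) := by
          rw [hu']; group
      _ = t * E ψ uQ := by rw [hw1, hw2]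
      _ = (t * t) * s := by rw [hu', mul_assoc]
      _ = s := by rw [t_sq h, one_mul]
  set n := k * E ψ wQ with hn
  have n1 : n * t * n⁻¹ = s := by
    calc n * t * n⁻¹ = k * (E ψ wQ * t * (E ψ wQ)⁻¹) * k⁻¹ := by rw [hn]; group
      _ = s := by rw [hw1, k2]
  have n2 : n * s * n⁻¹ = E ψ uQ := by
    calc n * s * n⁻¹ = k * (E ψ wQ * s * (E ψ wQ)⁻¹) * k⁻¹ := by rw [hn]; group
      _ = E ψ uQ := by rw [hw2, k3]
  have n3 : n * E ψ uQ * n⁻¹ = t := by
    calc n * E ψ uQ * n⁻¹ = k * (E ψ wQ * E ψ uQ * (E ψ wQ)⁻¹) * k⁻¹ := by rw [hn]; group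
      _ = t := by rw [hw3, k1]
  refine ⟨n, n1, n2, n3, ?_⟩
  set v := n * n * n with hv
  have v1 : v * t = t * v := by
    rw [← mul_inv_eq_iff_eq_mul]
    calc v * t * v⁻¹ = n * (n * (n * t * n⁻¹) * n⁻¹) * n⁻¹ := by rw [hv]; group
      _ = t := by rw [n1, n2, n3]
  have v2 : v * s = s * v := by
    rw [← mul_inv_eq_iff_eq_mul]
    calc v * s * v⁻¹ = n * (n * (n * s * n⁻¹) * n⁻¹) * n⁻¹ := by rw [hv]; group
      _ = s := by rw [n2, n3, n1]
  have v3 : n * v * n⁻¹ = v := by rw [hv]; group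
  have hune' : E ψ uQ ≠ t := by
    intro e
    rw [hu'] at e
    exact s_ne_one h (mul_eq_left.mp e)
  have hune2 : E ψ uQ ≠ s := by
    intro e
    rw [hu'] at e
    exact H5.Dihedral.ne_one h.ht (mul_eq_right.mp e)
  rcases cent_E h v1 v2 with e | e | e | e
  · exact e
  · exfalso
    rw [e, n1] at v3
    exact s_ne_t h v3
  · exfalso
    rw [e] at v3
    exact hune2 (n2.symm.trans v3)
  · exfalso
    rw [e, n3] at v3
    exact hune' v3.symm

end H54.GL23
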