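import Mathlib
import Cfsg.Agent.Lib.H54.GL23c

/-!
The centralizer of an element of order three in the case `|G| = 5616`.
-/

set_option autoImplicit false
set_option linter.unusedSectionVars false

open Subgroup

universe u

namespace H54.GL23

open H5.GLa H5.GLb H5.GLc H5.GLa.Model

variable {G : Type u} [Group G] {t : G} {C : Subgroup G} {ψ : C → Q}

theorem pow_48 [Finite G] (h : Dat t C ψ) {u : G} (hu : u ∈ C) : u ^ 48 = 1 := by
  have h1 : orderOf (⟨u, hu⟩ : C) ∣ 48 := by
    rw [← h.mod.card]; exact orderOf_dvd_natCard _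
  rw [Subgroup.orderOf_mk] at h1
  exact orderOf_dvd_iff_pow_eq_one.mp h1

theorem pow_three [Finite G] (h : Dat t C ψ) {u : G} (hu : u ∈ C) (h27 : u ^ 27 = 1) : u ^ 3 = 1 := by
  have h1 := orderOf_dvd_iff_pow_eq_one.mpr (pow_48 h hu)
  have h2 := orderOf_dvd_iff_pow_eq_one.mpr h27
  exact orderOf_dvd_iff_pow_eq_one.mp ((Nat.dvd_gcd h1 h2).trans (by decide))

theorem E_cube (h : Dat t C ψ) {q : Q} (hq : det q ≠ 0) (h3 : E ψ q ^ 3 = 1) : mul (mul q q) q = one := by
  rw [pow_succ, pow_two, E_mul h hq hq, E_mul h (dmuldet _ _ hq hq) hq, ← E_one h] at h3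
  exact E_inj h (dmuldet _ _ (dmuldet _ _ hq hq) hq) (by decide) h3

theorem x_cube (h : Dat t C ψ) : E ψ xQ ^ 3 = 1 := by
  rw [pow_succ, pow_two, E_mul h (by decide) (by decide), E_mul h (by decide) (by decide), ← E_one h]
  congr 1

theorem x_ne_one (h : Dat t C ψ) : E ψ xQ ≠ 1 := by
  rw [← E_one h]
  intro he
  exact absurd (E_inj h (by decide) (by decide) he) (by decide)

theorem x_order (h : Dat t C ψ) : orderOf (E ψ xQ) = 3 := orderOf_eq_prime (x_cube h) (x_ne_one h)

theorem t_comm_x (h : Dat t C ψ) : t * E ψ xQ = E ψ xQ * t := (E_comm h (by decide)).symm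

theorem s_conj_x (h : Dat t C ψ) : E ψ sQ * E ψ xQ * (E ψ sQ)⁻¹ = (E ψ xQ)⁻¹ := by
  rw [mul_inv_eq_iff_eq_mul, E_inv h (by decide), E_mul h (by decide) (by decide),
    E_mul h (by decide) (by decide)]
  congr 1

/-- three-elements of `C` commuting with `x` -/
theorem cent_x3 [Finite G] (h : Dat t C ψ) {u : G} (hu : u ∈ C) (h27 : u ^ 27 = 1)
    (hx : u * E ψ xQ = E ψ xQ * u) : u = 1 ∨ u = E ψ xQ ∨ u = (E ψ xQ)⁻¹ := by
  have h3 := pow_three h hu h27
  obtain ⟨q, hq, rfl⟩ := exists_E h hu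
  have hq3 := E_cube h hq h3
  rw [E_mul h hq (by decide), E_mul h (by decide) hq] at hx
  have hx' := E_inj h (dmuldet _ _ hq (by decide)) (dmuldet _ _ (by decide) hq) hx
  rcases dCx q hq hq3 hx' with rfl | rfl | rfl
  · exact Or.inl (E_one h)
  · exact Or.inr (Or.inl rfl)
  · right; right
    rw [E_inv h (by decide)]
    congr 1

/-- an element of order three commuting with an involution is conjugate to `x` -/
theorem conj_x [Finite G] (h : Dat t C ψ) {v u : G} (hv : orderOf v = 2) (hu : u ^ 3 = 1) (hu1 : u ≠ 1)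
    (hc : u * v = v * u) : IsConj (E ψ xQ) u := by
  obtain ⟨g, hg⟩ := isConj_iff.mp (h.cj v hv)
  -- hg : g * t * g⁻¹ = v
  have h1 : g⁻¹ * u * g ∈ C := by
    rw [h.hC]
    have ht : t = g⁻¹ * v * g := by rw [← hg]; group
    rw [ht]
    calc g⁻¹ * u * g * (g⁻¹ * v * g) = g⁻¹ * (u * v) * g := by group
      _ = g⁻¹ * (v * u) * g := by rw [hc]
      _ = g⁻¹ * v * g * (g⁻¹ * u * g) := by group
  obtain ⟨q, hq, hq2⟩ := exists_E h h1
  have h3 : (g⁻¹ * u * g) ^ 3 = 1 := by
    have : (g⁻¹ * u * g) ^ 3 = g⁻¹ * u ^ 3 * g := by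
      have := conj_pow (i := 3) (a := g⁻¹) (b := u)
      rw [inv_inv] at this
      exact this
    rw [this, hu]; group
  rw [hq2] at h3
  have hq3 := E_cube h hq h3
  have hq1 : q ≠ one := by
    rintro rfl
    rw [E_one h] at hq2
    apply hu1
    calc u = g * (g⁻¹ * u * g) * g⁻¹ := by group
      _ = 1 := by rw [hq2]; group
  obtain ⟨r, hr, hr2⟩ := d3conj q hq hq3 hq1
  have h4 : E ψ r * E ψ q * (E ψ r)⁻¹ = E ψ xQ := by
    rw [E_mul h hr hq, E_inv h hr, E_mul h (dmuldet _ _ hr hq) (dinvdet _ hr), hr2]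
  rw [← hq2] at h4
  apply IsConj.symm
  refine isConj_iff.mpr ⟨E ψ r * g⁻¹, ?_⟩
  rw [← h4]; group

theorem two_part [Finite G] (h : Dat t C ψ) :
    ¬ 4 ∣ Nat.card (Subgroup.centralizer ({E ψ xQ} : Set G)) := by
  intro h4
  have : Fact (Nat.Prime 2) := ⟨Nat.prime_two⟩
  set x := E ψ xQ with hx
  set Cx := Subgroup.centralizer ({x} : Set G) with hCx
  have hmem : ∀ u : G, u ∈ Cx ↔ u * x = x * u := fun u => Subgroup.mem_centralizer_singleton_iff
  have htC : t ∈ Cx := (hmem t).2 (t_comm_x h)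
  have hz : IsPGroup 2 (Subgroup.zpowers (⟨t, htC⟩ : Cx)) := by
    apply IsPGroup.of_card (n := 1)
    rw [Nat.card_zpowers, Subgroup.orderOf_mk, h.ht, pow_one]
  obtain ⟨U, hU⟩ := hz.exists_le_sylow
  have htU : (⟨t, htC⟩ : Cx) ∈ (U : Subgroup Cx) := hU (Subgroup.mem_zpowers _)
  have hU4 : 4 ∣ Nat.card (U : Subgroup Cx) := by
    have : (2 : ℕ) ^ 2 ∣ Nat.card (U : Subgroup Cx) := U.pow_dvd_card_of_pow_dvd_card (by norm_num; exact h4)
    simpa using this
  have hUnt : Nontrivial (U : Subgroup Cx) := by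
    rw [← Finite.one_lt_card_iff_nontrivial]
    have := Nat.le_of_dvd Nat.card_pos hU4
    omega
  -- two-elements of `C` commuting with `x`
  have key : ∀ u : Cx, u ∈ (U : Subgroup Cx) → (u : G) * t = t * u → u = 1 ∨ (u : G) = t := by
    intro u hu hut
    have huC : (u : G) ∈ C := (h.hC _).2 hut
    obtain ⟨k, hk⟩ := U.2 ⟨u, hu⟩
    have hk' : (u : G) ^ 2 ^ k = 1 := by
      have h1 := congrArg (fun w : (U : Subgroup Cx) => ((w : Cx) : G)) hk
      simpa using h1
    have h16 : (u : G) ^ 16 = 1 := by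
      have h1 := orderOf_dvd_iff_pow_eq_one.mpr (pow_48 h huC)
      have h2 := orderOf_dvd_iff_pow_eq_one.mpr hk'
      obtain ⟨j, -, hj⟩ := (Nat.dvd_prime_pow Nat.prime_two).mp h2
      rw [hj] at h1
      have h3 : j ≤ 4 := by
        by_contra hcon
        have h5 : 2 ^ 5 ∣ 48 := (pow_dvd_pow 2 (by omega : 5 ≤ j)).trans h1
        revert h5; decide
      rw [← orderOf_dvd_iff_pow_eq_one, hj]
      exact pow_dvd_pow 2 h3
    obtain ⟨q, hq, hq2⟩ := exists_E h huC
    have hux := (hmem _).1 u.2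
    rw [hq2, hx, E_mul h hq (by decide), E_mul h (by decide) hq] at hux
    have hux' := E_inj h (dmuldet _ _ hq (by decide)) (dmuldet _ _ (by decide) hq) hux
    have hp : ∀ {r : Q}, det r ≠ 0 → det (pw4 r) ≠ 0 ∧ E ψ (pw4 r) = E ψ r ^ 4 := by
      intro r hr
      have h1 := dmuldet _ _ hr hr
      refine ⟨dmuldet _ _ h1 h1, ?_⟩
      unfold pw4
      rw [← E_mul h h1 h1, ← E_mul h hr hr]
      simp only [pow_succ, pow_zero, one_mul, mul_assoc]
    have hpw : pw4 (pw4 q) = H5.GLa.one := by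
      obtain ⟨p1, p2⟩ := hp hq
      obtain ⟨p3, p4⟩ := hp p1
      apply E_inj h p3 (by decide)
      rw [p4, p2, ← pow_mul, E_one h, ← hq2]
      exact h16
    rcases dCx2 q hq hpw hux' with rfl | rfl
    · left
      apply Subtype.ext
      rw [hq2, E_one h]; rfl
    · right
      rw [hq2, E_neg h]
  -- the center of `U`
  have h1 : Nontrivial (Subgroup.center (U : Subgroup Cx)) := U.2.center_nontrivial
  obtain ⟨v, hv⟩ := exists_ne (1 : Subgroup.center (U : Subgroup Cx))
  have hvt : (((v : (U : Subgroup Cx)) : Cx) : G) * t = t * (((v : (U : Subgroup Cx)) : Cx) : G) := by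
    have h2 := Subgroup.mem_center_iff.mp v.2 ⟨⟨t, htC⟩, htU⟩
    have h3 := congrArg (fun w : (U : Subgroup Cx) => ((w : Cx) : G)) h2
    exact h3.symm
  have hvt' : (((v : (U : Subgroup Cx)) : Cx) : G) = t := by
    rcases key _ (v : (U : Subgroup Cx)).2 hvt with e | e
    · exfalso
      apply hv
      apply Subtype.ext
      apply Subtype.ext
      exact e
    · exact e
  have hall : ∀ u : (U : Subgroup Cx), (u : Cx) = 1 ∨ ((u : Cx) : G) = t := by
    intro u
    apply key _ u.2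
    have h2 := Subgroup.mem_center_iff.mp v.2 u
    have h3 := congrArg (fun w : (U : Subgroup Cx) => ((w : Cx) : G)) h2
    have h4 : ((u : Cx) : G) * (((v : (U : Subgroup Cx)) : Cx) : G) =
      (((v : (U : Subgroup Cx)) : Cx) : G) * ((u : Cx) : G) := h3
    rw [hvt'] at h4
    exact h4
  have hle : Nat.card (U : Subgroup Cx) ≤ 2 := by
    classical
    have hinj : Function.Injective (fun u : (U : Subgroup Cx) => decide ((u : Cx) = 1)) := by
      intro a b hab
      have hab' : ((a : Cx) = 1) ↔ ((b : Cx) = 1) := by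
        simpa using hab
      rcases hall a with ha | ha
      · exact Subtype.ext (ha.trans (hab'.mp ha).symm)
      · rcases hall b with hb | hb
        · exact Subtype.ext ((hab'.mpr hb).trans hb.symm)
        · exact Subtype.ext (Subtype.ext (ha.trans hb.symm))
    have := Nat.card_le_card_of_injective _ hinj
    simpa using this
  have := Nat.le_of_dvd Nat.card_pos hU4
  omega

end H54.GL23
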