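import Mathlib
import Cfsg.Agent.Lib.H54.GL23d
import Cfsg.Agent.Lib.H21.SylowTools

/-!
The centralizer of an element of order three has order `54` in the case `|G| = 5616`.
-/

set_option autoImplicit false
set_option linter.unusedSectionVars false

open Subgroup

universe u

namespace H54.GL23

open H5.GLa H5.GLb H5.GLc H5.GLa.Model

variable {G : Type u} [Group G] {t : G} {C : Subgroup G} {ψ : C → Q}

theorem not_comm [Finite G] (h : Dat t C ψ) : ¬ IsMulCommutative G := by
  intro hc
  have h1 : ∀ a b : G, a * b = b * a := hc.is_comm.comm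
  have h2 := s_conj_x h
  rw [h1 (E ψ sQ), mul_inv_cancel_right] at h2
  have h3 : E ψ xQ * E ψ xQ = 1 := by
    calc E ψ xQ * E ψ xQ = E ψ xQ * (E ψ xQ)⁻¹ := by rw [← h2]
      _ = 1 := mul_inv_cancel _
  have h4 := x_order h
  have h5 := orderOf_dvd_iff_pow_eq_one.mpr (show E ψ xQ ^ 2 = 1 by rw [pow_two]; exact h3)
  rw [h4] at h5
  revert h5; decide

theorem d144 : ∀ d ∈ Nat.divisors 144, d % 13 = 1 → d = 1 ∨ d = 144 := by decide +kernel

theorem thirteen [Finite G] (h : Dat t C ψ) (hG : Nat.card G = 5616) :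
    ¬ 13 ∣ Nat.card (Subgroup.centralizer ({E ψ xQ} : Set G)) := by
  intro h13
  have hs : IsSimpleGroup G := simple h
  have hna := not_comm h
  have hp : Fact (Nat.Prime 13) := ⟨by norm_num⟩
  obtain ⟨y, hy⟩ := exists_prime_orderOf_dvd_card' 13 h13
  have hyo : orderOf (y : G) = 13 := by rw [Subgroup.orderOf_coe, hy]
  have hyx := Subgroup.mem_centralizer_singleton_iff.mp y.2
  have hYp : IsPGroup 13 (Subgroup.zpowers (y : G)) := by
    apply IsPGroup.of_card (n := 1)
    rw [Nat.card_zpowers, hyo, pow_one]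
  obtain ⟨P, hP⟩ := hYp.exists_le_sylow
  have hPc : Nat.card (P : Subgroup G) = 13 := by
    have := H21.SylowTools.card_sylow_eq_pow (G := G) (p := 13) (a := 1) (m := 432) (by rw [hG]; norm_num) (by norm_num) P
    rwa [pow_one] at this
  have hPe : Subgroup.zpowers (y : G) = (P : Subgroup G) := by
    apply Subgroup.eq_of_le_of_card_ge hP
    rw [hPc, Nat.card_zpowers, hyo]
  have hcx : E ψ xQ ∈ centralizer ((P : Subgroup G) : Set G) := by
    rw [← hPe, Subgroup.mem_centralizer_iff]
    intro z hz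
    obtain ⟨k, rfl⟩ := Subgroup.mem_zpowers_iff.mp hz
    have : Commute (y : G) (E ψ xQ) := hyx
    exact this.zpow_left k
  have hcy : (y : G) ∈ centralizer ((P : Subgroup G) : Set G) := by
    rw [← hPe, Subgroup.mem_centralizer_iff]
    intro z hz
    obtain ⟨k, rfl⟩ := Subgroup.mem_zpowers_iff.mp hz
    exact ((Commute.refl (y : G)).zpow_left k)
  have h3 : 3 ∣ Nat.card (centralizer ((P : Subgroup G) : Set G)) := by
    rw [← x_order h, ← Subgroup.orderOf_mk _ hcx]; exact orderOf_dvd_natCard _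
  have h13' : 13 ∣ Nat.card (centralizer ((P : Subgroup G) : Set G)) := by
    have h1 := orderOf_dvd_natCard (⟨(y : G), hcy⟩ : centralizer ((P : Subgroup G) : Set G))
    rwa [Subgroup.orderOf_mk, hyo] at h1
  have h39 : 39 ∣ Nat.card (centralizer ((P : Subgroup G) : Set G)) :=
    Nat.Coprime.mul_dvd_of_dvd_of_dvd (by norm_num : Nat.Coprime 3 13) h3 h13'
  have hle : centralizer ((P : Subgroup G) : Set G) ≤ normalizer ((P : Subgroup G) : Set G) :=
    Subgroup.centralizer_le_normalizer _
  have hmul := H21.SylowTools.card_normalizer_mul_card_sylow P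
  rw [hG] at hmul
  have h39' : 39 ∣ Nat.card (normalizer ((P : Subgroup G) : Set G)) := h39.trans (Subgroup.card_dvd_of_le hle)
  obtain ⟨m, hm⟩ := h39'
  have h144 : Nat.card (Sylow 13 G) ∣ 144 := by
    refine ⟨m, ?_⟩
    rw [hm] at hmul
    have : 39 * (Nat.card (Sylow 13 G) * m) = 39 * 144 := by
      calc 39 * (Nat.card (Sylow 13 G) * m) = 39 * m * Nat.card (Sylow 13 G) := by ring
        _ = 39 * 144 := hmul
    omega
  have hmod := card_sylow_modEq_one 13 G
  have hmod' : Nat.card (Sylow 13 G) % 13 = 1 := by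
    have := hmod
    unfold Nat.ModEq at this
    simpa using this
  have h13G : 13 ∣ Nat.card G := by rw [hG]; norm_num
  rcases d144 _ (Nat.mem_divisors.mpr ⟨h144, by norm_num⟩) hmod' with e | e
  · exact H21.SylowTools.card_sylow_ne_one hna h13G e
  · rw [e] at hmul
    have hN : Nat.card (normalizer ((P : Subgroup G) : Set G)) = 39 := by omega
    apply H21.SylowTools.burnside_not_le hna h13G P
    have h5 : centralizer ((P : Subgroup G) : Set G) = normalizer ((P : Subgroup G) : Set G) := by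
      apply Subgroup.eq_of_le_of_card_ge hle
      rw [hN]
      exact Nat.le_of_dvd Nat.card_pos h39
    exact h5.ge

theorem d5616 : ∀ d ∈ Nat.divisors 5616, ¬ 4 ∣ d → ¬ 13 ∣ d → 2 ∣ d → 3 ∣ d → d = 6 ∨ d = 18 ∨ d = 54 := by
  decide +kernel

theorem card_Cx_cases [Finite G] (h : Dat t C ψ) (hG : Nat.card G = 5616) :
    Nat.card (Subgroup.centralizer ({E ψ xQ} : Set G)) = 6 ∨
    Nat.card (Subgroup.centralizer ({E ψ xQ} : Set G)) = 18 ∨
    Nat.card (Subgroup.centralizer ({E ψ xQ} : Set G)) = 54 := by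
  apply d5616
  · rw [Nat.mem_divisors, ← hG]
    exact ⟨Subgroup.card_subgroup_dvd_card _, by rw [hG]; norm_num⟩
  · exact two_part h
  · exact thirteen h hG
  · have htm : t ∈ Subgroup.centralizer ({E ψ xQ} : Set G) :=
      Subgroup.mem_centralizer_singleton_iff.mpr (t_comm_x h)
    rw [← h.ht, ← Subgroup.orderOf_mk _ htm]; exact orderOf_dvd_natCard _
  · have hxm : E ψ xQ ∈ Subgroup.centralizer ({E ψ xQ} : Set G) :=
      Subgroup.mem_centralizer_singleton_iff.mpr rfl
    rw [← x_order h, ← Subgroup.orderOf_mk _ hxm]; exact orderOf_dvd_natCard _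

/-- three-elements in a subgroup of order `2 * 3 ^ j` -/
theorem index_two_part {H : Subgroup G} [Finite G] {j : ℕ} (hH : Nat.card H = 2 * 3 ^ j) :
    ∃ K : Subgroup G, K ≤ H ∧ Nat.card K = 3 ^ j ∧ ∀ u ∈ H, u ^ 27 = 1 → u ∈ K := by
  have hp : Fact (Nat.Prime 3) := ⟨by norm_num⟩
  obtain ⟨⟨P⟩⟩ : Nonempty (Nonempty (Sylow 3 H)) := ⟨inferInstance⟩
  have hPc : Nat.card (P : Subgroup H) = 3 ^ j :=
    H21.SylowTools.card_sylow_eq_pow (G := H) (p := 3) (a := j) (m := 2) (by rw [hH, mul_comm]) (by norm_num) P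
  have hidx : (P : Subgroup H).index = 2 := by
    have h1 := (P : Subgroup H).card_mul_index
    rw [hPc, hH, mul_comm 2] at h1
    exact Nat.eq_of_mul_eq_mul_left (by positivity) h1
  refine ⟨(P : Subgroup H).map H.subtype, Subgroup.map_subtype_le _, ?_, ?_⟩
  · rw [Subgroup.card_map_of_injective H.subtype_injective, hPc]
  · intro u hu h27
    refine ⟨⟨u, hu⟩, ?_, rfl⟩
    have h1 := Subgroup.sq_mem_of_index_two hidx ⟨u, hu⟩
    have h2 : (⟨u, hu⟩ : H) = ((⟨u, hu⟩ : H) ^ 2) ^ 14 := by
      apply Subtype.ext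
      push_cast
      rw [← pow_mul]
      show u = u ^ 28
      rw [pow_succ, h27, one_mul]
    rw [h2]
    exact (P : Subgroup H).pow_mem h1 14

/-- `9` divides the order of the centralizer of `x` -/
theorem nine [Finite G] (h : Dat t C ψ) (hG : Nat.card G = 5616) :
    9 ∣ Nat.card (Subgroup.centralizer ({E ψ xQ} : Set G)) := by
  have hp : Fact (Nat.Prime 3) := ⟨by norm_num⟩
  have hxp : IsPGroup 3 (Subgroup.zpowers (E ψ xQ)) := by
    apply IsPGroup.of_card (n := 1)
    rw [Nat.card_zpowers, x_order h, pow_one]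
  obtain ⟨P, hP⟩ := hxp.exists_le_sylow
  have hxP : E ψ xQ ∈ (P : Subgroup G) := hP (Subgroup.mem_zpowers _)
  have hPc : Nat.card (P : Subgroup G) = 27 := by
    have := H21.SylowTools.card_sylow_eq_pow (G := G) (p := 3) (a := 3) (m := 208) (by rw [hG]; norm_num) (by norm_num) P
    rw [this]; norm_num
  have hPnt : Nontrivial (P : Subgroup G) := by
    rw [← Finite.one_lt_card_iff_nontrivial, hPc]; norm_num
  have h1 : Nontrivial (Subgroup.center (P : Subgroup G)) := P.2.center_nontrivial
  by_cases hxz : (⟨E ψ xQ, hxP⟩ : (P : Subgroup G)) ∈ Subgroup.center (P : Subgroup G)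
  · have hle : (P : Subgroup G) ≤ Subgroup.centralizer ({E ψ xQ} : Set G) := by
      intro g hg
      rw [Subgroup.mem_centralizer_singleton_iff]
      exact congrArg Subtype.val (Subgroup.mem_center_iff.mp hxz ⟨g, hg⟩)
    have h2 := Subgroup.card_dvd_of_le hle
    rw [hPc] at h2
    exact (by norm_num : 9 ∣ 27).trans h2
  · -- the center and `x` generate a larger group
    set Z := (Subgroup.center (P : Subgroup G)).map (P : Subgroup G).subtype with hZ
    set W := (P : Subgroup G) ⊓ Subgroup.centralizer ({E ψ xQ} : Set G) with hW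
    have hZW : Z ≤ W := by
      rintro _ ⟨z, hz, rfl⟩
      rw [hW, Subgroup.mem_inf]
      refine ⟨z.2, ?_⟩
      rw [Subgroup.mem_centralizer_singleton_iff]
      exact (congrArg Subtype.val (Subgroup.mem_center_iff.mp hz ⟨E ψ xQ, hxP⟩)).symm
    have hxW : E ψ xQ ∈ W := Subgroup.mem_inf.mpr ⟨hxP, Subgroup.mem_centralizer_singleton_iff.mpr rfl⟩
    have hxZ : E ψ xQ ∉ Z := by
      rintro ⟨z, hz, hz2⟩
      apply hxz
      have : z = ⟨E ψ xQ, hxP⟩ := Subtype.ext hz2
      rw [← this]; exact hz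
    have hZc : Nat.card Z = Nat.card (Subgroup.center (P : Subgroup G)) :=
      Subgroup.card_map_of_injective (P : Subgroup G).subtype_injective
    have hZ1 : 1 < Nat.card Z := by
      rw [hZc]; exact (Finite.one_lt_card_iff_nontrivial).mpr h1
    have hlt : Nat.card Z < Nat.card W := by
      apply lt_of_le_of_ne (Subgroup.card_le_of_le hZW)
      intro e
      apply hxZ
      rw [Subgroup.eq_of_le_of_card_ge hZW e.ge]; exact hxW
    have hW27 : Nat.card W ∣ 27 := by rw [← hPc]; exact Subgroup.card_dvd_of_le inf_le_left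
    have hZW' : Nat.card Z ∣ Nat.card W := Subgroup.card_dvd_of_le hZW
    have h9 : 9 ∣ Nat.card W := by
      have hm : Nat.card W ∈ Nat.divisors 27 := Nat.mem_divisors.mpr ⟨hW27, by norm_num⟩
      have hd : Nat.divisors 27 = {1, 3, 9, 27} := by decide +kernel
      rw [hd] at hm
      simp only [Finset.mem_insert, Finset.mem_singleton] at hm
      rcases hm with e | e | e | e
      · omega
      · rw [e] at hZW' hlt
        have := (Nat.prime_three.eq_one_or_self_of_dvd _ hZW')
        omega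
      · rw [e]
      · rw [e]; norm_num
    exact h9.trans (Subgroup.card_dvd_of_le inf_le_right)

end H54.GL23
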