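import Mathlib
import Cfsg.Agent.Lib.H54.GL23e

/-!
The centralizer of an element of order three has order `54` in the case `|G| = 5616`.
-/

set_option autoImplicit false
set_option linter.unusedSectionVars false

open Subgroup

universe u

namespace H54.GL23

open H5.GLa H5.GLb H5.GLc H5.GLa.Model

theorem pow_cases {G : Type*} [Group G] {z : G} (h3 : z ^ 3 = 1) {u : G} (hu : u ∈ zpowers z) :
    u = 1 ∨ u = z ∨ u = z⁻¹ := by
  obtain ⟨k, rfl⟩ := Subgroup.mem_zpowers_iff.mp hu
  have h3' : z ^ (3 : ℤ) = 1 := by exact_mod_cast h3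
  have hk := Int.emod_add_mul_ediv k 3
  have h1 : z ^ k = z ^ (k % 3) := by
    conv_lhs => rw [← hk]
    rw [zpow_add, zpow_mul, h3', one_zpow, mul_one]
  have h2 := Int.emod_nonneg k (by norm_num : (3 : ℤ) ≠ 0)
  have h4 := Int.emod_lt_of_pos k (by norm_num : (0 : ℤ) < 3)
  rw [h1]
  have h5 : k % 3 = 0 ∨ k % 3 = 1 ∨ k % 3 = 2 := by omega
  rcases h5 with e | e | e
  · left; rw [e, zpow_zero]
  · right; left; rw [e, zpow_one]
  · right; right
    rw [e]
    apply eq_inv_of_mul_eq_one_left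
    have : z ^ (2 : ℤ) * z = z ^ (3 : ℤ) := by
      rw [← zpow_add_one]; norm_num
    rw [this, h3']

theorem card_cent_conj {G : Type*} [Group G] {a b : G} (h : IsConj a b) :
    Nat.card (centralizer ({a} : Set G)) = Nat.card (centralizer ({b} : Set G)) := by
  obtain ⟨g, rfl⟩ := isConj_iff.mp h
  refine Nat.card_congr (Equiv.subtypeEquiv (MulAut.conj g).toEquiv ?_)
  intro u
  show u ∈ centralizer ({a} : Set G) ↔ g * u * g⁻¹ ∈ centralizer ({g * a * g⁻¹} : Set G)
  rw [Subgroup.mem_centralizer_singleton_iff, Subgroup.mem_centralizer_singleton_iff]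
  constructor
  · intro hu
    calc g * u * g⁻¹ * (g * a * g⁻¹) = g * (u * a) * g⁻¹ := by group
      _ = g * (a * u) * g⁻¹ := by rw [hu]
      _ = g * a * g⁻¹ * (g * u * g⁻¹) := by group
  · intro hu
    have h1 : g * (u * a) * g⁻¹ = g * (a * u) * g⁻¹ := by
      calc g * (u * a) * g⁻¹ = g * u * g⁻¹ * (g * a * g⁻¹) := by group
        _ = g * a * g⁻¹ * (g * u * g⁻¹) := hu
        _ = g * (a * u) * g⁻¹ := by group
    exact mul_left_cancel (mul_right_cancel h1)

theorem card_cent_inv {G : Type*} [Group G] (a : G) :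
    Nat.card (centralizer ({a⁻¹} : Set G)) = Nat.card (centralizer ({a} : Set G)) := by
  have : centralizer ({a⁻¹} : Set G) = centralizer ({a} : Set G) := by
    ext u
    rw [Subgroup.mem_centralizer_singleton_iff, Subgroup.mem_centralizer_singleton_iff]
    constructor
    · intro hu
      have h1 : Commute u a⁻¹ := hu
      exact (Commute.inv_right_iff.mp h1)
    · intro hu
      have h1 : Commute u a := hu
      exact h1.inv_right
  rw [this]

variable {G : Type u} [Group G] {t : G} {C : Subgroup G} {ψ : C → Q}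

theorem not18 [Finite G] (h : Dat t C ψ) (hG : Nat.card G = 5616) :
    Nat.card (Subgroup.centralizer ({E ψ xQ} : Set G)) ≠ 18 := by
  intro h18
  have hp : Fact (Nat.Prime 3) := ⟨by norm_num⟩
  set x := E ψ xQ with hx
  set Cx := Subgroup.centralizer ({x} : Set G) with hCx
  have hmem : ∀ u : G, u ∈ Cx ↔ u * x = x * u := fun u => Subgroup.mem_centralizer_singleton_iff
  have hx3 : x ^ 3 = 1 := x_cube h
  have hx1 : x ≠ 1 := x_ne_one h
  have hxp : IsPGroup 3 (Subgroup.zpowers x) := by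
    apply IsPGroup.of_card (n := 1)
    rw [Nat.card_zpowers, x_order h, pow_one]
  obtain ⟨P, hP⟩ := hxp.exists_le_sylow
  have hxP : x ∈ (P : Subgroup G) := hP (Subgroup.mem_zpowers _)
  have hPc : Nat.card (P : Subgroup G) = 27 := by
    have := H21.SylowTools.card_sylow_eq_pow (G := G) (p := 3) (a := 3) (m := 208) (by rw [hG]; norm_num)
      (by norm_num) P
    rw [this]; norm_num
  have hP27 : ∀ u ∈ (P : Subgroup G), u ^ 27 = 1 := by
    intro u hu
    have h1 := pow_card_eq_one' (x := (⟨u, hu⟩ : (P : Subgroup G)))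
    rw [hPc] at h1
    exact congrArg Subtype.val h1
  obtain ⟨K, hKle, hKc, hK⟩ := index_two_part (H := Cx) (j := 2) (by rw [h18]; norm_num)
  norm_num at hKc
  have hPnt : Nontrivial (P : Subgroup G) := by
    rw [← Finite.one_lt_card_iff_nontrivial, hPc]; norm_num
  -- a central element of order three
  have hcnt : Nontrivial (Subgroup.center (P : Subgroup G)) := P.2.center_nontrivial
  have hc3 : 3 ∣ Nat.card (Subgroup.center (P : Subgroup G)) := by
    have h3 : IsPGroup 3 (Subgroup.center (P : Subgroup G)) := P.2.to_subgroup _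
    obtain ⟨n, hn⟩ := IsPGroup.iff_card.mp h3
    rw [hn]
    apply dvd_pow_self
    rintro rfl
    rw [pow_zero] at hn
    have := (Finite.one_lt_card_iff_nontrivial (α := Subgroup.center (P : Subgroup G))).mpr hcnt
    omega
  obtain ⟨zz, hzz⟩ := exists_prime_orderOf_dvd_card' 3 hc3
  set zP : (P : Subgroup G) := (zz : (P : Subgroup G)) with hzP
  set z : G := (zP : G) with hz
  have hzo : orderOf z = 3 := by rw [hz, Subgroup.orderOf_coe, hzP, Subgroup.orderOf_coe, hzz]
  have hz3 : z ^ 3 = 1 := by rw [← hzo]; exact pow_orderOf_eq_one z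
  have hzc : ∀ g ∈ (P : Subgroup G), g * z = z * g := fun g hg =>
    congrArg Subtype.val (Subgroup.mem_center_iff.mp zz.2 ⟨g, hg⟩)
  have hz27 : z ^ 27 = 1 := hP27 _ zP.2
  have hzK : z ∈ K := hK z ((hmem z).2 (hzc x hxP).symm) hz27
  have hzPle : (P : Subgroup G) ≤ centralizer ({z} : Set G) := fun g hg =>
    Subgroup.mem_centralizer_singleton_iff.mpr (hzc g hg)
  have h27z : 27 ∣ Nat.card (centralizer ({z} : Set G)) := by
    rw [← hPc]; exact Subgroup.card_dvd_of_le hzPle
  have hnc : ¬ IsConj x z := by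
    intro hc
    rw [← card_cent_conj hc, ← hCx, h18] at h27z
    revert h27z; decide
  have hnc' : ¬ IsConj x z⁻¹ := by
    intro hc
    rw [← card_cent_inv, ← card_cent_conj hc, ← hCx, h18] at h27z
    revert h27z; decide
  have hxz : x ∉ zpowers z := by
    intro hc
    rcases pow_cases hz3 hc with e | e | e
    · exact hx1 e
    · exact hnc (by rw [e])
    · exact hnc' (by rw [e])
  -- P-conjugates of x
  have hcomm : ∀ g ∈ (P : Subgroup G), g * x * g⁻¹ * x⁻¹ ∈ zpowers z := by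
    intro g hg
    have hn : (zpowers zP).Normal := by
      refine ⟨fun a ha b => ?_⟩
      have hac : a ∈ Subgroup.center (P : Subgroup G) := by
        have : zpowers zP ≤ Subgroup.center (P : Subgroup G) := by
          rw [Subgroup.zpowers_le]; exact zz.2
        exact this ha
      rw [Subgroup.mem_center_iff.mp hac b, mul_inv_cancel_right]; exact ha
    have hq : Nat.card ((P : Subgroup G) ⧸ zpowers zP) = 3 ^ 2 := by
      have h1 := Subgroup.card_eq_card_quotient_mul_card_subgroup (zpowers zP)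
      have h2 : Nat.card (zpowers zP) = 3 := by
        rw [Nat.card_zpowers, hzP, Subgroup.orderOf_coe, hzz]
      rw [hPc, h2] at h1
      omega
    have hab := IsPGroup.commutative_of_card_eq_prime_sq hq
    have h1 := hab (QuotientGroup.mk ⟨g, hg⟩) (QuotientGroup.mk ⟨x, hxP⟩)
    rw [← QuotientGroup.mk_mul, ← QuotientGroup.mk_mul, eq_comm, QuotientGroup.eq] at h1
    obtain ⟨k, hk⟩ := Subgroup.mem_zpowers_iff.mp h1
    have hk' : z ^ k = (x * g)⁻¹ * (g * x) := by
      have := congrArg (fun a : (P : Subgroup G) => (a : G)) hk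
      simpa using this
    refine Subgroup.mem_zpowers_iff.mpr ⟨k, ?_⟩
    have hzk : (x * g) * z ^ k = z ^ k * (x * g) := by
      have h3 : Commute (x * g) z := hzc _ ((P : Subgroup G).mul_mem hxP hg)
      exact (h3.zpow_right k)
    calc z ^ k = (x * g) * z ^ k * (x * g)⁻¹ := by rw [hzk, mul_inv_cancel_right]
      _ = g * x * g⁻¹ * x⁻¹ := by rw [hk']; group
  obtain ⟨g0, hg0, hne0⟩ : ∃ g ∈ (P : Subgroup G), g * x * g⁻¹ * x⁻¹ ≠ 1 := by
    by_contra hcon
    push Not at hcon
    have hle : (P : Subgroup G) ≤ Cx := by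
      intro g hg
      rw [hmem]
      have := hcon g hg
      exact mul_inv_eq_iff_eq_mul.mp (mul_inv_eq_one.mp this)
    have h1 := Subgroup.card_dvd_of_le hle
    rw [hPc, h18] at h1
    revert h1; decide
  obtain ⟨w0, hw0⟩ : ∃ w : G, w = g0 * x * g0⁻¹ * x⁻¹ := ⟨_, rfl⟩
  have hw0z : w0 ∈ zpowers z := by rw [hw0]; exact hcomm g0 hg0
  rw [← hw0] at hne0
  have hw0g : g0 * w0 = w0 * g0 := by
    obtain ⟨k, hk⟩ := Subgroup.mem_zpowers_iff.mp hw0z
    rw [← hk]
    have : Commute g0 z := hzc g0 hg0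
    exact this.zpow_right k
  have hgx : g0 * x * g0⁻¹ = w0 * x := by rw [hw0]; group
  have hconj : ∀ c ∈ zpowers z, IsConj x (c * x) := by
    intro c hc
    rcases pow_cases hz3 hw0z with e | e | e
    · exact absurd e hne0
    · rcases pow_cases hz3 hc with f | f | f
      · rw [f, one_mul]
      · rw [f, ← e, ← hgx]; exact isConj_iff.mpr ⟨g0, rfl⟩
      · have h1 : c = w0 * w0 := by
          rw [f, e]
          apply inv_eq_of_mul_eq_one_left
          rw [← hz3, pow_succ, pow_two]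
        rw [h1]
        refine isConj_iff.mpr ⟨g0 * g0, ?_⟩
        calc g0 * g0 * x * (g0 * g0)⁻¹ = g0 * (g0 * x * g0⁻¹) * g0⁻¹ := by group
          _ = (g0 * w0) * x * g0⁻¹ := by rw [hgx]; group
          _ = w0 * (g0 * x * g0⁻¹) := by rw [hw0g]; group
          _ = w0 * w0 * x := by rw [hgx]; group
    · rcases pow_cases hz3 hc with f | f | f
      · rw [f, one_mul]
      · have h1 : c = w0 * w0 := by
          rw [f, e]
          have : z⁻¹ * z⁻¹ = z := by
            have h3 : z⁻¹ * z⁻¹ = (z ^ 3)⁻¹ * z := by group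
            rw [h3, hz3, inv_one, one_mul]
          exact this.symm
        rw [h1]
        refine isConj_iff.mpr ⟨g0 * g0, ?_⟩
        calc g0 * g0 * x * (g0 * g0)⁻¹ = g0 * (g0 * x * g0⁻¹) * g0⁻¹ := by group
          _ = (g0 * w0) * x * g0⁻¹ := by rw [hgx]; group
          _ = w0 * (g0 * x * g0⁻¹) := by rw [hw0g]; group
          _ = w0 * w0 * x := by rw [hgx]; group
      · rw [f, ← e, ← hgx]; exact isConj_iff.mpr ⟨g0, rfl⟩
  -- elements of `K`
  have hxK : x ∈ K := hK x ((hmem x).2 rfl) (by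
    calc x ^ 27 = (x ^ 3) ^ 9 := by rw [← pow_mul]
      _ = 1 := by rw [hx3, one_pow])
  have hKelt : ∀ u ∈ K, u ∉ zpowers z → IsConj x u ∨ IsConj x u⁻¹ := by
    intro u hu huz
    have hKab : ∀ a b : K, a * b = b * a := IsPGroup.commutative_of_card_eq_prime_sq (p := 3) (by rw [hKc]; norm_num)
    have hn : (zpowers (⟨z, hzK⟩ : K)).Normal := by
      refine ⟨fun a ha b => ?_⟩
      rw [hKab b a, mul_inv_cancel_right]; exact ha
    have hq : Nat.card (K ⧸ zpowers (⟨z, hzK⟩ : K)) = 3 := by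
      have h1 := Subgroup.card_eq_card_quotient_mul_card_subgroup (zpowers (⟨z, hzK⟩ : K))
      have h2 : Nat.card (zpowers (⟨z, hzK⟩ : K)) = 3 := by
        rw [Nat.card_zpowers, Subgroup.orderOf_mk, hzo]
      rw [hKc, h2] at h1
      omega
    have hzm : ∀ {a : K}, a ∈ zpowers (⟨z, hzK⟩ : K) → (a : G) ∈ zpowers z := by
      intro a ha
      obtain ⟨k, rfl⟩ := Subgroup.mem_zpowers_iff.mp ha
      refine Subgroup.mem_zpowers_iff.mpr ⟨k, ?_⟩
      push_cast
      rfl
    have hxne : (QuotientGroup.mk (⟨x, hxK⟩ : K) : K ⧸ zpowers (⟨z, hzK⟩ : K)) ≠ 1 := by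
      intro e
      exact hxz (hzm ((QuotientGroup.eq_one_iff _).mp e))
    have h1 : (QuotientGroup.mk (⟨u, hu⟩ : K) : K ⧸ zpowers (⟨z, hzK⟩ : K)) ∈
        zpowers (QuotientGroup.mk (⟨x, hxK⟩ : K) : K ⧸ zpowers (⟨z, hzK⟩ : K)) :=
      mem_zpowers_of_prime_card hq hxne
    have hxq3 : (QuotientGroup.mk (⟨x, hxK⟩ : K) : K ⧸ zpowers (⟨z, hzK⟩ : K)) ^ 3 = 1 := by
      rw [← QuotientGroup.mk_pow]
      have : (⟨x, hxK⟩ : K) ^ 3 = 1 := Subtype.ext hx3
      rw [this]; rfl
    rcases pow_cases hxq3 h1 with e | e | e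
    · exact absurd (hzm ((QuotientGroup.eq_one_iff _).mp e)) huz
    · left
      rw [QuotientGroup.eq] at e
      have h2 := hzm e
      have h3 : (u : G)⁻¹ * x ∈ zpowers z := h2
      have h4 : u = (u⁻¹ * x)⁻¹ * x := by
        have h5 : u * x = x * u := (hmem u).1 (hKle hu)
        calc u = x⁻¹ * (x * u) := by group
          _ = x⁻¹ * (u * x) := by rw [h5]
          _ = (u⁻¹ * x)⁻¹ * x := by group
      rw [h4]
      exact hconj _ ((zpowers z).inv_mem h3)
    · right
      rw [← QuotientGroup.mk_inv, QuotientGroup.eq] at e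
      have h2 := hzm e
      have h3 : (u : G)⁻¹ * x⁻¹ ∈ zpowers z := h2
      have h4 : u⁻¹ = (u⁻¹ * x⁻¹) * x := by group
      rw [h4]
      exact hconj _ h3
  -- the action of `t` and `s`
  have hcases : ∀ v : G, (∀ u ∈ Cx, v * u * v⁻¹ ∈ Cx) → v * z * v⁻¹ = z ∨ v * z * v⁻¹ = z⁻¹ := by
    intro v hv
    have hvz : v * z * v⁻¹ ∈ K := by
      apply hK _ (hv z (hKle hzK))
      rw [conj_pow, hz27, mul_one, mul_inv_cancel]
    by_cases hin : v * z * v⁻¹ ∈ zpowers z
    · rcases pow_cases hz3 hin with e | e | e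
      · exfalso
        have h1 : z = 1 := by
          calc z = v⁻¹ * (v * z * v⁻¹) * v := by group
            _ = 1 := by rw [e]; group
        rw [h1, orderOf_one] at hzo
        omega
      · exact Or.inl e
      · exact Or.inr e
    · exfalso
      have hcz : IsConj z (v * z * v⁻¹) := isConj_iff.mpr ⟨v, rfl⟩
      rcases hKelt _ hvz hin with e | e
      · exact hnc (e.trans hcz.symm)
      · have h1 : IsConj z⁻¹ (v * z * v⁻¹)⁻¹ := isConj_iff.mpr ⟨v, by group⟩
        exact hnc' (e.trans h1.symm)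
  have htC : ∀ u ∈ Cx, t * u * t⁻¹ ∈ Cx := fun u hu =>
    Cx.mul_mem (Cx.mul_mem ((hmem t).2 (t_comm_x h)) hu) (Cx.inv_mem ((hmem t).2 (t_comm_x h)))
  have hsC : ∀ u ∈ Cx, E ψ sQ * u * (E ψ sQ)⁻¹ ∈ Cx := by
    intro u hu
    rw [hmem] at hu ⊢
    have hsx := s_conj_x h
    rw [← hx] at hsx
    have hsx' : (E ψ sQ)⁻¹ * x * E ψ sQ = x⁻¹ := by
      have h1 : x = E ψ sQ * x⁻¹ * (E ψ sQ)⁻¹ := by
        have h2 : x = (x⁻¹)⁻¹ := (inv_inv x).symm
        rw [← hsx] at h2
        calc x = (E ψ sQ * x * (E ψ sQ)⁻¹)⁻¹ := h2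
          _ = E ψ sQ * x⁻¹ * (E ψ sQ)⁻¹ := by group
      calc (E ψ sQ)⁻¹ * x * E ψ sQ = (E ψ sQ)⁻¹ * (E ψ sQ * x⁻¹ * (E ψ sQ)⁻¹) * E ψ sQ := by rw [← h1]
        _ = x⁻¹ := by group
    have hu' : u * x⁻¹ = x⁻¹ * u := by
      have h1 : Commute u x := hu
      exact h1.inv_right
    calc E ψ sQ * u * (E ψ sQ)⁻¹ * x = E ψ sQ * u * ((E ψ sQ)⁻¹ * x * E ψ sQ) * (E ψ sQ)⁻¹ := by group
      _ = E ψ sQ * (u * x⁻¹) * (E ψ sQ)⁻¹ := by rw [hsx']; group
      _ = E ψ sQ * (x⁻¹ * u) * (E ψ sQ)⁻¹ := by rw [hu']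
      _ = E ψ sQ * (((E ψ sQ)⁻¹ * x * E ψ sQ) * u) * (E ψ sQ)⁻¹ := by rw [hsx']
      _ = x * (E ψ sQ * u * (E ψ sQ)⁻¹) := by group
  have hz1 : z ≠ 1 := by
    intro e
    rw [e, orderOf_one] at hzo
    omega
  have hfinal : ∀ v : G, orderOf v = 2 → v * z * v⁻¹ ≠ z := by
    intro v hv e
    exact hnc (conj_x h hv hz3 hz1 (mul_inv_eq_iff_eq_mul.mp e).symm)
  have hso : orderOf (E ψ sQ) = 2 := orderOf_eq_prime (by rw [pow_two, s_sq h]) (s_ne_one h)
  have huo : orderOf (E ψ uQ) = 2 := by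
    apply orderOf_eq_prime
    · rw [pow_two, E_mul h (by decide) (by decide), ← E_one h]; congr 1
    · rw [← E_one h]
      intro he
      exact absurd (E_inj h (by decide) (by decide) he) (by decide)
  have e1 := (hcases t htC).resolve_left (hfinal t h.ht)
  have e2 := (hcases _ hsC).resolve_left (hfinal _ hso)
  apply hfinal _ huo
  rw [← ts_eq h]
  calc t * E ψ sQ * z * (t * E ψ sQ)⁻¹ = t * (E ψ sQ * z * (E ψ sQ)⁻¹) * t⁻¹ := by group
    _ = (t * z * t⁻¹)⁻¹ := by rw [e2]; group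
    _ = z := by rw [e1, inv_inv]

theorem card_Cx [Finite G] (h : Dat t C ψ) (hG : Nat.card G = 5616) :
    Nat.card (Subgroup.centralizer ({E ψ xQ} : Set G)) = 54 := by
  rcases card_Cx_cases h hG with e | e | e
  · exfalso
    have := nine h hG
    rw [e] at this
    revert this; decide
  · exact absurd e (not18 h hG)
  · exact e

end H54.GL23
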