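import Mathlib
import Cfsg.Agent.Lib.H54.Hex2
import Cfsg.Agent.Lib.H2.GenCent
import Cfsg.Agent.Lib.H5.InvTools
import Cfsg.Agent.Lib.H26.SupCard

/-!
The hexagon configuration: the local analysis of a group of order `5616` with a centralizer of an
involution of type `GL₂(3)`, abstractly.
-/

set_option autoImplicit false
set_option linter.unusedSectionVars false

open Subgroup
open scoped commutatorElement

universe u

namespace H54.GL23h

variable {G : Type u} [Group G]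

/-- the local data -/
structure Hy (t s n x y : G) : Prop where
  tt : t * t = 1
  ss : s * s = 1
  ts : t * s = s * t
  t1 : t ≠ 1
  s1 : s ≠ 1
  st : s ≠ t
  nt : n * t * n⁻¹ = s
  ns : n * s * n⁻¹ = t * s
  nu : n * (t * s) * n⁻¹ = t
  n3 : n * n * n = 1
  x3 : x ^ 3 = 1
  y3 : y ^ 3 = 1
  x1 : x ≠ 1
  y1 : y ≠ 1
  tx : t * x = x * t
  ty : t * y = y * t
  sx : s * x * s⁻¹ = x⁻¹
  sy : s * y * s⁻¹ = y⁻¹
  cxy : IsConj x y
  K : ∀ v, IsConj x v → ∃ K : Subgroup G, Nat.card K = 27 ∧ ∀ u, u ∈ K ↔ (u * v = v * u ∧ u ^ 27 = 1)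
  R1 : ∀ v, v * t = t * v → v ^ 27 = 1 → s * v * s⁻¹ = v⁻¹ →
    v = 1 ∨ v = x ∨ v = x⁻¹ ∨ v = y ∨ v = y⁻¹
  cent : ∀ v, v * t = t * v → v * s = s * v → v ^ 27 = 1 → v = 1
  cx : ∀ u, u * t = t * u → u ^ 27 = 1 → u * x = x * u → u = 1 ∨ u = x ∨ u = x⁻¹
  cy : ∀ u, u * t = t * u → u ^ 27 = 1 → u * y = y * u → u = 1 ∨ u = y ∨ u = y⁻¹
  card3 : ∀ L : Subgroup G, (∀ u ∈ L, u * t = t * u) → Nat.card L ∣ 27 → Nat.card L ∣ 3
  xy : (x * y) ^ 27 ≠ 1
  yx : (y * x) ^ 27 ≠ 1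
  cardG : Nat.card G = 5616

variable {t s n x y : G}

theorem Hy.symm (h : Hy t s n x y) : Hy t s n y x where
  tt := h.tt
  ss := h.ss
  ts := h.ts
  t1 := h.t1
  s1 := h.s1
  st := h.st
  nt := h.nt
  ns := h.ns
  nu := h.nu
  n3 := h.n3
  x3 := h.y3
  y3 := h.x3
  x1 := h.y1
  y1 := h.x1
  tx := h.ty
  ty := h.tx
  sx := h.sy
  sy := h.sx
  cxy := h.cxy.symm
  K := fun v hv => h.K v (h.cxy.trans hv)
  R1 := fun v h1 h2 h3 => by
    rcases h.R1 v h1 h2 h3 with e | e | e | e | e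
    · exact Or.inl e
    · exact Or.inr (Or.inr (Or.inr (Or.inl e)))
    · exact Or.inr (Or.inr (Or.inr (Or.inr e)))
    · exact Or.inr (Or.inl e)
    · exact Or.inr (Or.inr (Or.inl e))
  cent := h.cent
  cx := h.cy
  cy := h.cx
  card3 := h.card3
  xy := h.yx
  yx := h.xy
  cardG := h.cardG

theorem Hy.ninv (h : Hy t s n x y) : n⁻¹ = n * n := by
  rw [inv_eq_iff_mul_eq_one, ← mul_assoc]; exact h.n3

theorem Hy.nt' (h : Hy t s n x y) : n⁻¹ * s * n = t := by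
  rw [← h.nt]; group

theorem Hy.ns' (h : Hy t s n x y) : n⁻¹ * (t * s) * n = s := by
  rw [← h.ns]; group

theorem Hy.nu' (h : Hy t s n x y) : n⁻¹ * t * n = t * s := by
  have := h.nu
  calc n⁻¹ * t * n = n⁻¹ * (n * (t * s) * n⁻¹) * n := by rw [this]
    _ = t * s := by group

theorem Hy.tts (h : Hy t s n x y) : t * (t * s) = s := by rw [← mul_assoc, h.tt, one_mul]

theorem Hy.tinv (h : Hy t s n x y) : t⁻¹ = t := inv_eq_of_mul_eq_one_left h.tt
theorem Hy.sinv (h : Hy t s n x y) : s⁻¹ = s := inv_eq_of_mul_eq_one_left h.ss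

theorem Hy.flip (h : Hy t s n x y) : Hy t (t * s) n⁻¹ x y where
  tt := h.tt
  ss := by
    calc t * s * (t * s) = t * (s * t) * s := by group
      _ = (t * t) * (s * s) := by rw [← h.ts]; group
      _ = 1 := by rw [h.tt, h.ss, one_mul]
  ts := by
    rw [h.tts, mul_assoc, ← h.ts, h.tts]
  t1 := h.t1
  s1 := by
    intro e
    apply h.st
    have := mul_eq_one_iff_inv_eq.mp e
    rw [← this, h.tinv]
  st := by
    intro e
    exact h.s1 (mul_eq_left.mp e)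
  nt := by rw [inv_inv]; exact h.nu'
  ns := by rw [inv_inv, h.tts]; exact h.ns'
  nu := by rw [inv_inv, h.tts]; exact h.nt'
  n3 := by
    have := h.n3
    calc n⁻¹ * n⁻¹ * n⁻¹ = (n * n * n)⁻¹ := by group
      _ = 1 := by rw [this, inv_one]
  x3 := h.x3
  y3 := h.y3
  x1 := h.x1
  y1 := h.y1
  tx := h.tx
  ty := h.ty
  sx := by
    calc t * s * x * (t * s)⁻¹ = t * (s * x * s⁻¹) * t⁻¹ := by group
      _ = (t * x * t⁻¹)⁻¹ := by rw [h.sx]; group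
      _ = x⁻¹ := by rw [h.tx, mul_inv_cancel_right]
  sy := by
    calc t * s * y * (t * s)⁻¹ = t * (s * y * s⁻¹) * t⁻¹ := by group
      _ = (t * y * t⁻¹)⁻¹ := by rw [h.sy]; group
      _ = y⁻¹ := by rw [h.ty, mul_inv_cancel_right]
  cxy := h.cxy
  K := h.K
  R1 := fun v h1 h2 h3 => by
    apply h.R1 v h1 h2
    have hc : t⁻¹ * v⁻¹ * t = v⁻¹ := by
      calc t⁻¹ * v⁻¹ * t = t⁻¹ * (t⁻¹ * v)⁻¹ := by group
        _ = t⁻¹ * (t⁻¹ * (v * t) * t⁻¹)⁻¹ := by group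
        _ = v⁻¹ := by rw [h1]; group
    calc s * v * s⁻¹ = t⁻¹ * (t * s * v * (t * s)⁻¹) * t := by group
      _ = v⁻¹ := by rw [h3, hc]
  cent := fun v h1 h2 h3 => by
    apply h.cent v h1 _ h3
    have hc : v * (t * s) = t * (v * s) := by rw [← mul_assoc, h1, mul_assoc]
    rw [hc, mul_assoc] at h2
    exact mul_left_cancel h2
  cx := h.cx
  cy := h.cy
  card3 := h.card3
  xy := h.xy
  yx := h.yx
  cardG := h.cardG

theorem Hy.x27 (h : Hy t s n x y) : x ^ 27 = 1 := by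
  calc x ^ 27 = (x ^ 3) ^ 9 := by rw [← pow_mul]
    _ = 1 := by rw [h.x3, one_pow]

theorem Hy.ordx (h : Hy t s n x y) : orderOf x = 3 :=
  have : Fact (Nat.Prime 3) := ⟨by norm_num⟩
  orderOf_eq_prime h.x3 h.x1

theorem Hy.v27 (h : Hy t s n x y) {v : G} (hv : IsConj x v) : v ^ 27 = 1 := by
  obtain ⟨g, rfl⟩ := isConj_iff.mp hv
  rw [conj_pow, h.x27, mul_one, mul_inv_cancel]

theorem Hy.v3 (h : Hy t s n x y) {v : G} (hv : IsConj x v) : v ^ 3 = 1 := by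
  obtain ⟨g, rfl⟩ := isConj_iff.mp hv
  rw [conj_pow, h.x3, mul_one, mul_inv_cancel]

theorem Hy.ordv (h : Hy t s n x y) {v : G} (hv : IsConj x v) : orderOf v = 3 := by
  obtain ⟨g, rfl⟩ := isConj_iff.mp hv
  rw [H5.Dihedral.orderOf_conj]; exact h.ordx

/-- commutators in `K_v` -/
theorem Hy.comm_K (h : Hy t s n x y) {v : G} (hv : IsConj x v) {a b : G} (ha : a * v = v * a)
    (ha' : a ^ 27 = 1) (hb : b * v = v * b) (hb' : b ^ 27 = 1) : ⁅a, b⁆ ∈ zpowers v := by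
  have hp : Fact (Nat.Prime 3) := ⟨by norm_num⟩
  obtain ⟨K, hKc, hK⟩ := h.K v hv
  have haK : a ∈ K := (hK a).2 ⟨ha, ha'⟩
  have hbK : b ∈ K := (hK b).2 ⟨hb, hb'⟩
  have hvK : v ∈ K := (hK v).2 ⟨rfl, h.v27 hv⟩
  have hvc : ∀ g : K, g * (⟨v, hvK⟩ : K) = (⟨v, hvK⟩ : K) * g := fun g =>
    Subtype.ext ((hK g).1 g.2).1
  have hvce : (⟨v, hvK⟩ : K) ∈ Subgroup.center K := Subgroup.mem_center_iff.mpr hvc
  have hn : (zpowers (⟨v, hvK⟩ : K)).Normal := by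
    refine ⟨fun a ha b => ?_⟩
    have hac : a ∈ Subgroup.center K := by
      have : zpowers (⟨v, hvK⟩ : K) ≤ Subgroup.center K := by
        rw [Subgroup.zpowers_le]; exact hvce
      exact this ha
    rw [Subgroup.mem_center_iff.mp hac b, mul_inv_cancel_right]; exact ha
  have hq : Nat.card (K ⧸ zpowers (⟨v, hvK⟩ : K)) = 3 ^ 2 := by
    have h1 := Subgroup.card_eq_card_quotient_mul_card_subgroup (zpowers (⟨v, hvK⟩ : K))
    have h2 : Nat.card (zpowers (⟨v, hvK⟩ : K)) = 3 := by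
      rw [Nat.card_zpowers, Subgroup.orderOf_mk, h.ordv hv]
    rw [hKc, h2] at h1
    omega
  have hab := IsPGroup.commutative_of_card_eq_prime_sq hq
  have h1 : (QuotientGroup.mk ⁅(⟨a, haK⟩ : K), (⟨b, hbK⟩ : K)⁆ : K ⧸ zpowers (⟨v, hvK⟩ : K)) = 1 := by
    have h2 : (QuotientGroup.mk ⁅(⟨a, haK⟩ : K), (⟨b, hbK⟩ : K)⁆ : K ⧸ zpowers (⟨v, hvK⟩ : K)) =
      ⁅(QuotientGroup.mk (⟨a, haK⟩ : K) : K ⧸ zpowers (⟨v, hvK⟩ : K)), QuotientGroup.mk (⟨b, hbK⟩ : K)⁆ := rfl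
    rw [h2, commutatorElement_eq_one_iff_mul_comm]
    exact hab _ _
  have h3 := (QuotientGroup.eq_one_iff _).mp h1
  obtain ⟨k, hk⟩ := Subgroup.mem_zpowers_iff.mp h3
  refine Subgroup.mem_zpowers_iff.mpr ⟨k, ?_⟩
  have := congrArg (fun a : K => (a : G)) hk
  simpa [commutatorElement_def] using this

/-- `x` and `y` do not lie together in a `K_v` -/
theorem Hy.not_both (h : Hy t s n x y) {v : G} (hv : IsConj x v) (g : G)
    (h1 : (g * x * g⁻¹) * v = v * (g * x * g⁻¹)) (h2 : (g * y * g⁻¹) * v = v * (g * y * g⁻¹)) : False := by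
  obtain ⟨K, hKc, hK⟩ := h.K v hv
  have hxK : g * x * g⁻¹ ∈ K := (hK _).2 ⟨h1, by rw [conj_pow, h.x27, mul_one, mul_inv_cancel]⟩
  have hyK : g * y * g⁻¹ ∈ K := (hK _).2 ⟨h2, by rw [conj_pow, h.symm.x27, mul_one, mul_inv_cancel]⟩
  have h3 := ((hK _).1 (K.mul_mem hxK hyK)).2
  apply h.xy
  have h4 : g * x * g⁻¹ * (g * y * g⁻¹) = g * (x * y) * g⁻¹ := by group
  rw [h4, conj_pow] at h3
  calc (x * y) ^ 27 = g⁻¹ * (g * (x * y) ^ 27 * g⁻¹) * g := by group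
    _ = 1 := by rw [h3]; group

/-- the fixed points of an involution on `K_x` commute -/
theorem Hy.comm_fix (h : Hy t s n x y) {w g : G} (hg : g * t * g⁻¹ = w) {a b : G}
    (ha : a * x = x * a) (ha' : a ^ 27 = 1) (haw : a * w = w * a)
    (hb : b * x = x * b) (hb' : b ^ 27 = 1) (hbw : b * w = w * b) : a * b = b * a := by
  have hp : Fact (Nat.Prime 3) := ⟨by norm_num⟩
  have hfin : Finite G := Nat.finite_of_card_ne_zero (by rw [h.cardG]; norm_num)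
  obtain ⟨K, hKc, hK⟩ := h.K x (IsConj.refl x)
  set L : Subgroup G := K ⊓ centralizer ({w} : Set G) with hL
  have hLc : Nat.card L ∣ 3 := by
    have e1 : Nat.card (L.map (MulAut.conj g⁻¹).toMonoidHom) = Nat.card L :=
      Subgroup.card_map_of_injective (MulAut.conj g⁻¹).injective
    rw [← e1]
    apply h.card3
    · rintro _ ⟨u, hu, rfl⟩
      have h1 : u * w = w * u := Subgroup.mem_centralizer_singleton_iff.mp (Subgroup.mem_inf.mp hu).2
      show g⁻¹ * u * g⁻¹⁻¹ * t = t * (g⁻¹ * u * g⁻¹⁻¹)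
      calc g⁻¹ * u * g⁻¹⁻¹ * t = g⁻¹ * (u * (g * t * g⁻¹)) * g := by group
        _ = g⁻¹ * ((g * t * g⁻¹) * u) * g := by rw [hg, h1]
        _ = t * (g⁻¹ * u * g⁻¹⁻¹) := by group
    · rw [e1, ← hKc]; exact Subgroup.card_dvd_of_le inf_le_left
  have haL : a ∈ L := Subgroup.mem_inf.mpr ⟨(hK a).2 ⟨ha, ha'⟩, Subgroup.mem_centralizer_singleton_iff.mpr haw⟩
  have hbL : b ∈ L := Subgroup.mem_inf.mpr ⟨(hK b).2 ⟨hb, hb'⟩, Subgroup.mem_centralizer_singleton_iff.mpr hbw⟩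
  rcases (Nat.dvd_prime Nat.prime_three).mp hLc with e | e
  · have h1 : L = ⊥ := Subgroup.card_eq_one.mp e
    rw [h1] at haL
    rw [Subgroup.mem_bot.mp haL, one_mul, mul_one]
  · have hcyc : IsCyclic L := isCyclic_of_prime_card e
    have := hcyc.isMulCommutative
    exact congrArg Subtype.val (this.is_comm.comm (⟨a, haL⟩ : L) ⟨b, hbL⟩)

/-- `t` inverts the fixed points of `s` on `K_x` -/
theorem Hy.inv_t (h : Hy t s n x y) {u : G} (hux : u * x = x * u) (hu : u ^ 27 = 1)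
    (hus : u * s = s * u) : t * u * t⁻¹ = u⁻¹ := by
  have ha : (t * u * t⁻¹) * x = x * (t * u * t⁻¹) := by
    have h1 : t⁻¹ * x = x * t⁻¹ := by rw [h.tinv]; exact h.tx
    calc (t * u * t⁻¹) * x = t * u * (t⁻¹ * x) := by group
      _ = t * (u * x) * t⁻¹ := by rw [h1]; group
      _ = (t * x) * u * t⁻¹ := by rw [hux]; group
      _ = x * (t * u * t⁻¹) := by rw [h.tx]; group
  have ha' : (t * u * t⁻¹) ^ 27 = 1 := by rw [conj_pow, hu, mul_one, mul_inv_cancel]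
  have has : (t * u * t⁻¹) * s = s * (t * u * t⁻¹) := by
    have h1 : t⁻¹ * s = s * t⁻¹ := by rw [h.tinv]; exact h.ts
    calc (t * u * t⁻¹) * s = t * u * (t⁻¹ * s) := by group
      _ = t * (u * s) * t⁻¹ := by rw [h1]; group
      _ = (t * s) * u * t⁻¹ := by rw [hus]; group
      _ = s * (t * u * t⁻¹) := by rw [h.ts]; group
  have hcm := h.comm_fix h.nt hux hu hus ha ha' has
  have hcm' : Commute u (t * u * t⁻¹) := hcm
  have key : u * (t * u * t⁻¹) = 1 := by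
    apply h.cent
    · have e : t * (u * (t * u * t⁻¹)) * t⁻¹ = u * (t * u * t⁻¹) := by
        have e1 : t * (t * u * t⁻¹) * t⁻¹ = u := by
          calc t * (t * u * t⁻¹) * t⁻¹ = (t * t) * u * (t⁻¹ * t⁻¹) := by group
            _ = u := by rw [h.tinv, h.tt, one_mul, mul_one]
        calc t * (u * (t * u * t⁻¹)) * t⁻¹ = (t * u * t⁻¹) * (t * (t * u * t⁻¹) * t⁻¹) := by group
          _ = u * (t * u * t⁻¹) := by rw [e1]; exact hcm.symm
      have := mul_inv_eq_iff_eq_mul.mp e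
      exact this.symm
    · rw [mul_assoc, has, ← mul_assoc, hus, mul_assoc]
    · rw [hcm'.mul_pow, hu, ha', mul_one]
  exact eq_inv_of_mul_eq_one_right key

/-- the fixed points of `s` on `K_x` -/
theorem Hy.fix_s (h : Hy t s n x y) {u : G} (hux : u * x = x * u) (hu : u ^ 27 = 1)
    (hus : u * s = s * u) : n⁻¹ * u * n = 1 ∨ n⁻¹ * u * n = x ∨ n⁻¹ * u * n = x⁻¹ ∨
      n⁻¹ * u * n = y ∨ n⁻¹ * u * n = y⁻¹ := by
  have h1 := h.inv_t hux hu hus
  have hc : (n⁻¹ * u * n) * t = t * (n⁻¹ * u * n) := by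
    calc (n⁻¹ * u * n) * t = n⁻¹ * (u * (n * t * n⁻¹)) * n := by group
      _ = n⁻¹ * (s * u) * n := by rw [h.nt, hus]
      _ = n⁻¹ * ((n * t * n⁻¹) * u) * n := by rw [h.nt]
      _ = t * (n⁻¹ * u * n) := by group
  apply h.R1
  · exact hc
  · have : n⁻¹ * u * n = n⁻¹ * u * n⁻¹⁻¹ := by group
    rw [this, conj_pow, hu, mul_one, mul_inv_cancel]
  · -- `t s` inverts
    have h2 : (t * s) * (n⁻¹ * u * n) * (t * s)⁻¹ = (n⁻¹ * u * n)⁻¹ := by
      calc (t * s) * (n⁻¹ * u * n) * (t * s)⁻¹ = (n⁻¹ * t * n) * (n⁻¹ * u * n) * (n⁻¹ * t * n)⁻¹ := by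
            rw [h.nu']
        _ = n⁻¹ * (t * u * t⁻¹) * n := by group
        _ = (n⁻¹ * u * n)⁻¹ := by rw [h1]; group
    obtain ⟨v, hv⟩ : ∃ v, v = n⁻¹ * u * n := ⟨_, rfl⟩
    rw [← hv] at hc h2 ⊢
    have hc' : t⁻¹ * v⁻¹ * t = v⁻¹ := by
      calc t⁻¹ * v⁻¹ * t = t⁻¹ * (t⁻¹ * v)⁻¹ := by group
        _ = t⁻¹ * (t⁻¹ * (v * t) * t⁻¹)⁻¹ := by group
        _ = v⁻¹ := by rw [hc]; group
    calc s * v * s⁻¹ = t⁻¹ * (t * s * v * (t * s)⁻¹) * t := by group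
      _ = v⁻¹ := by rw [h2, hc']

end H54.GL23h
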