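import Mathlib
import Cfsg.Agent.Lib.H54.GL23g
import Cfsg.Agent.Lib.H21.SylowTools

/-!
The hexagon configuration, part 2.
-/

set_option autoImplicit false
set_option linter.unusedSectionVars false

open Subgroup
open scoped commutatorElement

universe u

namespace H54.GL23h

variable {G : Type u} [Group G] {t s n x y : G}

/-- the four-group -/
def Hy.V (h : Hy t s n x y) : Subgroup G where
  carrier := {a | a = 1 ∨ a = t ∨ a = s ∨ a = t * s}
  one_mem' := Or.inl rfl
  inv_mem' := fun {a} ha => by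
    rcases ha with e | e | e | e
    · left; rw [e, inv_one]
    · right; left; rw [e, h.tinv]
    · right; right; left; rw [e, h.sinv]
    · right; right; right; rw [e, mul_inv_rev, h.tinv, h.sinv, h.ts]
  mul_mem' := fun {a b} ha hb => by
    have q1 : t * (t * s) = s := h.tts
    have q2 : s * t = t * s := h.ts.symm
    have q3 : s * (t * s) = t := by rw [← mul_assoc, q2, mul_assoc, h.ss, mul_one]
    have q4 : t * s * t = s := by rw [mul_assoc, q2, q1]
    have q5 : t * s * s = t := by rw [mul_assoc, h.ss, mul_one]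
    have q6 : t * s * (t * s) = 1 := by rw [mul_assoc, q3, h.tt]
    rcases ha with e | e | e | e <;> rcases hb with f | f | f | f <;> rw [e, f]
    · left; rw [one_mul]
    · right; left; rw [one_mul]
    · right; right; left; rw [one_mul]
    · right; right; right; rw [one_mul]
    · right; left; rw [mul_one]
    · left; exact h.tt
    · right; right; right; rfl
    · right; right; left; exact q1
    · right; right; left; rw [mul_one]
    · right; right; right; exact q2
    · left; exact h.ss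
    · right; left; exact q3
    · right; right; right; rw [mul_one]
    · right; right; left; exact q4
    · right; left; exact q5
    · left; exact q6

theorem Hy.mem_V (h : Hy t s n x y) {a : G} : a ∈ h.V ↔ a = 1 ∨ a = t ∨ a = s ∨ a = t * s := Iff.rfl

/-- conjugation by the four-group preserves `K_x` -/
theorem Hy.conj_K (h : Hy t s n x y) {K : Subgroup G} (hK : ∀ u, u ∈ K ↔ (u * x = x * u ∧ u ^ 27 = 1))
    {a : G} (ha : a * x * a⁻¹ = x ∨ a * x * a⁻¹ = x⁻¹) (haa : a * a = 1) {u : G} (hu : u ∈ K) :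
    a * u * a⁻¹ ∈ K := by
  have hai : a⁻¹ = a := inv_eq_of_mul_eq_one_left haa
  obtain ⟨h1, h2⟩ := (hK u).1 hu
  refine (hK _).2 ⟨?_, by rw [conj_pow, h2, mul_one, mul_inv_cancel]⟩
  have h3 : Commute u (a * x * a⁻¹) := by
    rcases ha with e | e
    · rw [e]; exact h1
    · rw [e]; exact (show Commute u x from h1).inv_right
  have h4 : Commute (a * u * a⁻¹) (a * (a * x * a⁻¹) * a⁻¹) := by
    have h5 : u * (a * x * a⁻¹) = (a * x * a⁻¹) * u := h3
    show (a * u * a⁻¹) * (a * (a * x * a⁻¹) * a⁻¹) = (a * (a * x * a⁻¹) * a⁻¹) * (a * u * a⁻¹)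
    calc (a * u * a⁻¹) * (a * (a * x * a⁻¹) * a⁻¹) = a * (u * (a * x * a⁻¹)) * a⁻¹ := by group
      _ = a * ((a * x * a⁻¹) * u) * a⁻¹ := by rw [h5]
      _ = (a * (a * x * a⁻¹) * a⁻¹) * (a * u * a⁻¹) := by group
  have h6 : a * (a * x * a⁻¹) * a⁻¹ = x := by
    calc a * (a * x * a⁻¹) * a⁻¹ = (a * a) * x * (a * a)⁻¹ := by group
      _ = x := by rw [haa]; group
  rw [h6] at h4
  exact h4

/-- generation of `K_x` by fixed points -/
theorem Hy.gen (h : Hy t s n x y) {K : Subgroup G} (hKc : Nat.card K = 27)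
    (hK : ∀ u, u ∈ K ↔ (u * x = x * u ∧ u ^ 27 = 1)) (H : Subgroup G) (hx : x ∈ H)
    (hs : ∀ u ∈ K, u * s = s * u → u ∈ H) (hu : ∀ u ∈ K, u * (t * s) = (t * s) * u → u ∈ H) : K ≤ H := by
  have hp : Fact (Nat.Prime 2) := ⟨by norm_num⟩
  have hfin : Finite G := Nat.finite_of_card_ne_zero (by rw [h.cardG]; norm_num)
  have hA2 : IsPGroup 2 h.V := by
    intro a
    refine ⟨1, ?_⟩
    rw [pow_one]
    apply Subtype.ext
    show (a : G) ^ 2 = 1
    rcases a.2 with e | e | e | e
    · rw [e, one_pow]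
    · rw [e, pow_two]; exact h.tt
    · rw [e, pow_two]; exact h.ss
    · rw [e, pow_two]; exact h.flip.ss
  have hto : orderOf t = 2 := orderOf_eq_prime (by rw [pow_two]; exact h.tt) h.t1
  have hso : orderOf s = 2 := orderOf_eq_prime (by rw [pow_two]; exact h.ss) h.s1
  have hnc : ¬ IsCyclic h.V := by
    intro hc
    exact h.st (H5.InvTools.cyclic_involution_unique_mem h.V hc (x := s) (y := t)
      (h.mem_V.2 (Or.inr (Or.inr (Or.inl rfl)))) (h.mem_V.2 (Or.inr (Or.inl rfl))) hso hto)
  have hcomm : IsMulCommutative h.V := by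
    refine ⟨⟨?_⟩⟩
    intro a b
    have hab : Commute t s := h.ts
    apply Subtype.ext
    show (a : G) * b = b * a
    have h1 : ∀ c ∈ h.V, Commute t c ∧ Commute s c := by
      intro c hc
      rcases hc with e | e | e | e
      · rw [e]; exact ⟨Commute.one_right _, Commute.one_right _⟩
      · rw [e]; exact ⟨Commute.refl _, hab.symm⟩
      · rw [e]; exact ⟨hab, Commute.refl _⟩
      · rw [e]; exact ⟨(Commute.refl t).mul_right hab, hab.symm.mul_right (Commute.refl s)⟩
    obtain ⟨h2, h3⟩ := h1 b b.2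
    rcases a.2 with e | e | e | e
    · rw [e, one_mul, mul_one]
    · rw [e]; exact h2
    · rw [e]; exact h3
    · rw [e]; exact h2.mul_left h3
  have hxa : ∀ a ∈ h.V, (a * x * a⁻¹ = x ∨ a * x * a⁻¹ = x⁻¹) ∧ a * a = 1 := by
    intro a ha
    rcases ha with e | e | e | e
    · rw [e]; exact ⟨Or.inl (by group), one_mul 1⟩
    · rw [e]; exact ⟨Or.inl (by rw [h.tx, mul_inv_cancel_right]), h.tt⟩
    · rw [e]; exact ⟨Or.inr h.sx, h.ss⟩
    · rw [e]; exact ⟨Or.inr h.flip.sx, h.flip.ss⟩
  have hnorm : h.V ≤ normalizer (K : Set G) := by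
    intro a ha
    obtain ⟨h1, h2⟩ := hxa a ha
    have hai : a⁻¹ = a := inv_eq_of_mul_eq_one_left h2
    rw [mem_normalizer_iff]
    intro u
    constructor
    · exact fun hu => h.conj_K hK h1 h2 hu
    · intro hu
      have := h.conj_K hK h1 h2 hu
      have e : a * (a * u * a⁻¹) * a⁻¹ = u := by
        calc a * (a * u * a⁻¹) * a⁻¹ = (a * a) * u * (a * a)⁻¹ := by group
          _ = u := by rw [h2]; group
      rwa [e] at this
  have hcop : (Nat.card h.V).Coprime (Nat.card K) := by
    obtain ⟨k, hk⟩ := IsPGroup.iff_card.mp hA2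
    rw [hk, hKc]
    exact Nat.Coprime.pow_left k (by norm_num)
  have hmain := H2.GenCent.main h.V K hcomm hnc hnorm hcop
  rw [← hmain, H2.GenCent.gen]
  apply iSup₂_le
  rintro a ⟨ha, hne⟩
  intro u huu
  obtain ⟨huK, huc⟩ := mem_inf.mp huu
  have huc' : u * a = a * u := Subgroup.mem_centralizer_singleton_iff.mp huc
  rcases ha with e | e | e | e
  · exfalso; exact hne e
  · rw [e] at huc'
    rcases h.cx u huc' ((hK u).1 huK).2 ((hK u).1 huK).1 with f | f | f
    · rw [f]; exact H.one_mem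
    · rw [f]; exact hx
    · rw [f]; exact H.inv_mem hx
  · rw [e] at huc'
    exact hs u huK huc'
  · rw [e] at huc'
    exact hu u huK huc'

/-- the fixed points have order dividing three -/
theorem Hy.card_fix (h : Hy t s n x y) {w g : G} (hg : g * t * g⁻¹ = w) {K : Subgroup G}
    (hKc : Nat.card K = 27) :
    Nat.card (K ⊓ centralizer ({w} : Set G) : Subgroup G) ∣ 3 := by
  have hfin : Finite G := Nat.finite_of_card_ne_zero (by rw [h.cardG]; norm_num)
  set L : Subgroup G := K ⊓ centralizer ({w} : Set G) with hL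
  have e1 : Nat.card (L.map (MulAut.conj g⁻¹).toMonoidHom) = Nat.card L :=
    Subgroup.card_map_of_injective (MulAut.conj g⁻¹).injective
  rw [← e1]
  apply h.card3
  · rintro _ ⟨u, hu, rfl⟩
    have h1 : u * w = w * u := Subgroup.mem_centralizer_singleton_iff.mp (Subgroup.mem_inf.mp hu).2
    show g⁻¹ * u * g⁻¹⁻¹ * t = t * (g⁻¹ * u * g⁻¹⁻¹)
    calc g⁻¹ * u * g⁻¹⁻¹ * t = g⁻¹ * (u * (g * t * g⁻¹)) * g := by group
      _ = g⁻¹ * ((g * t * g⁻¹) * u) * g := by rw [hg, h1]
      _ = t * (g⁻¹ * u * g⁻¹⁻¹) := by group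
  · rw [e1, ← hKc]; exact Subgroup.card_dvd_of_le inf_le_left

/-- some `n`-conjugate of `x` or `y` commutes with `x` -/
theorem Hy.step3 (h : Hy t s n x y) :
    (n * x * n⁻¹) * x = x * (n * x * n⁻¹) ∨ (n * y * n⁻¹) * x = x * (n * y * n⁻¹) := by
  have hfin : Finite G := Nat.finite_of_card_ne_zero (by rw [h.cardG]; norm_num)
  by_contra hcon
  push Not at hcon
  obtain ⟨hc1, hc2⟩ := hcon
  obtain ⟨K, hKc, hK⟩ := h.K x (IsConj.refl x)
  have hs : ∀ u ∈ K, u * s = s * u → u = 1 := by
    intro u hu hus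
    obtain ⟨h1, h2⟩ := (hK u).1 hu
    have hun : ∀ z : G, n⁻¹ * u * n = z → u = n * z * n⁻¹ := fun z hz => by rw [← hz]; group
    rcases h.fix_s h1 h2 hus with e | e | e | e | e
    · have := hun _ e
      rw [mul_one, mul_inv_cancel] at this
      exact this
    · exfalso
      have := hun _ e
      rw [this] at h1
      exact hc1 h1
    · exfalso
      have := hun _ e
      apply hc1
      have h3 : Commute u x := h1
      have h4 : u⁻¹ = n * x * n⁻¹ := by rw [this]; group
      rw [← h4]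
      exact h3.inv_left
    · exfalso
      have := hun _ e
      rw [this] at h1
      exact hc2 h1
    · exfalso
      have := hun _ e
      apply hc2
      have h3 : Commute u x := h1
      have h4 : u⁻¹ = n * y * n⁻¹ := by rw [this]; group
      rw [← h4]
      exact h3.inv_left
  set Y : Subgroup G := K ⊓ centralizer ({t * s} : Set G) with hY
  have hle : K ≤ zpowers x ⊔ Y := by
    apply h.gen hKc hK
    · exact (le_sup_left : zpowers x ≤ zpowers x ⊔ Y) (Subgroup.mem_zpowers x)
    · intro u hu hus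
      rw [hs u hu hus]; exact Subgroup.one_mem _
    · intro u hu hus
      exact (le_sup_right : Y ≤ zpowers x ⊔ Y)
        (Subgroup.mem_inf.mpr ⟨hu, Subgroup.mem_centralizer_singleton_iff.mpr hus⟩)
  have hYn : Y ≤ normalizer ((zpowers x : Subgroup G) : Set G) := by
    intro u hu
    have h1 : Commute u x := ((hK u).1 (Subgroup.mem_inf.mp hu).1).1
    apply Subgroup.centralizer_le_normalizer
    rw [Subgroup.mem_centralizer_iff]
    intro z hz
    obtain ⟨k, rfl⟩ := Subgroup.mem_zpowers_iff.mp hz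
    exact (h1.zpow_right k).symm
  have h1 := H26.SupCard.card_sup_dvd_mul hYn
  have h2 : Nat.card (zpowers x) = 3 := by rw [Nat.card_zpowers, h.ordx]
  have h3 : Nat.card Y ∣ 3 := h.card_fix (g := n⁻¹) (by rw [inv_inv]; exact h.nu') hKc
  have h4 : 27 ∣ 9 := by
    have h5 := Subgroup.card_dvd_of_le hle
    rw [hKc] at h5
    refine h5.trans (h1.trans ?_)
    rw [h2]
    exact mul_dvd_mul_left 3 h3
  revert h4; decide

/-- `n x n⁻¹` does not commute with `x` -/
theorem Hy.step4 (h : Hy t s n x y) : (n * x * n⁻¹) * x ≠ x * (n * x * n⁻¹) := by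
  intro hc
  have hp : Fact (Nat.Prime 3) := ⟨by norm_num⟩
  have hfin : Finite G := Nat.finite_of_card_ne_zero (by rw [h.cardG]; norm_num)
  obtain ⟨K, hKc, hK⟩ := h.K x (IsConj.refl x)
  have hc' : (n⁻¹ * x * n) * x = x * (n⁻¹ * x * n) := by
    calc (n⁻¹ * x * n) * x = n⁻¹ * (x * (n * x * n⁻¹)) * n := by group
      _ = n⁻¹ * ((n * x * n⁻¹) * x) * n := by rw [hc]
      _ = x * (n⁻¹ * x * n) := by group
  have hxK : x ∈ K := (hK x).2 ⟨rfl, h.x27⟩
  have hxnK : n * x * n⁻¹ ∈ K := (hK _).2 ⟨hc, by rw [conj_pow, h.x27, mul_one, mul_inv_cancel]⟩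
  have hxnK' : n⁻¹ * x * n ∈ K := (hK _).2 ⟨hc', by
    have : n⁻¹ * x * n = n⁻¹ * x * n⁻¹⁻¹ := by group
    rw [this, conj_pow, h.x27, mul_one, mul_inv_cancel]⟩
  have hnn : n * (n * x * n⁻¹) * n⁻¹ = n⁻¹ * x * n := by
    have h1 : n * (n * x * n⁻¹) * n⁻¹ = (n * n) * x * (n * n)⁻¹ := by
      rw [mul_inv_rev]; simp only [mul_assoc]
    rw [h1, ← h.ninv, inv_inv]
  have hle : K ≤ K.comap (MulAut.conj n).toMonoidHom := by
    apply h.gen hKc hK
    · show n * x * n⁻¹ ∈ K
      exact hxnK
    · intro u hu hus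
      show n * u * n⁻¹ ∈ K
      obtain ⟨h1, h2⟩ := (hK u).1 hu
      have hun : ∀ z : G, n⁻¹ * u * n = z → u = n * z * n⁻¹ := fun z hz => by rw [← hz]; group
      rcases h.fix_s h1 h2 hus with e | e | e | e | e
      · rw [hun _ e, mul_one, mul_inv_cancel, mul_one, mul_inv_cancel]; exact K.one_mem
      · rw [hun _ e, hnn]; exact hxnK'
      · rw [hun _ e]
        have h3 : n * (n * x⁻¹ * n⁻¹) * n⁻¹ = (n * (n * x * n⁻¹) * n⁻¹)⁻¹ := by
          simp only [mul_inv_rev, inv_inv, mul_assoc]
        rw [h3, hnn]; exact K.inv_mem hxnK'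
      · exfalso
        apply h.not_both (IsConj.refl x) n hc
        rw [hun _ e] at h1; exact h1
      · exfalso
        apply h.not_both (IsConj.refl x) n hc
        have h3 : Commute u x := h1
        have h4 : u⁻¹ = n * y * n⁻¹ := by rw [hun _ e]; group
        rw [← h4]
        exact h3.inv_left
    · intro u hu hus
      show n * u * n⁻¹ ∈ K
      obtain ⟨h1, h2⟩ := (hK u).1 hu
      have hf := h.flip.fix_s h1 h2 hus
      rw [inv_inv] at hf
      rcases hf with e | e | e | e | e
      · rw [e]; exact K.one_mem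
      · rw [e]; exact hxK
      · rw [e]; exact K.inv_mem hxK
      · exfalso
        apply h.not_both (IsConj.refl x) n⁻¹ (by rw [inv_inv]; exact hc')
        have h4 : n⁻¹ * y * n⁻¹⁻¹ = u := by rw [← e]; group
        rw [h4]; exact h1
      · exfalso
        apply h.not_both (IsConj.refl x) n⁻¹ (by rw [inv_inv]; exact hc')
        have h4 : n⁻¹ * y * n⁻¹⁻¹ = u⁻¹ := by
          have : y = (n * u * n⁻¹)⁻¹ := by rw [e, inv_inv]
          rw [this]; group
        rw [h4]; exact (show Commute u x from h1).inv_left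
  -- `n` normalizes `K`
  have hmap : K.map (MulAut.conj n).toMonoidHom = K := by
    apply Subgroup.eq_of_le_of_card_ge
    · rw [Subgroup.map_le_iff_le_comap]; exact hle
    · exact (Subgroup.card_map_of_injective (MulAut.conj n).injective).ge
  have hnn' : n ∈ normalizer (K : Set G) := by
    rw [mem_normalizer_iff]
    intro u
    constructor
    · intro hu; exact hle hu
    · intro hu
      rw [← hmap] at hu
      obtain ⟨w, hw, hwu⟩ := hu
      have : n * w * n⁻¹ = n * u * n⁻¹ := hwu
      have h1 : w = u := mul_left_cancel (mul_right_cancel this)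
      rw [← h1]; exact hw
  have hK3 : IsPGroup 3 K := IsPGroup.of_card (n := 3) (by rw [hKc]; norm_num)
  obtain ⟨P, hP⟩ := hK3.exists_le_sylow
  have hPc : Nat.card (P : Subgroup G) = 27 := by
    have := H21.SylowTools.card_sylow_eq_pow (G := G) (p := 3) (a := 3) (m := 208)
      (by rw [h.cardG]; norm_num) (by norm_num) P
    rw [this]; norm_num
  have hPe : K = (P : Subgroup G) := Subgroup.eq_of_le_of_card_ge hP (by rw [hPc, hKc])
  have hn3 : n ^ 3 = 1 := by rw [pow_succ, pow_two]; exact h.n3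
  have hnp : IsPGroup 3 (zpowers n) := by
    have hd : Nat.card (zpowers n) ∣ 3 ^ 1 := by
      rw [Nat.card_zpowers, pow_one]; exact orderOf_dvd_of_pow_eq_one hn3
    obtain ⟨k, _, hk⟩ := (Nat.dvd_prime_pow Nat.prime_three).mp hd
    exact IsPGroup.of_card hk
  have hnP : n ∈ (P : Subgroup G) := by
    have h1 := IsPGroup.inf_normalizer_sylow hnp P
    have h2 : n ∈ zpowers n ⊓ normalizer ((P : Subgroup G) : Set G) :=
      Subgroup.mem_inf.mpr ⟨Subgroup.mem_zpowers n, by rw [← hPe]; exact hnn'⟩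
    have h3 : n ∈ zpowers n ⊓ (P : Subgroup G) := by rw [← h1]; exact h2
    clear h2
    have h2 := h3
    exact (Subgroup.mem_inf.mp h2).2
  rw [← hPe] at hnP
  have hnx : n * x = x * n := ((hK n).1 hnP).1
  have hnx' : n * x * n⁻¹ = x := by rw [hnx, mul_inv_cancel_right]
  -- `x` commutes with `s`
  have h1 : s * x = x * s := by
    calc s * x = (n * t * n⁻¹) * (n * x * n⁻¹) := by rw [h.nt, hnx']
      _ = n * (t * x) * n⁻¹ := by group
      _ = n * (x * t) * n⁻¹ := by rw [h.tx]
      _ = (n * x * n⁻¹) * (n * t * n⁻¹) := by group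
      _ = x * s := by rw [h.nt, hnx']
  have h2 := h.sx
  rw [h1, mul_inv_cancel_right] at h2
  have h3 : x ^ 2 = 1 := by
    rw [pow_two]
    calc x * x = x * x⁻¹ := by rw [← h2]
      _ = 1 := mul_inv_cancel x
  have h4 := orderOf_dvd_of_pow_eq_one h3
  rw [h.ordx] at h4
  revert h4; decide

/-- `n y n⁻¹` commutes with `x` -/
theorem Hy.xy1 (h : Hy t s n x y) : (n * y * n⁻¹) * x = x * (n * y * n⁻¹) :=
  h.step3.resolve_left h.step4

/-- `n⁻¹ y n` commutes with `x` -/
theorem Hy.xy2 (h : Hy t s n x y) : (n⁻¹ * y * n) * x = x * (n⁻¹ * y * n) := by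
  have := h.flip.xy1
  rwa [inv_inv] at this

end H54.GL23h
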