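import Mathlib
import Cfsg.Agent.Lib.H54.GL23h

/-!
The hexagon configuration, part 3: the hexagon relations.
-/

set_option autoImplicit false
set_option linter.unusedSectionVars false

open Subgroup
open scoped commutatorElement

universe u

namespace H54.GL23h

open H54.Hex

variable {G : Type u} [Group G] {t s n x y : G}

theorem comm_inv_inv {a b : G} (h1 : Commute ⁅a, b⁆ a) (h2 : Commute ⁅a, b⁆ b) :
    ⁅a⁻¹, b⁻¹⁆ = ⁅a, b⁆ := by
  have h3 : a * b = ⁅a, b⁆ * (b * a) := by rw [commutatorElement_def]; group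
  obtain ⟨z, hz⟩ : ∃ z, z = ⁅a, b⁆ := ⟨_, rfl⟩
  rw [← hz] at h1 h2 h3 ⊢
  have h4 : a⁻¹ * b⁻¹ * z = z * (a⁻¹ * b⁻¹) := by
    have h5 : Commute (a⁻¹ * b⁻¹) z := (h1.inv_right.mul_right h2.inv_right).symm
    exact h5
  calc ⁅a⁻¹, b⁻¹⁆ = a⁻¹ * b⁻¹ * (a * b) := by rw [commutatorElement_def]; simp [mul_assoc]
    _ = a⁻¹ * b⁻¹ * z * (b * a) := by rw [h3]; simp only [mul_assoc]
    _ = z := by rw [h4]; group

theorem hex_of {F : G →* G} (hF : ∀ g, F (F (F g)) = g) (x3 : x ^ 3 = 1) (y3 : y ^ 3 = 1)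
    (c1 : Commute (F y) x) (c2 : Commute (F (F y)) x) (r1 : ⁅F (F y), F y⁆ = x)
    (r2 : ⁅F (F x), F x⁆ = y) : Hex x (F y) (F (F x)) y (F x) (F (F y)) := by
  have hc : ∀ {a b : G}, Commute a b → Commute (F a) (F b) := fun h => h.map F
  have hr : ∀ {a b c : G}, ⁅a, b⁆ = c → ⁅F a, F b⁆ = F c := fun h => by
    rw [← map_commutatorElement, h]
  have c1' := hc c1
  have c1'' := hc c1'
  have c2' := hc c2
  have c2'' := hc c2'
  have r1' := hr r1
  have r1'' := hr r1'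
  have r2' := hr r2
  have r2'' := hr r2'
  simp only [hF] at c1' c1'' c2' c2'' r1' r1'' r2' r2''
  have hF3 : ∀ {a : G}, a ^ 3 = 1 → F a ^ 3 = 1 := fun h => by rw [← map_pow, h, map_one]
  exact {
    a3 := x3
    b3 := hF3 y3
    c3 := hF3 (hF3 x3)
    d3 := y3
    e3 := hF3 x3
    f3 := hF3 (hF3 y3)
    ab := comm_one c1.symm
    bc := comm_one c2''
    cd := comm_one c1''.symm
    de := comm_one c2'
    ef := comm_one c1'.symm
    fa := comm_one c2
    fb := r1
    ac := r2'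
    bd := r1''
    ce := r2
    df := r1'
    ea := r2'' }

theorem Hy.hex (h : Hy t s n x y) : ∃ a b c d e f : G, Hex a b c d e f ∧ a ≠ 1 := by
  set F : G →* G := (MulAut.conj n).toMonoidHom with hFdef
  have hF1 : ∀ g, F g = n * g * n⁻¹ := fun g => rfl
  have hF2 : ∀ g, F (F g) = n⁻¹ * g * n := by
    intro g
    rw [hF1, hF1]
    have h1 : n * (n * g * n⁻¹) * n⁻¹ = (n * n) * g * (n * n)⁻¹ := by
      rw [mul_inv_rev]; simp only [mul_assoc]
    rw [h1, ← h.ninv, inv_inv]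
  have hF3 : ∀ g, F (F (F g)) = g := by
    intro g
    rw [hF2, hF1]; group
  have hinj : Function.Injective F := (MulAut.conj n).injective
  have c1 : Commute (F y) x := h.xy1
  have c2 : Commute (F (F y)) x := by rw [hF2]; exact h.xy2
  have c3 : Commute (F x) y := h.symm.xy1
  have c4 : Commute (F (F x)) y := by rw [hF2]; exact h.symm.xy2
  have p27 : ∀ {a : G}, a ^ 27 = 1 → F a ^ 27 = 1 := fun h => by rw [← map_pow, h, map_one]
  have hx27 := h.x27
  have hy27 := h.symm.x27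
  have hA : ⁅F (F y), F y⁆ ∈ zpowers x :=
    h.comm_K (IsConj.refl x) c2 (p27 (p27 hy27)) c1 (p27 hy27)
  have hB : ⁅F (F x), F x⁆ ∈ zpowers y :=
    h.symm.comm_K (IsConj.refl y) c4 (p27 (p27 hx27)) c3 (p27 hx27)
  have hxF : IsConj x (F y) := h.cxy.trans (isConj_iff.mpr ⟨n, rfl⟩)
  have hyF : IsConj y (F x) := h.cxy.symm.trans (isConj_iff.mpr ⟨n, rfl⟩)
  have hA1 : ⁅F (F y), F y⁆ ≠ 1 := by
    intro e
    have h1 : Commute (F (F y)) (F y) := commutatorElement_eq_one_iff_mul_comm.mp e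
    have h2 : Commute y (F (F y)) := by
      have := h1.map F
      rwa [hF3] at this
    have h3 : Commute (F y) y := by
      have := h2.map F
      rwa [hF3] at this
    apply h.not_both hxF 1
    · rw [one_mul, inv_one, mul_one]; exact c1.symm
    · rw [one_mul, inv_one, mul_one]; exact h3.symm
  have hB1 : ⁅F (F x), F x⁆ ≠ 1 := by
    intro e
    have h1 : Commute (F (F x)) (F x) := commutatorElement_eq_one_iff_mul_comm.mp e
    have h2 : Commute x (F (F x)) := by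
      have := h1.map F
      rwa [hF3] at this
    have h3 : Commute (F x) x := by
      have := h2.map F
      rwa [hF3] at this
    apply h.symm.not_both hyF 1
    · rw [one_mul, inv_one, mul_one]; exact c3.symm
    · rw [one_mul, inv_one, mul_one]; exact h3.symm
  have pc : ∀ {z w : G}, z ^ 3 = 1 → w ∈ zpowers z → w ≠ 1 → w = z ∨ w = z⁻¹ := by
    intro z w h3 hw h1
    obtain ⟨k, rfl⟩ := Subgroup.mem_zpowers_iff.mp hw
    have h3' : z ^ (3 : ℤ) = 1 := by exact_mod_cast h3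
    have hk := Int.emod_add_mul_ediv k 3
    have h5 : z ^ k = z ^ (k % 3) := by
      conv_lhs => rw [← hk]
      rw [zpow_add, zpow_mul, h3', one_zpow, mul_one]
    have h6 := Int.emod_nonneg k (by norm_num : (3 : ℤ) ≠ 0)
    have h7 := Int.emod_lt_of_pos k (by norm_num : (0 : ℤ) < 3)
    rw [h5] at h1 ⊢
    have h8 : k % 3 = 0 ∨ k % 3 = 1 ∨ k % 3 = 2 := by omega
    rcases h8 with e | e | e
    · rw [e, zpow_zero] at h1; exact absurd rfl h1
    · left; rw [e, zpow_one]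
    · right
      rw [e]
      apply eq_inv_of_mul_eq_one_left
      have : z ^ (2 : ℤ) * z = z ^ (3 : ℤ) := by
        rw [← zpow_add_one]; norm_num
      rw [this, h3']
  have eA := pc h.x3 hA hA1
  have eB := pc h.y3 hB hB1
  have cA : ∀ {w : G}, Commute w x → Commute ⁅F (F y), F y⁆ w := by
    intro w hw
    rcases eA with e | e
    · rw [e]; exact hw.symm
    · rw [e]; exact hw.symm.inv_left
  have cB : ∀ {w : G}, Commute w y → Commute ⁅F (F x), F x⁆ w := by
    intro w hw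
    rcases eB with e | e
    · rw [e]; exact hw.symm
    · rw [e]; exact hw.symm.inv_left
  have hAi : ⁅(F (F y))⁻¹, (F y)⁻¹⁆ = ⁅F (F y), F y⁆ := comm_inv_inv (cA c2) (cA c1)
  have hBi : ⁅(F (F x))⁻¹, (F x)⁻¹⁆ = ⁅F (F x), F x⁆ := comm_inv_inv (cB c4) (cB c3)
  have hxi3 : (x⁻¹) ^ 3 = 1 := by rw [inv_pow, h.x3, inv_one]
  have hyi3 : (y⁻¹) ^ 3 = 1 := by rw [inv_pow, h.y3, inv_one]
  rcases eA with e | e <;> rcases eB with f | f
  · exact ⟨_, _, _, _, _, _, hex_of hF3 h.x3 h.y3 c1 c2 e f, h.x1⟩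
  · refine ⟨_, _, _, _, _, _, hex_of (x := x) (y := y⁻¹) hF3 h.x3 hyi3 ?_ ?_ ?_ f, h.x1⟩
    · rw [map_inv]; exact c1.inv_left
    · rw [map_inv, map_inv]; exact c2.inv_left
    · rw [map_inv, map_inv, hAi, e]
  · refine ⟨_, _, _, _, _, _, hex_of (x := x⁻¹) (y := y) hF3 hxi3 h.y3 ?_ ?_ e ?_, inv_ne_one.mpr h.x1⟩
    · exact c1.inv_right
    · exact c2.inv_right
    · rw [map_inv, map_inv, hBi, f]
  · refine ⟨_, _, _, _, _, _, hex_of (x := x⁻¹) (y := y⁻¹) hF3 hxi3 hyi3 ?_ ?_ ?_ ?_, inv_ne_one.mpr h.x1⟩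
    · rw [map_inv]; exact c1.inv_left.inv_right
    · rw [map_inv, map_inv]; exact c2.inv_left.inv_right
    · rw [map_inv, map_inv, hAi, e]
    · rw [map_inv, map_inv, hBi, f]

theorem Hy.iso (h : Hy t s n x y) :
    Nonempty (G ≃* Matrix.ProjectiveSpecialLinearGroup (Fin 3) (ZMod 3)) := by
  have hfin : Finite G := Nat.finite_of_card_ne_zero (by rw [h.cardG]; norm_num)
  obtain ⟨a, b, c, d, e, f, hh, ha⟩ := h.hex
  exact Hex.iso h.cardG hh ha

end H54.GL23h
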