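import Mathlib
import Cfsg.Agent.Lib.H54.GL23f
import Cfsg.Agent.Lib.H54.GL23i

/-!
The group of order `5616` with a centralizer of an involution isomorphic to `GL₂(3)` is `PSL₃(3)`.
-/

set_option autoImplicit false
set_option linter.unusedSectionVars false

open Subgroup

universe u

namespace H54.GL23

open H5.GLa H5.GLb H5.GLc H5.GLa.Model

variable {G : Type u} [Group G] {t : G} {C : Subgroup G} {ψ : C → Q}

theorem dw : mul (mul wQ xQ) (inv wQ) = yQ := by decide
theorem dsy : mul (mul sQ yQ) (inv sQ) = inv yQ := by decide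
theorem dxy : mul (mul (mul xQ yQ) (mul xQ yQ)) (mul xQ yQ) ≠ H5.GLa.one := by decide
theorem dyx : mul (mul (mul yQ xQ) (mul yQ xQ)) (mul yQ xQ) ≠ H5.GLa.one := by decide
theorem dsinv : inv sQ = sQ := by decide

theorem y_eq (h : Dat t C ψ) : E ψ wQ * E ψ xQ * (E ψ wQ)⁻¹ = E ψ yQ := by
  rw [E_inv h (by decide), E_mul h (by decide) (by decide), E_mul h (by decide) (by decide), dw]

theorem t_comm_y (h : Dat t C ψ) : t * E ψ yQ = E ψ yQ * t := (E_comm h (by decide)).symm

theorem s_conj_y (h : Dat t C ψ) : E ψ sQ * E ψ yQ * (E ψ sQ)⁻¹ = (E ψ yQ)⁻¹ := by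
  rw [E_inv h (by decide), E_inv h (by decide), E_mul h (by decide) (by decide),
    E_mul h (by decide) (by decide), dsy]

theorem w_comm (h : Dat t C ψ) : E ψ wQ * t = t * E ψ wQ := E_comm h (by decide)

theorem cent_y3 [Finite G] (h : Dat t C ψ) {u : G} (hu : u ∈ C) (h27 : u ^ 27 = 1)
    (hx : u * E ψ yQ = E ψ yQ * u) : u = 1 ∨ u = E ψ yQ ∨ u = (E ψ yQ)⁻¹ := by
  obtain ⟨w, hw⟩ : ∃ w, w = E ψ wQ := ⟨_, rfl⟩
  have hwC : w ∈ C := by rw [hw]; exact E_mem h (by decide)
  have hy := y_eq h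
  rw [← hw] at hy
  have h1 : w⁻¹ * u * w ∈ C := C.mul_mem (C.mul_mem (C.inv_mem hwC) hu) hwC
  have h2 : (w⁻¹ * u * w) ^ 27 = 1 := by
    have : w⁻¹ * u * w = w⁻¹ * u * w⁻¹⁻¹ := by rw [inv_inv]
    rw [this, conj_pow, h27, mul_one, mul_inv_cancel]
  have h3 : (w⁻¹ * u * w) * E ψ xQ = E ψ xQ * (w⁻¹ * u * w) := by
    calc (w⁻¹ * u * w) * E ψ xQ = w⁻¹ * (u * (w * E ψ xQ * w⁻¹)) * w := by group
      _ = w⁻¹ * ((w * E ψ xQ * w⁻¹) * u) * w := by rw [hy, hx]
      _ = E ψ xQ * (w⁻¹ * u * w) := by group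
  have hun : ∀ z : G, w⁻¹ * u * w = z → u = w * z * w⁻¹ := fun z hz => by rw [← hz]; group
  rcases cent_x3 h h1 h2 h3 with e | e | e
  · left; rw [hun _ e, mul_one, mul_inv_cancel]
  · right; left; rw [hun _ e]; exact hy
  · right; right; rw [hun _ e, ← hy]; group

theorem card_C [Finite G] (h : Dat t C ψ) : Nat.card C = 48 := by
  have h1 := H54.GL23.Dat.card_eq h
  rw [← C.card_mul_index] at h1
  exact Nat.eq_of_mul_eq_mul_right (Nat.pos_of_ne_zero C.index_ne_zero_of_finite) h1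

theorem exists_K [Finite G] (h : Dat t C ψ) (hG : Nat.card G = 5616) (v : G) (hv : IsConj (E ψ xQ) v) :
    ∃ K : Subgroup G, Nat.card K = 27 ∧ ∀ u, u ∈ K ↔ (u * v = v * u ∧ u ^ 27 = 1) := by
  obtain ⟨K, hKle, hKc, hK⟩ := index_two_part (H := Subgroup.centralizer ({E ψ xQ} : Set G)) (j := 3)
    (by rw [card_Cx h hG]; norm_num)
  norm_num at hKc
  have hK' : ∀ u, u ∈ K ↔ (u * E ψ xQ = E ψ xQ * u ∧ u ^ 27 = 1) := by
    intro u
    constructor
    · intro hu
      refine ⟨Subgroup.mem_centralizer_singleton_iff.mp (hKle hu), ?_⟩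
      have h1 := pow_card_eq_one' (x := (⟨u, hu⟩ : K))
      rw [hKc] at h1
      exact congrArg Subtype.val h1
    · rintro ⟨h1, h2⟩
      exact hK u (Subgroup.mem_centralizer_singleton_iff.mpr h1) h2
  obtain ⟨g, rfl⟩ := isConj_iff.mp hv
  refine ⟨K.map (MulAut.conj g).toMonoidHom, ?_, ?_⟩
  · rw [Subgroup.card_map_of_injective (MulAut.conj g).injective, hKc]
  · intro u
    obtain ⟨x, hx⟩ : ∃ x, x = E ψ xQ := ⟨_, rfl⟩
    rw [← hx] at hK' ⊢
    constructor
    · rintro ⟨w, hw, rfl⟩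
      obtain ⟨h1, h2⟩ := (hK' w).1 hw
      constructor
      · show (g * w * g⁻¹) * (g * x * g⁻¹) = (g * x * g⁻¹) * (g * w * g⁻¹)
        calc (g * w * g⁻¹) * (g * x * g⁻¹) = g * (w * x) * g⁻¹ := by group
          _ = g * (x * w) * g⁻¹ := by rw [h1]
          _ = (g * x * g⁻¹) * (g * w * g⁻¹) := by group
      · show (g * w * g⁻¹) ^ 27 = 1
        rw [conj_pow, h2, mul_one, mul_inv_cancel]
    · rintro ⟨h1, h2⟩
      refine ⟨g⁻¹ * u * g, (hK' _).2 ⟨?_, ?_⟩, ?_⟩
      · calc (g⁻¹ * u * g) * x = g⁻¹ * (u * (g * x * g⁻¹)) * g := by group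
          _ = g⁻¹ * ((g * x * g⁻¹) * u) * g := by rw [h1]
          _ = x * (g⁻¹ * u * g) := by group
      · have : g⁻¹ * u * g = g⁻¹ * u * g⁻¹⁻¹ := by rw [inv_inv]
        rw [this, conj_pow, h2, mul_one, mul_inv_cancel]
      · show g * (g⁻¹ * u * g) * g⁻¹ = u
        group

theorem R1 [Finite G] (h : Dat t C ψ) (v : G) (hv : v * t = t * v) (h27 : v ^ 27 = 1)
    (hs : E ψ sQ * v * (E ψ sQ)⁻¹ = v⁻¹) :
    v = 1 ∨ v = E ψ xQ ∨ v = (E ψ xQ)⁻¹ ∨ v = E ψ yQ ∨ v = (E ψ yQ)⁻¹ := by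
  have hvC : v ∈ C := (h.hC v).2 hv
  have h3 := pow_three h hvC h27
  obtain ⟨q, hq, rfl⟩ := exists_E h hvC
  have hq3 := E_cube h hq h3
  rw [E_inv h (by decide), E_inv h hq, E_mul h (by decide) hq,
    E_mul h (dmuldet _ _ (by decide) hq) (by decide)] at hs
  have h4 := E_inj h (dmuldet _ _ (dmuldet _ _ (by decide) hq) (by decide)) (dinvdet _ hq) hs
  rw [dsinv] at h4
  have hxx : mul xQ xQ = inv xQ := by decide
  have hyy : mul yQ yQ = inv yQ := by decide
  rcases dR q hq hq3 h4 with e | e | e | e | e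
  · left; rw [e, E_one h]
  · right; left; rw [e]
  · right; right; left; rw [e, E_inv h (by decide), hxx]
  · right; right; right; left; rw [e]
  · right; right; right; right; rw [e, E_inv h (by decide), hyy]

theorem hy [Finite G] (h : Dat t C ψ) (hG : Nat.card G = 5616) :
    ∃ n, H54.GL23h.Hy t (E ψ sQ) n (E ψ xQ) (E ψ yQ) := by
  obtain ⟨n, hn1, hn2, hn3, hn4⟩ := exists_n h
  have hxy : IsConj (E ψ xQ) (E ψ yQ) := isConj_iff.mpr ⟨E ψ wQ, y_eq h⟩
  refine ⟨n, ?_⟩
  exact {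
    tt := t_sq h
    ss := s_sq h
    ts := by rw [ts_eq h, st_eq h]
    t1 := by
      intro e
      have := h.ht
      rw [e, orderOf_one] at this
      omega
    s1 := s_ne_one h
    st := s_ne_t h
    nt := hn1
    ns := by rw [ts_eq h]; exact hn2
    nu := by rw [ts_eq h]; exact hn3
    n3 := hn4
    x3 := x_cube h
    y3 := by rw [← y_eq h, conj_pow, x_cube h, mul_one, mul_inv_cancel]
    x1 := x_ne_one h
    y1 := by
      intro e
      rw [← y_eq h] at e
      apply x_ne_one h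
      have : E ψ wQ * E ψ xQ = E ψ wQ * 1 := by rw [mul_one]; exact mul_inv_eq_one.mp e
      exact mul_left_cancel this
    tx := t_comm_x h
    ty := t_comm_y h
    sx := s_conj_x h
    sy := s_conj_y h
    cxy := hxy
    K := exists_K h hG
    R1 := R1 h
    cent := by
      intro v h1 h2 h3
      have h4 : v ^ 2 = 1 := by
        rcases cent_E h h1 h2 with e | e | e | e
        · rw [e, one_pow]
        · rw [e, pow_two]; exact t_sq h
        · rw [e, pow_two]; exact s_sq h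
        · rw [e, pow_two, ← ts_eq h]
          have hc : E ψ sQ * t = t * E ψ sQ := by rw [ts_eq h, st_eq h]
          calc t * E ψ sQ * (t * E ψ sQ) = t * (E ψ sQ * t) * E ψ sQ := by group
            _ = (t * t) * (E ψ sQ * E ψ sQ) := by rw [hc]; group
            _ = 1 := by rw [t_sq h, s_sq h, one_mul]
      calc v = v ^ 27 * ((v ^ 2) ^ 13)⁻¹ := by rw [← pow_mul]; group
        _ = 1 := by rw [h3, h4]; group
    cx := fun u h1 h2 h3 => cent_x3 h ((h.hC u).2 h1) h2 h3
    cy := fun u h1 h2 h3 => cent_y3 h ((h.hC u).2 h1) h2 h3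
    card3 := by
      intro L hL hd
      have h1 : L ≤ C := fun u hu => (h.hC u).2 (hL u hu)
      have h2 := Subgroup.card_dvd_of_le h1
      rw [card_C h] at h2
      have h3 := Nat.dvd_gcd hd h2
      have h4 : Nat.gcd 27 48 = 3 := by norm_num
      rwa [h4] at h3
    xy := by
      intro e
      rw [E_mul h (by decide) (by decide)] at e
      have h1 := pow_three h (E_mem h (by decide)) e
      exact dxy (E_cube h (by decide) h1)
    yx := by
      intro e
      rw [E_mul h (by decide) (by decide)] at e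
      have h1 := pow_three h (E_mem h (by decide)) e
      exact dyx (E_cube h (by decide) h1)
    cardG := hG }

/-- **Characterization of `PSL₃(3)`** by its order and the centralizer of an involution. -/
theorem iso_psl33 [Finite G] (h : Dat t C ψ) (hG : Nat.card G = 5616) :
    Nonempty (G ≃* Matrix.ProjectiveSpecialLinearGroup (Fin 3) (ZMod 3)) := by
  obtain ⟨n, hn⟩ := hy h hG
  exact hn.iso

end H54.GL23
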