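import Mathlib
import Cfsg.Agent.Lib.H26.RankTwoAut4
import Cfsg.Agent.Lib.H42.NormRank
import Cfsg.Agent.Lib.H50.PSLBasic
import Cfsg.Agent.Lib.H6.SLCard

/-!
Generators and relations for the Sylow `2`-subgroup of `PSL₃(4)`: two groups of order `64` with the
generators and relations `GenL` are isomorphic.
-/

set_option autoImplicit false
set_option linter.unusedSectionVars false

open scoped commutatorElement

namespace H54.L34

/-- six generators of a group of order 64 -/
structure GenL (T : Type*) [Group T] (u1 u2 v1 v2 e1 e2 : T) : Prop where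
  card : Nat.card T = 64
  gen : Subgroup.closure {u1, u2, v1, v2, e1, e2} = ⊤
  e1c : e1 ∈ Subgroup.center T
  e2c : e2 ∈ Subgroup.center T
  e1s : e1 * e1 = 1
  e2s : e2 * e2 = 1
  u1s : u1 * u1 = 1
  u2s : u2 * u2 = 1
  v1s : v1 * v1 = 1
  v2s : v2 * v2 = 1
  c12 : ⁅u1, u2⁆ = 1
  c34 : ⁅v1, v2⁆ = 1
  c13 : ⁅u1, v1⁆ = e1
  c14 : ⁅u1, v2⁆ = e1 * e2
  c23 : ⁅u2, v1⁆ = e1 * e2
  c24 : ⁅u2, v2⁆ = e2

theorem iso {T T' : Type*} [Group T] [Group T'] {u1 u2 v1 v2 e1 e2 : T}
    {u1' u2' v1' v2' e1' e2' : T'} (h : GenL T u1 u2 v1 v2 e1 e2)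
    (h' : GenL T' u1' u2' v1' v2' e1' e2') : Nonempty (T ≃* T') := by
  have hfT : Finite T := Nat.finite_of_card_ne_zero (by rw [h.card]; norm_num)
  have hfT' : Finite T' := Nat.finite_of_card_ne_zero (by rw [h'.card]; norm_num)
  let W := T × T'
  let E1 : W := (e1, e1')
  let E2 : W := (e2, e2')
  set D : Subgroup W := Subgroup.zpowers E1 ⊔ Subgroup.zpowers E2 with hD
  have hE1 : E1 ∈ D := Subgroup.mem_sup_left (Subgroup.mem_zpowers _)
  have hE2 : E2 ∈ D := Subgroup.mem_sup_right (Subgroup.mem_zpowers _)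
  have hcW : ∀ {a : T} {a' : T'}, a ∈ Subgroup.center T → a' ∈ Subgroup.center T' →
      ((a, a') : W) ∈ Subgroup.center W := by
    intro a a' ha ha'
    rw [Subgroup.mem_center_iff] at *
    rintro ⟨g, g'⟩
    exact Prod.ext (ha g) (ha' g')
  have hDc : D ≤ Subgroup.center W := by
    rw [hD]
    refine sup_le ?_ ?_
    · rw [Subgroup.zpowers_le]; exact hcW h.e1c h'.e1c
    · rw [Subgroup.zpowers_le]; exact hcW h.e2c h'.e2c
  have hDn : D.Normal := by
    refine ⟨fun n hn g => ?_⟩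
    rw [Subgroup.mem_center_iff.mp (hDc hn) g, mul_inv_cancel_right]
    exact hn
  have hDcard : Nat.card D ≤ 4 := by
    have h1 : Nat.card D ≤ 2 * Nat.card (Subgroup.zpowers E1) := by
      apply H26.RankTwoAut4.card_sup_le
      · exact Prod.ext h.e2s h'.e2s
      · rw [Subgroup.zpowers_le, Subgroup.mem_centralizer_singleton_iff]
        exact Subgroup.mem_center_iff.mp (hcW h.e2c h'.e2c) E1
    have h2 : Nat.card (Subgroup.zpowers E1) ≤ 2 := by
      rw [Nat.card_zpowers]
      exact orderOf_le_of_pow_eq_one (by norm_num) (by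
        rw [pow_two]; exact Prod.ext h.e1s h'.e1s)
    omega
  let G1 : W := (u1, u1')
  let G2 : W := (u2, u2')
  let G3 : W := (v1, v1')
  let G4 : W := (v2, v2')
  let π : W →* W ⧸ D := QuotientGroup.mk' D
  have hπ : ∀ x : W, π x = 1 ↔ x ∈ D := fun x => QuotientGroup.eq_one_iff x
  have hsq : ∀ x : W, x * x ∈ D → π x * π x = 1 := by
    intro x hx
    rw [← map_mul, hπ]; exact hx
  have hcm : ∀ x y : W, ⁅x, y⁆ ∈ D → π x ∈ Subgroup.centralizer ({π y} : Set (W ⧸ D)) := by
    intro x y hxy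
    rw [Subgroup.mem_centralizer_singleton_iff]
    have h1 : ⁅π x, π y⁆ = 1 := by rw [← map_commutatorElement, hπ]; exact hxy
    exact commutatorElement_eq_one_iff_mul_comm.mp h1
  set M : Subgroup (W ⧸ D) := Subgroup.zpowers (π G1) ⊔ Subgroup.zpowers (π G2) ⊔
    Subgroup.zpowers (π G3) ⊔ Subgroup.zpowers (π G4) with hM
  have hMcard : Nat.card M ≤ 16 := by
    have h1 : Nat.card (Subgroup.zpowers (π G1)) ≤ 2 := by
      rw [Nat.card_zpowers]
      apply orderOf_le_of_pow_eq_one (by norm_num)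
      rw [pow_two]
      apply hsq
      have : G1 * G1 = 1 := Prod.ext h.u1s h'.u1s
      rw [this]; exact one_mem _
    have h2 : Nat.card (Subgroup.zpowers (π G1) ⊔ Subgroup.zpowers (π G2) : Subgroup (W ⧸ D)) ≤
        2 * Nat.card (Subgroup.zpowers (π G1)) := by
      apply H26.RankTwoAut4.card_sup_le
      · apply hsq
        have : G2 * G2 = 1 := Prod.ext h.u2s h'.u2s
        rw [this]; exact one_mem _
      · rw [Subgroup.zpowers_le]
        apply hcm
        have : ⁅G1, G2⁆ = 1 := Prod.ext h.c12 h'.c12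
        rw [this]; exact one_mem _
    have h3 : Nat.card (Subgroup.zpowers (π G1) ⊔ Subgroup.zpowers (π G2) ⊔
        Subgroup.zpowers (π G3) : Subgroup (W ⧸ D)) ≤
        2 * Nat.card (Subgroup.zpowers (π G1) ⊔ Subgroup.zpowers (π G2) : Subgroup (W ⧸ D)) := by
      apply H26.RankTwoAut4.card_sup_le
      · apply hsq
        have : G3 * G3 = 1 := Prod.ext h.v1s h'.v1s
        rw [this]; exact one_mem _
      · refine sup_le ?_ ?_ <;> rw [Subgroup.zpowers_le] <;> apply hcm
        · have : ⁅G1, G3⁆ = E1 := Prod.ext h.c13 h'.c13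
          rw [this]; exact hE1
        · have : ⁅G2, G3⁆ = E1 * E2 := Prod.ext h.c23 h'.c23
          rw [this]; exact D.mul_mem hE1 hE2
    have h4 : Nat.card M ≤ 2 * Nat.card (Subgroup.zpowers (π G1) ⊔ Subgroup.zpowers (π G2) ⊔
        Subgroup.zpowers (π G3) : Subgroup (W ⧸ D)) := by
      apply H26.RankTwoAut4.card_sup_le
      · apply hsq
        have : G4 * G4 = 1 := Prod.ext h.v2s h'.v2s
        rw [this]; exact one_mem _
      · refine sup_le (sup_le ?_ ?_) ?_ <;> rw [Subgroup.zpowers_le] <;> apply hcm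
        · have : ⁅G1, G4⁆ = E1 * E2 := Prod.ext h.c14 h'.c14
          rw [this]; exact D.mul_mem hE1 hE2
        · have : ⁅G2, G4⁆ = E2 := Prod.ext h.c24 h'.c24
          rw [this]; exact hE2
        · have : ⁅G3, G4⁆ = 1 := Prod.ext h.c34 h'.c34
          rw [this]; exact one_mem _
    omega
  set K := M.comap π with hK
  have hKcard : Nat.card K ≤ 64 := by
    have h1 := H1.Cores.card_comap_mk' D M
    have h2 : Nat.card K = Nat.card (M.comap (QuotientGroup.mk' D)) := rfl
    rw [h2, h1]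
    calc _ ≤ 4 * 16 := Nat.mul_le_mul hDcard hMcard
      _ = 64 := by norm_num
  have hDK : D ≤ K := by
    intro x hx
    rw [hK, Subgroup.mem_comap, (hπ x).mpr hx]
    exact one_mem _
  have k1 : G1 ∈ K := Subgroup.mem_sup_left (Subgroup.mem_sup_left
    (Subgroup.mem_sup_left (Subgroup.mem_zpowers _)))
  have k2 : G2 ∈ K := Subgroup.mem_sup_left (Subgroup.mem_sup_left
    (Subgroup.mem_sup_right (Subgroup.mem_zpowers _)))
  have k3 : G3 ∈ K := Subgroup.mem_sup_left (Subgroup.mem_sup_right (Subgroup.mem_zpowers _))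
  have k4 : G4 ∈ K := Subgroup.mem_sup_right (Subgroup.mem_zpowers _)
  let p : K →* T := (MonoidHom.fst T T').comp K.subtype
  let p' : K →* T' := (MonoidHom.snd T T').comp K.subtype
  have hp : Function.Surjective p := by
    rw [← MonoidHom.range_eq_top, eq_top_iff, ← h.gen, Subgroup.closure_le]
    intro x hx
    simp only [Set.mem_insert_iff, Set.mem_singleton_iff] at hx
    rcases hx with rfl | rfl | rfl | rfl | rfl | rfl
    · exact ⟨⟨G1, k1⟩, rfl⟩
    · exact ⟨⟨G2, k2⟩, rfl⟩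
    · exact ⟨⟨G3, k3⟩, rfl⟩
    · exact ⟨⟨G4, k4⟩, rfl⟩
    · exact ⟨⟨E1, hDK hE1⟩, rfl⟩
    · exact ⟨⟨E2, hDK hE2⟩, rfl⟩
  have hp' : Function.Surjective p' := by
    rw [← MonoidHom.range_eq_top, eq_top_iff, ← h'.gen, Subgroup.closure_le]
    intro x hx
    simp only [Set.mem_insert_iff, Set.mem_singleton_iff] at hx
    rcases hx with rfl | rfl | rfl | rfl | rfl | rfl
    · exact ⟨⟨G1, k1⟩, rfl⟩
    · exact ⟨⟨G2, k2⟩, rfl⟩
    · exact ⟨⟨G3, k3⟩, rfl⟩
    · exact ⟨⟨G4, k4⟩, rfl⟩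
    · exact ⟨⟨E1, hDK hE1⟩, rfl⟩
    · exact ⟨⟨E2, hDK hE2⟩, rfl⟩
  have hcard : Nat.card K = 64 := by
    apply le_antisymm hKcard
    rw [← h.card]
    exact Nat.card_le_card_of_surjective p hp
  have hpb : Function.Bijective p := by
    rw [Nat.bijective_iff_surjective_and_card]
    exact ⟨hp, by rw [hcard, h.card]⟩
  have hpb' : Function.Bijective p' := by
    rw [Nat.bijective_iff_surjective_and_card]
    exact ⟨hp', by rw [hcard, h'.card]⟩
  exact ⟨(MulEquiv.ofBijective p hpb).symm.trans (MulEquiv.ofBijective p' hpb')⟩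



/-- transport along an isomorphism -/
theorem GenL.map {T T' : Type*} [Group T] [Group T'] {u1 u2 v1 v2 e1 e2 : T}
    (h : GenL T u1 u2 v1 v2 e1 e2) (e : T ≃* T') :
    GenL T' (e u1) (e u2) (e v1) (e v2) (e e1) (e e2) := by
  have hc : ∀ {x : T}, x ∈ Subgroup.center T → e x ∈ Subgroup.center T' := by
    intro x hx
    rw [Subgroup.mem_center_iff] at hx ⊢
    intro y
    obtain ⟨y, rfl⟩ := e.surjective y
    rw [← map_mul, ← map_mul, hx]
  refine ⟨?_, ?_, hc h.e1c, hc h.e2c, ?_, ?_, ?_, ?_, ?_, ?_, ?_, ?_, ?_, ?_, ?_, ?_⟩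
  · rw [← Nat.card_congr e.toEquiv]; exact h.card
  · have h1 := congrArg (Subgroup.map e.toMonoidHom) h.gen
    rw [MonoidHom.map_closure, Subgroup.map_top_of_surjective _ e.surjective] at h1
    rw [← h1]
    congr 1
    ext x
    simp only [Set.mem_image, Set.mem_insert_iff, Set.mem_singleton_iff]
    constructor
    · rintro (rfl | rfl | rfl | rfl | rfl | rfl)
      · exact ⟨u1, by simp, rfl⟩
      · exact ⟨u2, by simp, rfl⟩
      · exact ⟨v1, by simp, rfl⟩
      · exact ⟨v2, by simp, rfl⟩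
      · exact ⟨e1, by simp, rfl⟩
      · exact ⟨e2, by simp, rfl⟩
    · rintro ⟨y, (rfl | rfl | rfl | rfl | rfl | rfl), rfl⟩ <;> simp
  · rw [← map_mul, h.e1s, map_one]
  · rw [← map_mul, h.e2s, map_one]
  · rw [← map_mul, h.u1s, map_one]
  · rw [← map_mul, h.u2s, map_one]
  · rw [← map_mul, h.v1s, map_one]
  · rw [← map_mul, h.v2s, map_one]
  · rw [← map_commutatorElement, h.c12, map_one]
  · rw [← map_commutatorElement, h.c34, map_one]
  · rw [← map_commutatorElement, h.c13]
  · rw [← map_commutatorElement, h.c14, map_mul]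
  · rw [← map_commutatorElement, h.c23, map_mul]
  · rw [← map_commutatorElement, h.c24]

end H54.L34
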