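import Mathlib
import Cfsg.Agent.Lib.H54.L34a

/-!
The Sylow `2`-subgroups of `PSL₃(4)` satisfy `GenL`.
-/

set_option autoImplicit false
set_option linter.unusedSectionVars false

open scoped commutatorElement
open Matrix

namespace H54.L34

section field

variable {F : Type*} [Field F] [Fintype F]

theorem two_zero (hF : Fintype.card F = 4) : (2 : F) = 0 := by
  have h1 : ((Fintype.card F : ℕ) : F) = 0 := FiniteField.cast_card_eq_zero F
  rw [hF] at h1
  have h2 : ((2 : F)) ^ 2 = 0 := by
    have : ((4 : ℕ) : F) = (2 : F) ^ 2 := by norm_num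
    rwa [← this]
  exact pow_eq_zero_iff (by norm_num) |>.mp h2

/-- a primitive cube root of unity in the field with four elements -/
theorem exists_omega (hF : Fintype.card F = 4) : ∃ w : F, w * w = w + 1 ∧
    ∀ a : F, a = 0 ∨ a = 1 ∨ a = w ∨ a = w + 1 := by
  classical
  have h2 := two_zero hF
  obtain ⟨w, hw⟩ : ∃ x : F, x ∉ ({0, 1} : Finset F) := by
    by_contra hcon
    push Not at hcon
    have h1 : (Finset.univ : Finset F) ⊆ {0, 1} := fun x _ => hcon x
    have h3 := Finset.card_le_card h1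
    have h5 : ({0, 1} : Finset F).card ≤ 2 := Finset.card_le_two
    rw [Finset.card_univ] at h3
    omega
  simp only [Finset.mem_insert, Finset.mem_singleton, not_or] at hw
  obtain ⟨hw0, hw1⟩ := hw
  have hn : ({0, 1, w, w + 1} : Finset F).card = 4 := by
    have e1 : w + 1 ≠ w := by
      intro h; exact one_ne_zero (left_eq_add.mp h.symm)
    have e2 : w + 1 ≠ 1 := by
      intro h; exact hw0 (right_eq_add.mp h.symm)
    have e3 : w + 1 ≠ 0 := by
      intro h
      apply hw1
      linear_combination h - h2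
    rw [Finset.card_insert_of_notMem, Finset.card_insert_of_notMem, Finset.card_insert_of_notMem,
      Finset.card_singleton]
    · simpa using e1.symm
    · simp only [Finset.mem_insert, Finset.mem_singleton, not_or]
      exact ⟨Ne.symm hw1, e2.symm⟩
    · simp only [Finset.mem_insert, Finset.mem_singleton, not_or]
      exact ⟨zero_ne_one, Ne.symm hw0, e3.symm⟩
  have hall : ∀ a : F, a = 0 ∨ a = 1 ∨ a = w ∨ a = w + 1 := by
    have h1 : ({0, 1, w, w + 1} : Finset F) = Finset.univ := by
      rw [← Finset.card_eq_iff_eq_univ, hn, hF]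
    intro a
    have := h1.symm ▸ Finset.mem_univ a
    simpa using this
  refine ⟨w, ?_, hall⟩
  rcases hall (w * w) with h | h | h | h
  · exact absurd (mul_self_eq_zero.mp h) hw0
  · exfalso
    have h3 : (w - 1) * (w - 1) = 0 := by linear_combination h + (1 - w) * h2
    exact hw1 (sub_eq_zero.mp (mul_self_eq_zero.mp h3))
  · exfalso
    have h3 : w * (w - 1) = 0 := by linear_combination h
    rcases mul_eq_zero.mp h3 with h4 | h4
    · exact hw0 h4
    · exact hw1 (sub_eq_zero.mp h4)
  · exact h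

end field

section ut

variable {F : Type*} [Field F]

/-- a unitriangular matrix -/
def um (a b c : F) : Matrix.SpecialLinearGroup (Fin 3) F :=
  ⟨!![1, a, c; 0, 1, b; 0, 0, 1], by rw [Matrix.det_fin_three]; simp⟩

theorem coe_um (a b c : F) :
    (um a b c : Matrix (Fin 3) (Fin 3) F) = !![1, a, c; 0, 1, b; 0, 0, 1] := rfl

theorem um_mul (a b c a' b' c' : F) : um a b c * um a' b' c' = um (a + a') (b + b') (c + c' + a * b') := by
  apply Subtype.ext
  change (um a b c : Matrix (Fin 3) (Fin 3) F) * (um a' b' c' : Matrix (Fin 3) (Fin 3) F) =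
    (um (a + a') (b + b') (c + c' + a * b') : Matrix (Fin 3) (Fin 3) F)
  rw [coe_um, coe_um, coe_um]
  ext i j
  fin_cases i <;> fin_cases j <;> simp [Matrix.mul_apply, Fin.sum_univ_three, add_comm] <;> ring

theorem um_zero : um (0 : F) 0 0 = 1 := by
  apply Subtype.ext
  change (um (0 : F) 0 0 : Matrix (Fin 3) (Fin 3) F) = 1
  rw [coe_um]
  ext i j
  fin_cases i <;> fin_cases j <;> simp

theorem um_inj {a b c a' b' c' : F} (h : um a b c = um a' b' c') : a = a' ∧ b = b' ∧ c = c' := by
  have h1 := congrArg (fun g : Matrix.SpecialLinearGroup (Fin 3) F => (g : Matrix (Fin 3) (Fin 3) F)) h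
  rw [coe_um, coe_um] at h1
  have h01 := congrFun (congrFun h1 0) 1
  have h02 := congrFun (congrFun h1 0) 2
  have h12 := congrFun (congrFun h1 1) 2
  simp at h01 h02 h12
  exact ⟨h01, h12, h02⟩

/-- the unitriangular group -/
def UT (F : Type*) [Field F] : Subgroup (Matrix.SpecialLinearGroup (Fin 3) F) where
  carrier := {g | ∃ a b c : F, g = um a b c}
  one_mem' := ⟨0, 0, 0, um_zero.symm⟩
  mul_mem' := by
    rintro _ _ ⟨a, b, c, rfl⟩ ⟨a', b', c', rfl⟩
    exact ⟨_, _, _, um_mul a b c a' b' c'⟩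
  inv_mem' := by
    rintro _ ⟨a, b, c, rfl⟩
    refine ⟨-a, -b, -c + a * b, ?_⟩
    rw [inv_eq_iff_mul_eq_one, um_mul, ← um_zero]
    congr 1 <;> ring

/-- an element of the unitriangular group -/
def U (a b c : F) : UT F := ⟨um a b c, a, b, c, rfl⟩

theorem U_mul (a b c a' b' c' : F) : U a b c * U a' b' c' = U (a + a') (b + b') (c + c' + a * b') :=
  Subtype.ext (um_mul a b c a' b' c')

theorem U_zero : U (0 : F) 0 0 = 1 := Subtype.ext um_zero

theorem U_inj {a b c a' b' c' : F} (h : U a b c = U a' b' c') : a = a' ∧ b = b' ∧ c = c' :=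
  um_inj (congrArg Subtype.val h)

theorem U_congr {a b c a' b' c' : F} (h1 : a = a') (h2 : b = b') (h3 : c = c') :
    U a b c = U a' b' c' := by rw [h1, h2, h3]

theorem exists_U (g : UT F) : ∃ a b c : F, g = U a b c := by
  obtain ⟨g, a, b, c, rfl⟩ := g
  exact ⟨a, b, c, rfl⟩

/-- the map to `PSL₃` -/
def toPSL : UT F →* Matrix.ProjectiveSpecialLinearGroup (Fin 3) F :=
  (QuotientGroup.mk' _).comp (UT F).subtype

theorem toPSL_inj : Function.Injective (toPSL : UT F →* Matrix.ProjectiveSpecialLinearGroup (Fin 3) F) := by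
  intro g g' h
  obtain ⟨a, b, c, rfl⟩ := exists_U g
  obtain ⟨a', b', c', rfl⟩ := exists_U g'
  have h1 : (QuotientGroup.mk (um a b c) : Matrix.ProjectiveSpecialLinearGroup (Fin 3) F) =
    QuotientGroup.mk (um a' b' c') := h
  rw [H50.PSLBasic.mk_eq_mk_iff] at h1
  obtain ⟨k, hk⟩ := h1
  rw [coe_um, coe_um] at hk
  have h00 := congrFun (congrFun hk 0) 0
  have h01 := congrFun (congrFun hk 0) 1
  have h02 := congrFun (congrFun hk 0) 2
  have h12 := congrFun (congrFun hk 1) 2
  simp at h00 h01 h02 h12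
  rw [← h00, one_mul] at h01 h02 h12
  rw [h01, h02, h12]

theorem card_UT [Fintype F] (hF : Fintype.card F = 4) : Nat.card (UT F) = 64 := by
  have h1 : Function.Bijective (fun p : F × F × F => U p.1 p.2.1 p.2.2) := by
    constructor
    · rintro ⟨a, b, c⟩ ⟨a', b', c'⟩ h
      obtain ⟨rfl, rfl, rfl⟩ := U_inj h
      rfl
    · intro g
      obtain ⟨a, b, c, rfl⟩ := exists_U g
      exact ⟨(a, b, c), rfl⟩
  rw [← Nat.card_eq_of_bijective _ h1, Nat.card_prod, Nat.card_prod, Nat.card_eq_fintype_card, hF]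

theorem gen_UT [Fintype F] (hF : Fintype.card F = 4) : ∃ u1 u2 v1 v2 e1 e2 : UT F,
    GenL (UT F) u1 u2 v1 v2 e1 e2 := by
  have two := two_zero hF
  obtain ⟨w, hw, hall⟩ := exists_omega hF
  have hinv : ∀ a b c : F, (U a b c)⁻¹ = U (-a) (-b) (-c + a * b) := by
    intro a b c
    rw [inv_eq_iff_mul_eq_one, U_mul, ← U_zero]
    congr 1 <;> ring
  have hcomm : ∀ a b : F, ⁅U a 0 0, U 0 b 0⁆ = U 0 0 (a * b) := by
    intro a b
    rw [commutatorElement_def, hinv, hinv, U_mul, U_mul, U_mul]
    congr 1 <;> ring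
  have hcen : ∀ c : F, U 0 0 c ∈ Subgroup.center (UT F) := by
    intro c
    rw [Subgroup.mem_center_iff]
    intro g
    obtain ⟨a', b', c', rfl⟩ := exists_U g
    rw [U_mul, U_mul]
    congr 1 <;> ring
  have hz : ∀ {a b c : F}, a = 0 → b = 0 → c = 0 → U a b c = 1 := by
    rintro _ _ _ rfl rfl rfl; exact U_zero
  refine ⟨U 1 0 0, U w 0 0, U 0 1 0, U 0 w 0, U 0 0 1, U 0 0 (w + 1), card_UT hF, ?_, hcen _, hcen _,
    ?_, ?_, ?_, ?_, ?_, ?_, ?_, ?_, ?_, ?_, ?_, ?_⟩
  · rw [eq_top_iff]
    set C := Subgroup.closure ({U 1 0 0, U w 0 0, U 0 1 0, U 0 w 0, U 0 0 1, U 0 0 (w + 1)} : Set (UT F))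
      with hC
    have m1 : U 1 0 0 ∈ C := Subgroup.subset_closure (by simp)
    have m2 : U w 0 0 ∈ C := Subgroup.subset_closure (by simp)
    have m3 : U 0 1 0 ∈ C := Subgroup.subset_closure (by simp)
    have m4 : U 0 w 0 ∈ C := Subgroup.subset_closure (by simp)
    have m5 : U 0 0 1 ∈ C := Subgroup.subset_closure (by simp)
    have m6 : U 0 0 (w + 1) ∈ C := Subgroup.subset_closure (by simp)
    have p1 : ∀ a : F, U a 0 0 ∈ C := by
      intro a
      rcases hall a with rfl | rfl | rfl | rfl
      · rw [U_zero]; exact one_mem _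
      · exact m1
      · exact m2
      · have : U (w + 1) 0 0 = U w 0 0 * U 1 0 0 := by rw [U_mul]; congr 1 <;> ring
        rw [this]; exact C.mul_mem m2 m1
    have p2 : ∀ a : F, U 0 a 0 ∈ C := by
      intro a
      rcases hall a with rfl | rfl | rfl | rfl
      · rw [U_zero]; exact one_mem _
      · exact m3
      · exact m4
      · have : U 0 (w + 1) 0 = U 0 w 0 * U 0 1 0 := by rw [U_mul]; congr 1 <;> ring
        rw [this]; exact C.mul_mem m4 m3
    have p3 : ∀ a : F, U 0 0 a ∈ C := by
      intro a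
      rcases hall a with rfl | rfl | h | rfl
      · rw [U_zero]; exact one_mem _
      · exact m5
      · have : U 0 0 a = U 0 0 (w + 1) * U 0 0 1 := by
          rw [U_mul, h]; exact U_congr (by ring) (by ring) (by linear_combination -two)
        rw [this]; exact C.mul_mem m6 m5
      · exact m6
    intro g _
    obtain ⟨a, b, c, rfl⟩ := exists_U g
    have : U a b c = U a 0 0 * U 0 b 0 * U 0 0 (c - a * b) := by
      rw [U_mul, U_mul]; congr 1 <;> ring
    rw [this]
    exact C.mul_mem (C.mul_mem (p1 a) (p2 b)) (p3 _)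
  · rw [U_mul]; exact hz (by ring) (by ring) (by linear_combination two)
  · rw [U_mul]; exact hz (by ring) (by ring) (by linear_combination (w + 1) * two)
  · rw [U_mul]; exact hz (by linear_combination two) (by ring) (by ring)
  · rw [U_mul]; exact hz (by linear_combination w * two) (by ring) (by ring)
  · rw [U_mul]; exact hz (by ring) (by linear_combination two) (by ring)
  · rw [U_mul]; exact hz (by ring) (by linear_combination w * two) (by ring)
  · rw [commutatorElement_eq_one_iff_mul_comm, U_mul, U_mul]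
    exact U_congr (by ring) (by ring) (by ring)
  · rw [commutatorElement_eq_one_iff_mul_comm, U_mul, U_mul]
    exact U_congr (by ring) (by ring) (by ring)
  · rw [hcomm]; exact U_congr rfl rfl (by ring)
  · rw [hcomm, U_mul]; exact U_congr (by ring) (by ring) (by linear_combination -two)
  · rw [hcomm, U_mul]; exact U_congr (by ring) (by ring) (by linear_combination -two)
  · rw [hcomm]; exact U_congr rfl rfl hw

/-- the Sylow `2`-subgroups of `PSL₃(4)` satisfy `GenL` -/
theorem gen_psl [Fintype F] (hF : Fintype.card F = 4)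
    (P : Sylow 2 (Matrix.ProjectiveSpecialLinearGroup (Fin 3) F)) :
    ∃ u1 u2 v1 v2 e1 e2 : (P : Subgroup (Matrix.ProjectiveSpecialLinearGroup (Fin 3) F)),
      GenL P u1 u2 v1 v2 e1 e2 := by
  classical
  have hfin : Finite (Matrix.ProjectiveSpecialLinearGroup (Fin 3) F) := Quotient.finite _
  have hU : Finite (UT F) := Nat.finite_of_card_ne_zero (by rw [card_UT hF]; norm_num)
  have h2 : Fact (Nat.Prime 2) := ⟨Nat.prime_two⟩
  have hc := H6.SLCard.card_psl (F := F) (n := 3) (by norm_num)
  rw [Fin.prod_univ_three, hF] at hc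
  have hc' : Nat.card (Matrix.ProjectiveSpecialLinearGroup (Fin 3) F) = 20160 := by
    generalize Nat.card (Matrix.ProjectiveSpecialLinearGroup (Fin 3) F) = m at hc
    norm_num at hc
    omega
  obtain ⟨⟨T⟩⟩ : Nonempty (Nonempty (Sylow 2 (UT F))) := ⟨inferInstance⟩
  obtain ⟨e⟩ := H42.NormRank.sylow_equiv (toPSL : UT F →* _) toPSL_inj (by
    rw [card_UT hF, hc', Nat.factorization_def _ Nat.prime_two, Nat.factorization_def _ Nat.prime_two]
    have h1 : padicValNat 2 64 = 6 := by
      have : (64 : ℕ) = 2 ^ 6 := by norm_num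
      rw [this, padicValNat.prime_pow]
    have h3 : padicValNat 2 20160 = 6 := by
      have : (20160 : ℕ) = 2 ^ 6 * 315 := by norm_num
      rw [this, padicValNat.mul (by norm_num) (by norm_num), padicValNat.prime_pow,
        padicValNat.eq_zero_of_not_dvd (by norm_num)]
    rw [h1, h3]) T P
  have hT : (T : Subgroup (UT F)) = ⊤ := by
    apply Subgroup.eq_top_of_card_eq
    rw [T.card_eq_multiplicity, card_UT hF, Nat.factorization_def _ Nat.prime_two]
    have : (64 : ℕ) = 2 ^ 6 := by norm_num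
    rw [this, padicValNat.prime_pow]
  obtain ⟨u1, u2, v1, v2, e1, e2, h⟩ := gen_UT hF
  have e' : UT F ≃* (P : Subgroup (Matrix.ProjectiveSpecialLinearGroup (Fin 3) F)) :=
    (Subgroup.topEquiv.symm.trans (MulEquiv.subgroupCongr hT.symm)).trans e
  exact ⟨_, _, _, _, _, _, h.map e'⟩

end ut

end H54.L34
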