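import Mathlib
import Cfsg.Agent.Lib.H54.L34a
import Cfsg.Agent.Lib.H26.RankTwoAut3
import Cfsg.Agent.Lib.H1.Cores

/-!
Finite `2`-groups with an automorphism `α` of order three and a commuting involutory automorphism `τ`
whose fixed point group is a central four-group on which `α` acts without fixed points.
-/

set_option autoImplicit false
set_option linter.unusedSectionVars false

open scoped commutatorElement

namespace H54.L34

open H26.FpfThree H26.RankTwoAut H26.RankTwoAut2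

/-- fixed points of an automorphism -/
def fx {T : Type*} [Group T] (τ : MulAut T) : Subgroup T where
  carrier := {x | τ x = x}
  one_mem' := map_one τ
  mul_mem' := by
    intro a b ha hb
    rw [Set.mem_ofPred_eq] at *
    rw [map_mul, ha, hb]
  inv_mem' := by
    intro a ha
    rw [Set.mem_ofPred_eq] at *
    rw [map_inv, ha]

theorem mem_fx {T : Type*} [Group T] {τ : MulAut T} {x : T} : x ∈ fx τ ↔ τ x = x := Iff.rfl

/-- the hypotheses -/
structure Hyp (T : Type*) [Group T] (α τ : MulAut T) : Prop where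
  two : IsPGroup 2 T
  cube : ∀ x, α (α (α x)) = x
  sq : ∀ x, τ (τ x) = x
  comm : ∀ x, α (τ x) = τ (α x)
  le4 : Nat.card (fx τ) ≤ 4
  cent : fx τ ≤ Subgroup.center T
  exp : ∀ x ∈ fx τ, x * x = 1
  fpf : ∀ x ∈ fx τ, α x = x → x = 1

theorem exists_inv {Q : Type*} [Group Q] (hQ : IsPGroup 2 Q) {q : Q} (hq : q ≠ 1) :
    ∃ k : ℕ, q ^ (2 ^ k) ≠ 1 ∧ q ^ (2 ^ k) * q ^ (2 ^ k) = 1 := by
  classical
  have hex := hQ q
  obtain ⟨k, hk⟩ : ∃ k, Nat.find hex = k + 1 := by
    cases h : Nat.find hex with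
    | zero =>
      exfalso
      have := Nat.find_spec hex
      rw [h] at this
      rw [pow_zero, pow_one] at this
      exact hq this
    | succ k => exact ⟨k, rfl⟩
  refine ⟨k, Nat.find_min hex (by omega), ?_⟩
  have := Nat.find_spec hex
  rw [hk, pow_succ, pow_mul] at this
  rw [← pow_two]; exact this

theorem fixfree {Q : Type*} [Group Q] [Finite Q] (hQ : IsPGroup 2 Q) (σ : MulAut Q)
    (h2 : ∀ q, σ (σ q) = q) (hf : ∀ q, σ q = q → q = 1) (q : Q) : q = 1 := by
  have hinj : Function.Injective (fun q : Q => q⁻¹ * σ q) := by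
    intro a b hab
    simp only at hab
    have h1 : σ (b * a⁻¹) = b * a⁻¹ := by
      rw [map_mul, map_inv]
      calc σ b * (σ a)⁻¹ = b * (b⁻¹ * σ b) * (σ a)⁻¹ := by group
        _ = b * (a⁻¹ * σ a) * (σ a)⁻¹ := by rw [hab]
        _ = b * a⁻¹ := by group
    have := hf _ h1
    exact (mul_inv_eq_one.mp this).symm
  have hinv : ∀ q, σ q = q⁻¹ := by
    intro q
    obtain ⟨a, ha⟩ := (Finite.injective_iff_surjective.mp hinj) q
    simp only at ha
    rw [← ha, map_mul, map_inv, h2]; group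
  by_contra hq
  obtain ⟨k, hk1, hk2⟩ := exists_inv hQ hq
  apply hk1
  apply hf
  rw [hinv]
  exact inv_eq_of_mul_eq_one_left hk2

theorem exists_quot {T : Type*} [Group T] (N : Subgroup T) [N.Normal] (α : MulAut T)
    (h : ∀ x, x ∈ N ↔ α x ∈ N) :
    ∃ β : MulAut (T ⧸ N), ∀ x : T, β (QuotientGroup.mk x) = QuotientGroup.mk (α x) := by
  refine ⟨QuotientGroup.congr N N α ?_, fun x => rfl⟩
  ext y
  constructor
  · rintro ⟨x, hx, rfl⟩
    exact (h x).mp hx
  · intro hy
    refine ⟨α.symm y, ?_, α.apply_symm_apply y⟩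
    show α.symm y ∈ N
    rw [h, MulEquiv.apply_symm_apply]
    exact hy

theorem top_of_fixfree {T : Type*} [Group T] [Finite T] (hT : IsPGroup 2 T) (N : Subgroup T) [N.Normal]
    (τ : MulAut T) (h2 : ∀ x, τ (τ x) = x) (hN : ∀ x ∈ N, τ x ∈ N)
    (h : ∀ x, x⁻¹ * τ x ∈ N → x ∈ N) : N = ⊤ := by
  obtain ⟨β, hβ⟩ := exists_quot N τ (fun x => ⟨hN x, fun hx => by
    have := hN _ hx; rwa [h2] at this⟩)
  have hQ : IsPGroup 2 (T ⧸ N) := hT.to_quotient N
  have h1 := fixfree hQ β (by
    intro q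
    obtain ⟨x, rfl⟩ := QuotientGroup.mk_surjective q
    rw [hβ, hβ, h2]) (by
    intro q
    obtain ⟨x, rfl⟩ := QuotientGroup.mk_surjective q
    intro hx
    rw [hβ] at hx
    rw [QuotientGroup.eq_one_iff]
    apply h
    exact QuotientGroup.eq.mp hx.symm)
  rw [eq_top_iff]
  intro x _
  exact (QuotientGroup.eq_one_iff x).mp (h1 x)

variable {T : Type*} [Group T] {α τ : MulAut T}

theorem Hyp.alpha_fx (h : Hyp T α τ) {x : T} (hx : x ∈ fx τ) : α x ∈ fx τ := by
  rw [mem_fx] at *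
  rw [← h.comm, hx]

theorem Hyp.fpf3 [Finite T] (h : Hyp T α τ) : Fpf3 α := by
  refine ⟨h.cube, ?_⟩
  intro x hx
  have hm : ∀ y : fx α, τ y ∈ fx α := fun y => by
    rw [mem_fx, h.comm, mem_fx.mp y.2]
  let σ : MulAut (fx α) :=
    { toFun := fun y => ⟨τ y, hm y⟩
      invFun := fun y => ⟨τ y, hm y⟩
      left_inv := fun y => Subtype.ext (h.sq y)
      right_inv := fun y => Subtype.ext (h.sq y)
      map_mul' := fun y z => Subtype.ext (map_mul τ (y : T) z) }
  have := fixfree (h.two.to_subgroup _) σ (fun q => Subtype.ext (h.sq q)) (by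
    rintro ⟨q, hq⟩ hq2
    have h3 : τ q = q := congrArg Subtype.val hq2
    exact Subtype.ext (h.fpf q h3 hq)) ⟨x, hx⟩
  exact congrArg Subtype.val this

theorem Hyp.distinct (h : Hyp T α τ) {s : T} (hs1 : s ≠ 1) (hs : s ∈ fx τ) :
    α s ≠ 1 ∧ α (α s) ≠ 1 ∧ α s ≠ s ∧ α (α s) ≠ s ∧ α (α s) ≠ α s := by
  have hne : α s ≠ s := fun e => hs1 (h.fpf s hs e)
  refine ⟨?_, ?_, hne, ?_, ?_⟩
  · exact fun e => hs1 ((map_eq_one_iff α α.injective).mp e)
  · exact fun e => hs1 ((map_eq_one_iff α α.injective).mp ((map_eq_one_iff α α.injective).mp e))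
  · intro e
    apply hne
    conv_rhs => rw [← h.cube s]
    rw [e]
  · intro e
    exact hne (α.injective e)

theorem Hyp.inv4 [Finite T] (h : Hyp T α τ) {s t : T} (hs1 : s ≠ 1) (hs : s ∈ fx τ) (ht : t ∈ fx τ) :
    t = 1 ∨ t = s ∨ t = α s ∨ t = α (α s) := by
  classical
  by_contra hcon
  push Not at hcon
  obtain ⟨c1, c2, c3, c4⟩ := hcon
  obtain ⟨d1, d2, d3, d4, d5⟩ := h.distinct hs1 hs
  have hcard : ({1, s, α s, α (α s), t} : Finset T).card = 5 := by
    rw [Finset.card_insert_of_notMem, Finset.card_insert_of_notMem, Finset.card_insert_of_notMem,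
      Finset.card_insert_of_notMem, Finset.card_singleton]
    · simp only [Finset.mem_singleton]; exact c4.symm
    · simp only [Finset.mem_insert, Finset.mem_singleton, not_or]
      exact ⟨d5.symm, c3.symm⟩
    · simp only [Finset.mem_insert, Finset.mem_singleton, not_or]
      exact ⟨d3.symm, d4.symm, c2.symm⟩
    · simp only [Finset.mem_insert, Finset.mem_singleton, not_or]
      exact ⟨hs1.symm, d1.symm, d2.symm, c1.symm⟩
  have hsub : ((({1, s, α s, α (α s), t} : Finset T) : Set T)) ⊆ (fx τ : Set T) := by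
    intro x hx
    simp only [Finset.coe_insert, Finset.coe_singleton, Set.mem_insert_iff, Set.mem_singleton_iff] at hx
    rcases hx with rfl | rfl | rfl | rfl | rfl
    · exact one_mem _
    · exact hs
    · exact h.alpha_fx hs
    · exact h.alpha_fx (h.alpha_fx hs)
    · exact ht
  have h1 := Set.ncard_le_ncard hsub (Set.toFinite _)
  rw [Set.ncard_coe_finset, hcard] at h1
  have h2 : (fx τ : Set T).ncard = Nat.card (fx τ) := rfl
  have := h.le4
  omega

theorem Hyp.card_fx [Finite T] (h : Hyp T α τ) {s : T} (hs1 : s ≠ 1) (hs : s ∈ fx τ) :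
    Nat.card (fx τ) = 4 := by
  classical
  apply le_antisymm h.le4
  obtain ⟨d1, d2, d3, d4, d5⟩ := h.distinct hs1 hs
  have hcard : ({1, s, α s, α (α s)} : Finset T).card = 4 := by
    rw [Finset.card_insert_of_notMem, Finset.card_insert_of_notMem, Finset.card_insert_of_notMem,
      Finset.card_singleton]
    · simp only [Finset.mem_singleton]
      exact d5.symm
    · simp only [Finset.mem_insert, Finset.mem_singleton, not_or]
      exact ⟨d3.symm, d4.symm⟩
    · simp only [Finset.mem_insert, Finset.mem_singleton, not_or]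
      exact ⟨hs1.symm, d1.symm, d2.symm⟩
  have hsub : ((({1, s, α s, α (α s)} : Finset T) : Set T)) ⊆ (fx τ : Set T) := by
    intro x hx
    simp only [Finset.coe_insert, Finset.coe_singleton, Set.mem_insert_iff, Set.mem_singleton_iff] at hx
    rcases hx with rfl | rfl | rfl | rfl
    · exact one_mem _
    · exact hs
    · exact h.alpha_fx hs
    · exact h.alpha_fx (h.alpha_fx hs)
  have h1 := Set.ncard_le_ncard hsub (Set.toFinite _)
  rw [Set.ncard_coe_finset, hcard] at h1
  exact h1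

theorem Hyp.exists_fx [Finite T] [Nontrivial T] (h : Hyp T α τ) : ∃ s : T, s ≠ 1 ∧ s ∈ fx τ := by
  by_contra hcon
  push Not at hcon
  obtain ⟨x, hx⟩ := exists_ne (1 : T)
  exact hx (fixfree h.two τ h.sq (fun q hq => by
    by_contra hq1
    exact hcon q hq1 hq) x)

theorem Hyp.tau_D (h : Hyp T α τ) (x : T) : τ (x⁻¹ * τ x) = (x⁻¹ * τ x)⁻¹ := by
  rw [map_mul, map_inv, h.sq]; group

theorem D_eq {x y : T} (hxy : x⁻¹ * τ x = y⁻¹ * τ y) : y * x⁻¹ ∈ fx τ := by
  rw [mem_fx, map_mul, map_inv]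
  calc τ y * (τ x)⁻¹ = y * (y⁻¹ * τ y) * (τ x)⁻¹ := by group
    _ = y * (x⁻¹ * τ x) * (τ x)⁻¹ := by rw [hxy]
    _ = y * x⁻¹ := by group

theorem Hyp.alpha_D (h : Hyp T α τ) (x : T) : α (x⁻¹ * τ x) = (α x)⁻¹ * τ (α x) := by
  rw [map_mul, map_inv, h.comm]

theorem D_one {x : T} (hx : x⁻¹ * τ x = 1) : x ∈ fx τ := by
  rw [mem_fx]
  exact (inv_mul_eq_one.mp hx).symm

theorem mul_self_center {x y : T} (hx : x ∈ Subgroup.center T) : x * y * (x * y) = x * x * (y * y) := by
  have h1 := Subgroup.mem_center_iff.mp hx y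
  calc x * y * (x * y) = x * (y * x) * y := by group
    _ = x * (x * y) * y := by rw [h1]
    _ = x * x * (y * y) := by group

/-- the central elements with trivial square -/
def omC (T : Type*) [Group T] : Subgroup T where
  carrier := {x | x ∈ Subgroup.center T ∧ x * x = 1}
  one_mem' := ⟨one_mem _, one_mul 1⟩
  mul_mem' := by
    rintro a b ⟨ha, ha2⟩ ⟨hb, hb2⟩
    refine ⟨mul_mem ha hb, ?_⟩
    rw [mul_self_center ha, ha2, hb2, one_mul]
  inv_mem' := by
    rintro a ⟨ha, ha2⟩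
    refine ⟨inv_mem ha, ?_⟩
    rw [← _root_.mul_inv_rev, ha2, inv_one]

theorem mem_omC {x : T} : x ∈ omC T ↔ x ∈ Subgroup.center T ∧ x * x = 1 := Iff.rfl

theorem omC_normal : (omC T).Normal := by
  refine ⟨fun n hn g => ?_⟩
  rw [Subgroup.mem_center_iff.mp hn.1 g, mul_inv_cancel_right]
  exact hn

theorem aut_center (β : MulAut T) {z : T} (hz : z ∈ Subgroup.center T) : β z ∈ Subgroup.center T := by
  rw [Subgroup.mem_center_iff] at *
  intro g
  obtain ⟨g, rfl⟩ := β.surjective g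
  rw [← map_mul, ← map_mul, hz]

theorem aut_omC (β : MulAut T) {z : T} (hz : z ∈ omC T) : β z ∈ omC T := by
  refine ⟨aut_center β hz.1, ?_⟩
  rw [← map_mul, hz.2, map_one]

theorem Hyp.fx_le_omC (h : Hyp T α τ) : fx τ ≤ omC T := fun x hx => ⟨h.cent hx, h.exp x hx⟩

/-- a central involution outside the fixed points: the group is elementary abelian of order 16 -/
theorem Hyp.elem [Finite T] (h : Hyp T α τ) {s : T} (hsc : s ∈ Subgroup.center T) (hs2 : s * s = 1)
    (hs : s ∉ fx τ) : Nat.card T = 16 ∧ ∀ x : T, x * x = 1 := by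
  have hn : (omC T).Normal := omC_normal
  have hsO : s ∈ omC T := ⟨hsc, hs2⟩
  have hfx : ∀ x ∈ omC T, τ x = x⁻¹ → x ∈ fx τ := by
    intro x hx hx2
    rw [mem_fx, hx2]
    exact inv_eq_of_mul_eq_one_left hx.2
  have hDs : s⁻¹ * τ s ∈ omC T := (omC T).mul_mem ((omC T).inv_mem hsO) (aut_omC τ hsO)
  have hDs1 : s⁻¹ * τ s ≠ 1 := fun e => hs (D_one e)
  have hDsf : s⁻¹ * τ s ∈ fx τ := hfx _ hDs (h.tau_D s)
  have key : ∀ t ∈ fx τ, ∃ y ∈ omC T, t = y⁻¹ * τ y := by
    intro t ht
    rcases h.inv4 hDs1 hDsf ht with rfl | rfl | rfl | rfl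
    · exact ⟨1, one_mem _, by rw [map_one, inv_one, one_mul]⟩
    · exact ⟨s, hsO, rfl⟩
    · exact ⟨α s, aut_omC α hsO, h.alpha_D s⟩
    · exact ⟨α (α s), aut_omC α (aut_omC α hsO), by rw [h.alpha_D, h.alpha_D]⟩
  have htop : omC T = ⊤ := by
    apply top_of_fixfree h.two (omC T) τ h.sq (fun x hx => aut_omC τ hx)
    intro x hx
    obtain ⟨y, hy, hxy⟩ := key _ (hfx _ hx (h.tau_D x))
    have h1 := h.fx_le_omC (D_eq hxy)
    have h2 : x = (y * x⁻¹)⁻¹ * y := by group
    rw [h2]
    exact (omC T).mul_mem ((omC T).inv_mem h1) hy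
  have hall : ∀ x : T, x ∈ omC T := fun x => by rw [htop]; exact Subgroup.mem_top x
  refine ⟨?_, fun x => (hall x).2⟩
  have hcomm : ∀ x y : T, x * y = y * x := fun x y => (Subgroup.mem_center_iff.mp (hall x).1 y).symm
  let D : T →* T :=
    { toFun := fun x => x⁻¹ * τ x
      map_one' := by rw [map_one, inv_one, one_mul]
      map_mul' := by
        intro x y
        rw [map_mul, _root_.mul_inv_rev]
        calc y⁻¹ * x⁻¹ * (τ x * τ y) = y⁻¹ * (x⁻¹ * τ x) * τ y := by group
          _ = (x⁻¹ * τ x) * y⁻¹ * τ y := by rw [hcomm y⁻¹]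
          _ = x⁻¹ * τ x * (y⁻¹ * τ y) := by group }
  have hker : D.ker = fx τ := by
    ext x
    rw [MonoidHom.mem_ker]
    constructor
    · intro hx; exact D_one hx
    · intro hx
      show x⁻¹ * τ x = 1
      rw [mem_fx.mp hx, inv_mul_cancel]
  have hran : D.range = fx τ := by
    ext x
    constructor
    · rintro ⟨y, rfl⟩
      exact hfx _ (hall _) (h.tau_D y)
    · intro hx
      obtain ⟨y, -, hy⟩ := key x hx
      exact ⟨y, hy.symm⟩
  have h1 := Subgroup.card_eq_card_quotient_mul_card_subgroup D.ker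
  have h2 : Nat.card (T ⧸ D.ker) = Nat.card D.range :=
    Nat.card_congr (QuotientGroup.quotientKerEquivRange D).toEquiv
  rw [h2, hker, hran, h.card_fx hDs1 hDsf] at h1
  exact h1

end H54.L34
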