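import Mathlib
import Cfsg.Agent.Lib.H54.L34c

/-!
The nonabelian case with an involution outside the fixed point group.
-/

set_option autoImplicit false
set_option linter.unusedSectionVars false

open scoped commutatorElement

namespace H54.L34

open H26.FpfThree H26.RankTwoAut H26.RankTwoAut2

variable {T : Type*} [Group T] {α τ : MulAut T}

/-- in the nonabelian case the center is inverted -/
theorem Hyp.center_inv [Finite T] (h : Hyp T α τ) (hna : Subgroup.center T ≠ ⊤) {z : T}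
    (hz : z ∈ Subgroup.center T) : τ z = z⁻¹ := by
  by_contra hcon
  apply hna
  set Z := Subgroup.center T with hZ
  have hcm : ∀ {x : T} (y : T), x ∈ Z → y * x = x * y := fun y hx => Subgroup.mem_center_iff.mp hx y
  let N : Z →* T :=
    { toFun := fun x => (x : T) * τ x
      map_one' := by rw [OneMemClass.coe_one, map_one, one_mul]
      map_mul' := by
        intro x y
        rw [Subgroup.coe_mul, map_mul]
        calc (x : T) * y * (τ x * τ y) = (x : T) * (y * τ x) * τ y := by group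
          _ = (x : T) * (τ x * y) * τ y := by rw [hcm (y : T) (aut_center τ x.2)]
          _ = (x : T) * τ x * (y * τ y) := by group }
  let D : Z →* T :=
    { toFun := fun x => (x : T)⁻¹ * τ x
      map_one' := by rw [OneMemClass.coe_one, map_one, inv_one, one_mul]
      map_mul' := by
        intro x y
        rw [Subgroup.coe_mul, map_mul, _root_.mul_inv_rev]
        have h1 : (x : T)⁻¹ * τ x ∈ Z := Z.mul_mem (Z.inv_mem x.2) (aut_center τ x.2)
        calc (y : T)⁻¹ * (x : T)⁻¹ * (τ x * τ y) = (y : T)⁻¹ * ((x : T)⁻¹ * τ x) * τ y := by group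
          _ = ((x : T)⁻¹ * τ x) * (y : T)⁻¹ * τ y := by rw [hcm _ h1]
          _ = (x : T)⁻¹ * τ x * ((y : T)⁻¹ * τ y) := by group }
  have hNf : ∀ x : Z, N x ∈ fx τ := by
    intro x
    rw [mem_fx]
    show τ ((x : T) * τ x) = (x : T) * τ x
    rw [map_mul, h.sq, hcm _ (aut_center τ x.2)]
  have hN1 : N ⟨z, hz⟩ ≠ 1 := by
    intro e
    apply hcon
    exact (inv_eq_of_mul_eq_one_right e).symm
  have hNα : ∀ x : Z, α (N x) = N ⟨α x, aut_center α x.2⟩ := by
    intro x
    show α ((x : T) * τ x) = α x * τ (α x)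
    rw [map_mul, h.comm]
  have hranN : N.range = fx τ := by
    ext x
    constructor
    · rintro ⟨y, rfl⟩; exact hNf y
    · intro hx
      rcases h.inv4 hN1 (hNf _) hx with rfl | rfl | rfl | rfl
      · exact one_mem _
      · exact ⟨_, rfl⟩
      · exact ⟨_, (hNα _).symm⟩
      · rw [hNα, hNα]; exact ⟨_, rfl⟩
  have hkerD : Nat.card D.ker = Nat.card (fx τ) := by
    have h1 : D.ker = (fx τ).subgroupOf Z := by
      ext x
      rw [MonoidHom.mem_ker, Subgroup.mem_subgroupOf]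
      constructor
      · intro hx; exact D_one hx
      · intro hx
        show (x : T)⁻¹ * τ x = 1
        rw [mem_fx.mp hx, inv_mul_cancel]
    rw [h1]
    exact Nat.card_congr (Subgroup.subgroupOfEquivOfLe h.cent).toEquiv
  have c1 := Subgroup.card_eq_card_quotient_mul_card_subgroup D.ker
  have c2 := Subgroup.card_eq_card_quotient_mul_card_subgroup N.ker
  have c3 : Nat.card (Z ⧸ D.ker) = Nat.card D.range :=
    Nat.card_congr (QuotientGroup.quotientKerEquivRange D).toEquiv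
  have c4 : Nat.card (Z ⧸ N.ker) = Nat.card N.range :=
    Nat.card_congr (QuotientGroup.quotientKerEquivRange N).toEquiv
  rw [c3, hkerD] at c1
  rw [c4, hranN] at c2
  have c5 : Nat.card D.range = Nat.card N.ker := by
    have h1 : 0 < Nat.card (fx τ) := Nat.card_pos
    have h2 : Nat.card D.range * Nat.card (fx τ) = Nat.card N.ker * Nat.card (fx τ) := by
      rw [← c1, c2, mul_comm]
    exact Nat.eq_of_mul_eq_mul_right h1 h2
  have hle : D.range ≤ N.ker.map Z.subtype := by
    rintro _ ⟨x, rfl⟩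
    have h1 : (x : T)⁻¹ * τ x ∈ Z := Z.mul_mem (Z.inv_mem x.2) (aut_center τ x.2)
    refine ⟨⟨(x : T)⁻¹ * τ x, h1⟩, ?_, rfl⟩
    show (x : T)⁻¹ * τ x * τ ((x : T)⁻¹ * τ x) = 1
    rw [h.tau_D, mul_inv_cancel]
  have heq : D.range = N.ker.map Z.subtype := by
    apply Subgroup.eq_of_le_of_card_ge hle
    rw [c5]
    exact Nat.card_le_card_of_surjective _ (N.ker.equivMapOfInjective Z.subtype
      Z.subtype_injective).surjective
  have hZn : Z.Normal := by rw [hZ]; infer_instance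
  apply top_of_fixfree h.two Z τ h.sq (fun x hx => aut_center τ hx)
  intro x hx
  have h1 : x⁻¹ * τ x ∈ N.ker.map Z.subtype := by
    refine ⟨⟨_, hx⟩, ?_, rfl⟩
    show x⁻¹ * τ x * τ (x⁻¹ * τ x) = 1
    rw [h.tau_D, mul_inv_cancel]
  rw [← heq] at h1
  obtain ⟨y, hy⟩ := h1
  have h2 := h.cent (D_eq (x := x) (y := (y : T)) hy.symm)
  have h3 : x = ((y : T) * x⁻¹)⁻¹ * y := by group
  rw [h3]
  exact Z.mul_mem (Z.inv_mem h2) y.2

/-- the elements moved by a central element -/
def mv (τ : MulAut T) : Subgroup T where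
  carrier := {y | y⁻¹ * τ y ∈ Subgroup.center T}
  one_mem' := by
    rw [Set.mem_ofPred_eq, map_one, inv_one, one_mul]; exact one_mem _
  mul_mem' := by
    intro x y hx hy
    rw [Set.mem_ofPred_eq] at *
    rw [map_mul, _root_.mul_inv_rev]
    have : y⁻¹ * x⁻¹ * (τ x * τ y) = (x⁻¹ * τ x) * (y⁻¹ * τ y) := by
      calc y⁻¹ * x⁻¹ * (τ x * τ y) = y⁻¹ * (x⁻¹ * τ x) * τ y := by group
        _ = (x⁻¹ * τ x) * y⁻¹ * τ y := by rw [Subgroup.mem_center_iff.mp hx y⁻¹]
        _ = x⁻¹ * τ x * (y⁻¹ * τ y) := by group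
    rw [this]
    exact mul_mem hx hy
  inv_mem' := by
    intro x hx
    rw [Set.mem_ofPred_eq] at *
    rw [map_inv, inv_inv]
    have h1 : x * (τ x)⁻¹ = (x⁻¹ * τ x)⁻¹ := by
      have h2 := Subgroup.mem_center_iff.mp (inv_mem hx) x
      calc x * (τ x)⁻¹ = x * (x⁻¹ * τ x)⁻¹ * x⁻¹ := by group
        _ = (x⁻¹ * τ x)⁻¹ * x * x⁻¹ := by rw [h2]
        _ = (x⁻¹ * τ x)⁻¹ := by group
    rw [h1]
    exact inv_mem hx

theorem mem_mv {y : T} : y ∈ mv τ ↔ y⁻¹ * τ y ∈ Subgroup.center T := Iff.rfl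

theorem D_mul {x y : T} (hx : x⁻¹ * τ x ∈ Subgroup.center T) :
    (x * y)⁻¹ * τ (x * y) = (x⁻¹ * τ x) * (y⁻¹ * τ y) := by
  rw [map_mul, _root_.mul_inv_rev]
  calc y⁻¹ * x⁻¹ * (τ x * τ y) = y⁻¹ * (x⁻¹ * τ x) * τ y := by group
    _ = (x⁻¹ * τ x) * y⁻¹ * τ y := by rw [Subgroup.mem_center_iff.mp hx y⁻¹]
    _ = x⁻¹ * τ x * (y⁻¹ * τ y) := by group

/-- the induced automorphisms of the central quotient satisfy the hypotheses -/
theorem Hyp.quot [Finite T] (h : Hyp T α τ) (hinv : ∀ z ∈ Subgroup.center T, τ z = z⁻¹)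
    {α' τ' : MulAut (T ⧸ Subgroup.center T)}
    (hα' : ∀ x : T, α' (QuotientGroup.mk x) = QuotientGroup.mk (α x))
    (hτ' : ∀ x : T, τ' (QuotientGroup.mk x) = QuotientGroup.mk (τ x)) :
    Hyp (T ⧸ Subgroup.center T) α' τ' := by
  have hf := h.fpf3
  have hmem : ∀ x : T, (QuotientGroup.mk x : T ⧸ Subgroup.center T) ∈ fx τ' ↔ x ∈ mv τ := by
    intro x
    rw [mem_fx, hτ', mem_mv, eq_comm, QuotientGroup.eq]
  have hab : ∀ a b : T ⧸ Subgroup.center T, a * b = b * a := by
    intro a b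
    obtain ⟨a, rfl⟩ := QuotientGroup.mk_surjective a
    obtain ⟨b, rfl⟩ := QuotientGroup.mk_surjective b
    rw [← QuotientGroup.mk_mul, ← QuotientGroup.mk_mul, QuotientGroup.eq]
    have h1 := hf.comm_mem_center b⁻¹ a⁻¹
    rw [commutatorElement_def] at h1
    have h2 : (a * b)⁻¹ * (b * a) = b⁻¹ * a⁻¹ * b⁻¹⁻¹ * a⁻¹⁻¹ := by group
    rw [h2]; exact h1
  refine ⟨h.two.to_quotient _, ?_, ?_, ?_, ?_, ?_, ?_, ?_⟩
  · intro q
    obtain ⟨x, rfl⟩ := QuotientGroup.mk_surjective q
    rw [hα', hα', hα', h.cube]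
  · intro q
    obtain ⟨x, rfl⟩ := QuotientGroup.mk_surjective q
    rw [hτ', hτ', h.sq]
  · intro q
    obtain ⟨x, rfl⟩ := QuotientGroup.mk_surjective q
    rw [hτ', hα', hα', hτ', h.comm]
  · have h1 : (fx τ').comap (QuotientGroup.mk' (Subgroup.center T)) = mv τ := by
      ext x
      rw [Subgroup.mem_comap]
      exact hmem x
    have h2 := H1.Cores.card_comap_mk' (Subgroup.center T) (fx τ')
    rw [h1] at h2
    let D : mv τ →* T :=
      { toFun := fun x => (x : T)⁻¹ * τ x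
        map_one' := by rw [OneMemClass.coe_one, map_one, inv_one, one_mul]
        map_mul' := fun x y => D_mul x.2 }
    have c1 := Subgroup.card_eq_card_quotient_mul_card_subgroup D.ker
    have c3 : Nat.card (mv τ ⧸ D.ker) = Nat.card D.range :=
      Nat.card_congr (QuotientGroup.quotientKerEquivRange D).toEquiv
    have c4 : Nat.card D.range ≤ Nat.card (Subgroup.center T) := by
      apply Subgroup.card_le_of_le
      rintro _ ⟨x, rfl⟩
      exact x.2
    have c5 : Nat.card D.ker ≤ 4 := by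
      refine le_trans ?_ h.le4
      have hm : ∀ x : D.ker, ((x : mv τ) : T) ∈ fx τ := fun x => D_one x.2
      apply Nat.card_le_card_of_injective (fun x : D.ker => (⟨((x : mv τ) : T), hm x⟩ : fx τ))
      intro x y hxy
      exact Subtype.ext (Subtype.ext (congrArg (fun a : fx τ => (a : T)) hxy))
    rw [c3] at c1
    have c6 : Nat.card (Subgroup.center T) * Nat.card (fx τ') ≤ Nat.card (Subgroup.center T) * 4 := by
      rw [← h2, c1]
      exact Nat.mul_le_mul c4 c5
    exact Nat.le_of_mul_le_mul_left c6 Nat.card_pos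
  · intro q _
    rw [Subgroup.mem_center_iff]
    intro g
    exact hab _ _
  · intro q hq
    obtain ⟨y, rfl⟩ := QuotientGroup.mk_surjective q
    rw [hmem] at hq
    rw [← QuotientGroup.mk_mul, QuotientGroup.eq_one_iff]
    have h1 : (y * y)⁻¹ * τ (y * y) = ((y⁻¹ * τ y)⁻¹)⁻¹ * τ ((y⁻¹ * τ y)⁻¹) := by
      rw [D_mul hq, hinv _ (inv_mem hq), inv_inv]
    have h2 := h.cent (D_eq h1)
    have h3 : y * y = ((y⁻¹ * τ y)⁻¹ * (y * y)⁻¹)⁻¹ * (y⁻¹ * τ y)⁻¹ := by
      generalize (y⁻¹ * τ y)⁻¹ = c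
      generalize y * y = d
      group
    rw [h3]
    exact mul_mem (inv_mem h2) (inv_mem hq)
  · intro q _ hq
    obtain ⟨x, rfl⟩ := QuotientGroup.mk_surjective q
    rw [hα'] at hq
    rw [QuotientGroup.eq_one_iff]
    exact mem_of hf (fun n hn => aut_center α hn) (QuotientGroup.eq.mp hq)

end H54.L34
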