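import Mathlib
import Cfsg.Agent.Lib.H54.L34d

/-!
The main theorem: structure of the `2`-groups with `Hyp`.
-/

set_option autoImplicit false
set_option linter.unusedSectionVars false

open scoped commutatorElement

namespace H54.L34

open H26.FpfThree H26.RankTwoAut H26.RankTwoAut2

variable {T : Type*} [Group T] {α τ : MulAut T}

/-- all involutions fixed: the setup of `RankTwoAut` -/
theorem Hyp.setup [Finite T] (h : Hyp T α τ) (hall : ∀ x : T, x * x = 1 → x ∈ fx τ) : Setup T α :=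
  ⟨h.fpf3, h.two, fun _ _ hs1 hs ht => h.inv4 hs1 (hall _ hs) (hall _ ht)⟩

/-- the central quotient is elementary of order 16 -/
theorem Hyp.quot_elem [Finite T] (h : Hyp T α τ) (hna : Subgroup.center T ≠ ⊤)
    {α' τ' : MulAut (T ⧸ Subgroup.center T)}
    (hα' : ∀ x : T, α' (QuotientGroup.mk x) = QuotientGroup.mk (α x))
    (h' : Hyp (T ⧸ Subgroup.center T) α' τ') :
    Nat.card (T ⧸ Subgroup.center T) = 16 ∧ ∀ q : T ⧸ Subgroup.center T, q * q = 1 := by
  have hf := h.fpf3
  have hab : ∀ a b : T ⧸ Subgroup.center T, a * b = b * a := by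
    intro a b
    obtain ⟨a, rfl⟩ := QuotientGroup.mk_surjective a
    obtain ⟨b, rfl⟩ := QuotientGroup.mk_surjective b
    rw [← QuotientGroup.mk_mul, ← QuotientGroup.mk_mul, QuotientGroup.eq]
    have h1 := hf.comm_mem_center b⁻¹ a⁻¹
    rw [commutatorElement_def] at h1
    have h2 : (a * b)⁻¹ * (b * a) = b⁻¹ * a⁻¹ * b⁻¹⁻¹ * a⁻¹⁻¹ := by group
    rw [h2]; exact h1
  by_contra hcon
  have hall : ∀ q : T ⧸ Subgroup.center T, q * q = 1 → q ∈ fx τ' := by
    intro q hq
    by_contra hq2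
    exact hcon (h'.elem (Subgroup.mem_center_iff.mpr fun g => hab _ _) hq hq2)
  obtain ⟨y, hy⟩ := abelian_gen (h'.setup hall) hab
  obtain ⟨x, rfl⟩ := QuotientGroup.mk_surjective y
  apply hna
  have hxa := hf.comm_self x
  have hform : ∀ t : T, ∃ i j : ℤ, ∃ z ∈ Subgroup.center T, t = x ^ i * (α x) ^ j * z := by
    intro t
    obtain ⟨i, j, hij⟩ := hy (QuotientGroup.mk t)
    rw [hα'] at hij
    refine ⟨i, j, (x ^ i * (α x) ^ j)⁻¹ * t, ?_, by group⟩
    rw [← QuotientGroup.eq, QuotientGroup.mk_mul, QuotientGroup.mk_zpow, QuotientGroup.mk_zpow]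
    exact hij.symm
  have hxc : x ∈ Subgroup.center T := by
    rw [Subgroup.mem_center_iff]
    intro t
    obtain ⟨i, j, z, hz, rfl⟩ := hform t
    have c1 : Commute x (x ^ i) := (Commute.refl x).zpow_right i
    have c2 : Commute x ((α x) ^ j) := Commute.zpow_right (show Commute x (α x) from hxa) j
    have c3 : Commute x z := Subgroup.mem_center_iff.mp hz x
    exact ((c1.mul_right c2).mul_right c3).symm
  rw [eq_top_iff]
  intro t _
  obtain ⟨i, j, z, hz, rfl⟩ := hform t
  exact mul_mem (mul_mem (zpow_mem hxc i) (zpow_mem (aut_center α hxc) j)) hz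

theorem comm_sq_one [Finite T] (hf : Fpf3 α) {x y : T} (hx : x * x ∈ Subgroup.center T) :
    ⁅x, y⁆ * ⁅x, y⁆ = 1 := by
  rw [← comm_mul_left hf]
  exact comm_of_center hx y

/-- generators in the nonabelian case with an involution outside the fixed points -/
theorem Hyp.genL [Finite T] (h : Hyp T α τ) (hna : Subgroup.center T ≠ ⊤)
    (hcen : ∀ x ∈ Subgroup.center T, x * x = 1 → x ∈ fx τ) {s : T} (hs2 : s * s = 1) (hs : s ∉ fx τ) :
    ∃ u1 u2 v1 v2 e1 e2 : T, GenL T u1 u2 v1 v2 e1 e2 := by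
  have hf := h.fpf3
  have hinv : ∀ z ∈ Subgroup.center T, τ z = z⁻¹ := fun z hz => h.center_inv hna hz
  obtain ⟨α', hα'⟩ := exists_quot (Subgroup.center T) α (fun x => ⟨fun hx => aut_center α hx, fun hx => by
    have := aut_center α (aut_center α hx)
    rwa [h.cube] at this⟩)
  obtain ⟨τ', hτ'⟩ := exists_quot (Subgroup.center T) τ (fun x => ⟨fun hx => aut_center τ hx, fun hx => by
    have := aut_center τ hx
    rwa [h.sq] at this⟩)
  have h' := h.quot hinv hα' hτ'
  obtain ⟨hc16, hel⟩ := h.quot_elem hna hα' h'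
  have hsqc : ∀ x : T, x * x ∈ Subgroup.center T := by
    intro x
    rw [← QuotientGroup.eq_one_iff, QuotientGroup.mk_mul]
    exact hel _
  have hmem : ∀ x : T, (QuotientGroup.mk x : T ⧸ Subgroup.center T) ∈ fx τ' ↔ x ∈ mv τ := by
    intro x
    rw [mem_fx, hτ', mem_mv, eq_comm, QuotientGroup.eq]
  have hmc : ∀ x : T, (QuotientGroup.mk x : T ⧸ Subgroup.center T) = 1 ↔ x ∈ Subgroup.center T :=
    fun x => QuotientGroup.eq_one_iff x
  have hZY : ∀ z ∈ Subgroup.center T, z ∈ mv τ := fun z hz =>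
    mem_mv.mpr (mul_mem (inv_mem hz) (aut_center τ hz))
  -- `D x` always lies in `Y`
  have hDY : ∀ x : T, x⁻¹ * τ x ∈ mv τ := by
    intro x
    rw [mem_mv, h.tau_D, ← _root_.mul_inv_rev]
    exact inv_mem (hsqc _)
  -- classification of the elements of `Y`
  have hY4 : ∀ {a y : T}, a ∈ mv τ → a ∉ Subgroup.center T → y ∈ mv τ →
      y ∈ Subgroup.center T ∨ a⁻¹ * y ∈ Subgroup.center T ∨ (α a)⁻¹ * y ∈ Subgroup.center T ∨
        (α (α a))⁻¹ * y ∈ Subgroup.center T := by
    intro a y ha ha1 hy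
    rcases h'.inv4 (s := QuotientGroup.mk a) (t := QuotientGroup.mk y) (fun e => ha1 ((hmc a).mp e))
      ((hmem a).mpr ha) ((hmem y).mpr hy) with e | e | e | e
    · exact Or.inl ((hmc y).mp e)
    · exact Or.inr (Or.inl (QuotientGroup.eq.mp e.symm))
    · rw [hα'] at e
      exact Or.inr (Or.inr (Or.inl (QuotientGroup.eq.mp e.symm)))
    · rw [hα', hα'] at e
      exact Or.inr (Or.inr (Or.inr (QuotientGroup.eq.mp e.symm)))
  have hmvα : ∀ {x : T}, x ∈ mv τ → α x ∈ mv τ := by
    intro x hx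
    rw [mem_mv, ← h.alpha_D]
    exact aut_center α hx
  have hαc : ∀ {x : T}, α x ∈ Subgroup.center T → x ∈ Subgroup.center T := by
    intro x hx
    have := aut_center α (aut_center α hx)
    rwa [h.cube] at this
  -- Claim A
  obtain ⟨x0, hx0⟩ : ∃ x : T, x ∉ mv τ := by
    by_contra hcon
    push Not at hcon
    have h1 : fx τ' = ⊤ := by
      rw [eq_top_iff]
      intro q _
      obtain ⟨x, rfl⟩ := QuotientGroup.mk_surjective q
      exact (hmem x).mpr (hcon x)
    have h2 := h'.le4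
    rw [h1, Subgroup.card_top, hc16] at h2
    omega
  have hA : ∀ y ∈ mv τ, y * y = 1 → y ∈ Subgroup.center T := by
    intro y hy hy2
    by_contra hyc
    have hfin' : ∀ w z : T, w * w = 1 → z ∈ Subgroup.center T → x0⁻¹ * τ x0 = w * z → False := by
      intro w z hw hz h1
      have h2 := h.tau_D x0
      rw [h1, map_mul, hinv z hz, _root_.mul_inv_rev] at h2
      have hw' : w⁻¹ = w := inv_eq_of_mul_eq_one_left hw
      rw [hw', Subgroup.mem_center_iff.mp (inv_mem hz) (τ w)] at h2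
      have h3 : τ w = w := mul_left_cancel h2
      apply hx0
      rw [mem_mv, h1]
      exact mul_mem (h.cent h3) hz
    have hfin : ∀ w : T, w * w = 1 → w⁻¹ * (x0⁻¹ * τ x0) ∈ Subgroup.center T → False :=
      fun w hw hz => hfin' w _ hw hz (by group)
    rcases hY4 hy hyc (hDY x0) with e | e | e | e
    · exact hx0 e
    · exact hfin y hy2 e
    · exact hfin (α y) (by rw [← map_mul, hy2, map_one]) e
    · exact hfin (α (α y)) (by rw [← map_mul, ← map_mul, hy2, map_one, map_one]) e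
  -- the element `c`
  have hsY : s ∉ mv τ := fun hsY => hs (hcen s (hA s hsY hs2) hs2)
  set c := s⁻¹ * τ s with hc
  have hcc : c ∉ Subgroup.center T := hsY
  have hcY : c ∈ mv τ := hDY s
  have hc2 : c * c ≠ 1 := fun e => hcc (hA c hcY e)
  have hs' : s⁻¹ = s := inv_eq_of_mul_eq_one_left hs2
  have hr2 : τ s * τ s = 1 := by rw [← map_mul, hs2, map_one]
  have hr' : (τ s)⁻¹ = τ s := inv_eq_of_mul_eq_one_left hr2
  have hcomm : ⁅s, τ s⁆ = c * c := by
    rw [commutatorElement_def, hr', hc, hs']; group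
  have hcf : c * c ∈ fx τ := by
    apply hcen _ (hsqc c)
    rw [← hcomm]
    exact comm_sq_one hf (by rw [hs2]; exact one_mem _)
  -- the center is the fixed point group
  have hZ2 : ∀ z ∈ Subgroup.center T, z * z = 1 := by
    intro z hz
    by_contra hz2
    obtain ⟨k, hk1, hk2⟩ := exists_inv h.two hz2
    set w := z ^ (2 ^ k) with hw
    have hwc : w ∈ Subgroup.center T := pow_mem hz _
    have hww : (z * z) ^ (2 ^ k) = w * w := (Commute.refl z).mul_pow _
    rw [hww] at hk1 hk2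
    have hwf : w * w ∈ fx τ := hcen _ (mul_mem hwc hwc) hk2
    have hfin : ∀ u ∈ Subgroup.center T, c * c = u * u → False := by
      intro u hu hcu
      have h1 : (u⁻¹ * c) * (u⁻¹ * c) = 1 := by
        rw [mul_self_center (inv_mem hu), hcu]; group
      have h2 : u⁻¹ * c ∈ mv τ := (mv τ).mul_mem (hZY _ (inv_mem hu)) hcY
      have h3 := hA _ h2 h1
      apply hcc
      have h4 : c = u * (u⁻¹ * c) := by group
      rw [h4]
      exact mul_mem hu h3
    rcases h.inv4 hk1 hwf hcf with e | e | e | e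
    · exact hc2 e
    · exact hfin w hwc e
    · exact hfin (α w) (aut_center α hwc) (by rw [e, map_mul])
    · exact hfin (α (α w)) (aut_center α (aut_center α hwc)) (by rw [e, map_mul, map_mul])
  have hZV : Subgroup.center T = fx τ := le_antisymm (fun z hz => hcen z hz (hZ2 z hz)) h.cent
  have hcard : Nat.card T = 64 := by
    rw [Subgroup.card_eq_card_quotient_mul_card_subgroup (Subgroup.center T), hc16, hZV,
      h.card_fx hc2 hcf]
  have hinv2 : ∀ z ∈ Subgroup.center T, z⁻¹ = z := fun z hz => inv_eq_of_mul_eq_one_left (hZ2 z hz)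
  have hααe : ∀ z ∈ Subgroup.center T, α (α z) = z * α z := by
    intro z hz
    rw [hf.alpha_alpha]
    exact hinv2 _ (mul_mem hz (aut_center α hz))
  have hec : ⁅s, τ s⁆ ∈ Subgroup.center T := hf.comm_mem_center s (τ s)
  refine ⟨s, α s, τ s, α (τ s), ⁅s, τ s⁆, α ⁅s, τ s⁆, hcard, ?_, hec, aut_center α hec, hZ2 _ hec,
    hZ2 _ (aut_center α hec), hs2, ?_, hr2, ?_, ?_, ?_, rfl, ?_, ?_, ?_⟩
  · rw [eq_top_iff]
    set K := Subgroup.closure ({s, α s, τ s, α (τ s), ⁅s, τ s⁆, α ⁅s, τ s⁆} : Set T) with hK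
    have m1 : s ∈ K := Subgroup.subset_closure (by simp)
    have m2 : α s ∈ K := Subgroup.subset_closure (by simp)
    have m3 : τ s ∈ K := Subgroup.subset_closure (by simp)
    have m4 : α (τ s) ∈ K := Subgroup.subset_closure (by simp)
    have m5 : ⁅s, τ s⁆ ∈ K := Subgroup.subset_closure (by simp)
    have m6 : α ⁅s, τ s⁆ ∈ K := Subgroup.subset_closure (by simp)
    have mαα : ∀ {x : T}, x ∈ K → α x ∈ K → α (α x) ∈ K := by
      intro x hx hx2
      rw [hf.alpha_alpha]
      exact K.inv_mem (K.mul_mem hx hx2)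
    have hZK : Subgroup.center T ≤ K := by
      intro z hz
      rw [hZV] at hz
      rw [← hcomm] at hc2 hcf
      rcases h.inv4 hc2 hcf hz with rfl | rfl | rfl | rfl
      · exact one_mem _
      · exact m5
      · exact m6
      · exact mαα m5 m6
    have hcK : c ∈ K := K.mul_mem (K.inv_mem m1) m3
    have hαcK : α c ∈ K := by
      rw [hc, map_mul, map_inv]
      exact K.mul_mem (K.inv_mem m2) m4
    have hYK : ∀ y ∈ mv τ, y ∈ K := by
      intro y hy
      have hfin : ∀ u ∈ K, u⁻¹ * y ∈ Subgroup.center T → y ∈ K := by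
        intro u hu h1
        have h2 : y = u * (u⁻¹ * y) := by group
        rw [h2]
        exact K.mul_mem hu (hZK h1)
      rcases hY4 hcY hcc hy with e | e | e | e
      · exact hZK e
      · exact hfin _ hcK e
      · exact hfin _ hαcK e
      · exact hfin _ (mαα hcK hαcK) e
    intro t _
    have hfin : ∀ a ∈ K, (a⁻¹ * τ a)⁻¹ * (t⁻¹ * τ t) ∈ Subgroup.center T → t ∈ K := by
      intro a ha hz
      have h1 : t * a⁻¹ ∈ mv τ := by
        rw [mem_mv, map_mul, map_inv]
        have h2 : (t * a⁻¹)⁻¹ * (τ t * (τ a)⁻¹) = (a⁻¹ * τ a)⁻¹ * (t⁻¹ * τ t) := by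
          have h3 := Subgroup.mem_center_iff.mp hz (τ a)
          calc (t * a⁻¹)⁻¹ * (τ t * (τ a)⁻¹)
              = τ a * ((a⁻¹ * τ a)⁻¹ * (t⁻¹ * τ t)) * (τ a)⁻¹ := by group
            _ = (a⁻¹ * τ a)⁻¹ * (t⁻¹ * τ t) := by rw [h3, mul_inv_cancel_right]
        rw [h2]
        exact hz
      have h2 : t = (t * a⁻¹) * a := by group
      rw [h2]
      exact K.mul_mem (hYK _ h1) ha
    rcases hY4 hcY hcc (hDY t) with e | e | e | e
    · exact hYK t e
    · exact hfin s m1 e
    · rw [hc, h.alpha_D] at e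
      exact hfin _ m2 e
    · rw [hc, h.alpha_D, h.alpha_D] at e
      exact hfin _ (mαα m1 m2) e
  · rw [← map_mul, hs2, map_one]
  · rw [← map_mul, hr2, map_one]
  · rw [commutatorElement_eq_one_iff_mul_comm]
    exact hf.comm_self s
  · rw [commutatorElement_eq_one_iff_mul_comm]
    exact hf.comm_self (τ s)
  · rw [hf.comm_alpha', hααe _ hec]
  · rw [hf.alpha_comm, hααe _ hec]
  · rw [map_commutatorElement]

/-- the classification -/
theorem Hyp.main [Finite T] [Nontrivial T] (h : Hyp T α τ) :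
    (Nat.card T = 16 ∧ ∀ x : T, x * x = 1) ∨
    (∃ n : ℕ, 1 ≤ n ∧ Nonempty (T ≃* Multiplicative (ZMod (2 ^ n) × ZMod (2 ^ n)))) ∨
    (∃ u1 u2 v1 v2 e1 e2 : T, GenL T u1 u2 v1 v2 e1 e2) ∨
    (∃ u1 u2 v1 v2 e1 e2 : T, Gen T u1 u2 v1 v2 e1 e2) := by
  by_cases hall : ∀ x : T, x * x = 1 → x ∈ fx τ
  · have hs := h.setup hall
    by_cases hab : ∀ a b : T, a * b = b * a
    · exact Or.inr (Or.inl (abelian_iso hs hab inferInstance))
    · push Not at hab
      exact Or.inr (Or.inr (Or.inr (H26.RankTwoAut3.exists_gen hs hab)))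
  · push Not at hall
    obtain ⟨s, hs2, hs⟩ := hall
    by_cases hcen : ∀ x ∈ Subgroup.center T, x * x = 1 → x ∈ fx τ
    · refine Or.inr (Or.inr (Or.inl (h.genL ?_ hcen hs2 hs)))
      intro htop
      exact hs (hcen s (by rw [htop]; exact Subgroup.mem_top s) hs2)
    · push Not at hcen
      obtain ⟨x, hx, hx2, hx3⟩ := hcen
      exact Or.inl (h.elem hx hx2 hx3)

end H54.L34
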