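import Mathlib
import Cfsg.Agent.Lib.H60.AltPres

/-! A homomorphism from `Alt(8)` given by generators (helper54; the presentation follows S3335). -/

set_option autoImplicit false

namespace H54.QA

open Equiv

/-- adjacent transpositions of `Fin n` -/
def sw (n j : ℕ) : Perm (Fin n) := if h : j + 1 < n then swap ⟨j, by omega⟩ ⟨j + 1, h⟩ else 1

theorem sw_eq {n j : ℕ} (h : j + 1 < n) : sw n j = swap ⟨j, by omega⟩ ⟨j + 1, h⟩ := dif_pos h

theorem sw_mul_self (n j : ℕ) : sw n j * sw n j = 1 := by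
  unfold sw; split_ifs <;> simp

theorem sw_sign {n j : ℕ} (h : j + 1 < n) : Perm.sign (sw n j) = -1 := by
  rw [sw_eq h, Perm.sign_swap]
  intro he
  have := congrArg Fin.val he
  simp at this

theorem sw_comm {n i j : ℕ} (h : i + 1 < j) : sw n i * sw n j = sw n j * sw n i := by
  unfold sw
  split_ifs with h1 h2
  · apply Perm.Disjoint.commute
    intro x
    by_cases hx1 : x = ⟨i, by omega⟩
    · right
      apply swap_apply_of_ne_of_ne <;> rw [hx1] <;> intro he <;> have := congrArg Fin.val he <;> simp at this <;> omega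
    · by_cases hx2 : x = ⟨i + 1, h1⟩
      · right
        apply swap_apply_of_ne_of_ne <;> rw [hx2] <;> intro he <;> have := congrArg Fin.val he <;> simp at this <;> omega
      · left
        exact swap_apply_of_ne_of_ne hx1 hx2
  · simp
  · simp
  · simp

theorem sw_braid {n j : ℕ} (h : j + 2 < n) :
    sw n j * sw n (j + 1) * (sw n j * sw n (j + 1)) * (sw n j * sw n (j + 1)) = 1 := by
  rw [sw_eq (show j + 1 < n by omega), sw_eq (show j + 1 + 1 < n by omega)]
  have h3 : (swap (⟨j + 1, by omega⟩ : Fin n) ⟨j, by omega⟩ * swap (⟨j + 1, by omega⟩ : Fin n) ⟨j + 2, h⟩).IsThreeCycle := by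
    apply Perm.isThreeCycle_swap_mul_swap_same <;> intro he <;> have := congrArg Fin.val he <;> simp at this
  have h4 := pow_orderOf_eq_one (swap (⟨j + 1, by omega⟩ : Fin n) ⟨j, by omega⟩ * swap (⟨j + 1, by omega⟩ : Fin n) ⟨j + 2, h⟩)
  rw [h3.orderOf, pow_succ, pow_two, swap_comm (⟨j + 1, by omega⟩ : Fin n) ⟨j, by omega⟩] at h4
  exact h4

/-- explicit form of the presentation. -/
theorem pres (n : ℕ) (hn : 3 ≤ n) :
    ∃ φ : PresentedGroup
      ({g : FreeGroup (Fin (n - 2)) | ∃ i : Fin (n - 2), i.val = 0 ∧ g = FreeGroup.of i ^ 3} ∪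
       {g | ∃ i : Fin (n - 2), 1 ≤ i.val ∧ g = FreeGroup.of i ^ 2} ∪
       {g | ∃ i j : Fin (n - 2), j.val = i.val + 1 ∧ g = (FreeGroup.of i * FreeGroup.of j) ^ 3} ∪
       {g | ∃ i j : Fin (n - 2), i.val + 1 < j.val ∧ g = (FreeGroup.of i * FreeGroup.of j) ^ 2})
      ≃* alternatingGroup (Fin n), ∀ i, ((φ (PresentedGroup.of i) : alternatingGroup (Fin n)) : Perm (Fin n)) = sw n 0 * sw n (i.val + 1) := by
  -- images in the alternating group
  have hX : ∀ i : Fin (n - 2), sw n 0 * sw n (i.val + 1) ∈ alternatingGroup (Fin n) := by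
    intro i
    have := i.2
    rw [Perm.mem_alternatingGroup, map_mul, sw_sign (by omega), sw_sign (by omega)]
    simp
  have hss : ∀ (i j : ℕ), 0 + 1 < j → sw n 0 * sw n i * (sw n 0 * sw n j) = sw n 0 * (sw n i * sw n j) * sw n 0 := by
    intro i j hj
    have := sw_comm (n := n) hj
    calc sw n 0 * sw n i * (sw n 0 * sw n j) = sw n 0 * sw n i * (sw n j * sw n 0) := by rw [this]
      _ = _ := by group
  set rels := ({g : FreeGroup (Fin (n - 2)) | ∃ i : Fin (n - 2), i.val = 0 ∧ g = FreeGroup.of i ^ 3} ∪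
       {g | ∃ i : Fin (n - 2), 1 ≤ i.val ∧ g = FreeGroup.of i ^ 2} ∪
       {g | ∃ i j : Fin (n - 2), j.val = i.val + 1 ∧ g = (FreeGroup.of i * FreeGroup.of j) ^ 3} ∪
       {g | ∃ i j : Fin (n - 2), i.val + 1 < j.val ∧ g = (FreeGroup.of i * FreeGroup.of j) ^ 2}) with hrels
  have hker : ∀ r ∈ rels, FreeGroup.lift (fun i : Fin (n - 2) => (⟨sw n 0 * sw n (i.val + 1), hX i⟩ : alternatingGroup (Fin n))) r = 1 := by
    rintro r (((⟨i, hi, rfl⟩ | ⟨i, hi, rfl⟩) | ⟨i, j, hij, rfl⟩) | ⟨i, j, hij, rfl⟩)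
    · simp only [map_pow, FreeGroup.lift_apply_of]
      apply Subtype.ext
      rw [Subgroup.coe_pow]
      change (sw n 0 * sw n (i.val + 1)) ^ 3 = 1
      rw [hi, pow_succ, pow_two]
      exact sw_braid (by omega)
    · simp only [map_pow, FreeGroup.lift_apply_of]
      apply Subtype.ext
      rw [Subgroup.coe_pow, pow_two]
      change sw n 0 * sw n (i.val + 1) * (sw n 0 * sw n (i.val + 1)) = 1
      rw [hss _ _ (by omega), sw_mul_self, mul_one, sw_mul_self]
    · simp only [map_pow, map_mul, FreeGroup.lift_apply_of]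
      apply Subtype.ext
      rw [Subgroup.coe_pow]
      change (sw n 0 * sw n (i.val + 1) * (sw n 0 * sw n (j.val + 1))) ^ 3 = 1
      have := j.2
      rw [hss _ _ (by omega)]
      have h1 : sw n 0 * (sw n (i.val + 1) * sw n (j.val + 1)) * sw n 0 = sw n 0 * (sw n (i.val + 1) * sw n (j.val + 1)) * (sw n 0)⁻¹ := by
        rw [inv_eq_of_mul_eq_one_left (sw_mul_self n 0)]
      rw [h1, conj_pow, hij, pow_succ, pow_two, sw_braid (by omega)]
      simp
    · simp only [map_pow, map_mul, FreeGroup.lift_apply_of]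
      apply Subtype.ext
      rw [Subgroup.coe_pow]
      change (sw n 0 * sw n (i.val + 1) * (sw n 0 * sw n (j.val + 1))) ^ 2 = 1
      have := j.2
      rw [hss _ _ (by omega)]
      have h1 : sw n 0 * (sw n (i.val + 1) * sw n (j.val + 1)) * sw n 0 = sw n 0 * (sw n (i.val + 1) * sw n (j.val + 1)) * (sw n 0)⁻¹ := by
        rw [inv_eq_of_mul_eq_one_left (sw_mul_self n 0)]
      rw [h1, conj_pow, pow_two]
      have h2 : sw n (i.val + 1) * sw n (j.val + 1) * (sw n (i.val + 1) * sw n (j.val + 1)) = 1 := by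
        have h3 := sw_comm (n := n) (i := i.val + 1) (j := j.val + 1) (by omega)
        calc _ = sw n (i.val + 1) * (sw n (j.val + 1) * sw n (i.val + 1)) * sw n (j.val + 1) := by group
          _ = sw n (i.val + 1) * (sw n (i.val + 1) * sw n (j.val + 1)) * sw n (j.val + 1) := by rw [h3]
          _ = (sw n (i.val + 1) * sw n (i.val + 1)) * (sw n (j.val + 1) * sw n (j.val + 1)) := by group
          _ = 1 := by rw [sw_mul_self, sw_mul_self, mul_one]
      rw [h2]
      simp
  let φ : PresentedGroup rels →* alternatingGroup (Fin n) := PresentedGroup.toGroup hker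
  have hφ : ∀ i, ((φ (PresentedGroup.of i) : alternatingGroup (Fin n)) : Perm (Fin n)) = sw n 0 * sw n (i.val + 1) := by
    intro i
    simp only [φ, PresentedGroup.toGroup.of]
  -- surjectivity
  have hsurj : Function.Surjective φ := by
    let Q : Subgroup (Perm (Fin n)) := ((alternatingGroup (Fin n)).subtype.comp φ).range
    have hQ : ∀ i : ℕ, i + 1 < n → sw n 0 * sw n i ∈ Q := by
      intro i hi
      rcases Nat.eq_zero_or_pos i with rfl | hi0
      · rw [sw_mul_self]; exact Q.one_mem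
      · refine ⟨PresentedGroup.of ⟨i - 1, by omega⟩, ?_⟩
        change ((φ (PresentedGroup.of _) : alternatingGroup (Fin n)) : Perm (Fin n)) = _
        rw [hφ]
        simp only
        congr 2
        omega
    have key : ∀ σ : Perm (Fin n), (Perm.sign σ = 1 → σ ∈ Q) ∧ (Perm.sign σ = -1 → sw n 0 * σ ∈ Q) := by
      obtain ⟨m, rfl⟩ : ∃ m, n = m + 1 := ⟨n - 1, by omega⟩
      intro σ
      induction σ using Submonoid.induction_of_closure_eq_top_left (Perm.mclosure_swap_castSucc_succ m) with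
      | one => exact ⟨fun _ => Q.one_mem, fun h => absurd h (by simp)⟩
      | mul_left x hx y ih =>
        obtain ⟨i, rfl⟩ := hx
        have hi : (swap i.castSucc i.succ : Perm (Fin (m + 1))) = sw (m + 1) i.val := by
          rw [sw_eq (by omega)]; rfl
        simp only [hi]
        have hs : Perm.sign (sw (m + 1) i.val) = -1 := sw_sign (by omega)
        have hq := hQ i.val (by omega)
        rw [map_mul, hs]
        rcases Int.units_eq_one_or (Perm.sign y) with h1 | h1
        · rw [h1]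
          refine ⟨fun h => absurd h (by decide), fun _ => ?_⟩
          rw [← mul_assoc]
          exact Q.mul_mem hq (ih.1 h1)
        · rw [h1]
          refine ⟨fun _ => ?_, fun h => absurd h (by decide)⟩
          have h2 : sw (m + 1) i.val * y = (sw (m + 1) 0 * sw (m + 1) i.val)⁻¹ * (sw (m + 1) 0 * y) := by
            have e1 : (sw (m + 1) i.val)⁻¹ = sw (m + 1) i.val := inv_eq_of_mul_eq_one_left (sw_mul_self _ _)
            rw [mul_inv_rev, e1]; group
          rw [h2]
          exact Q.mul_mem (Q.inv_mem hq) (ih.2 h1)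
    rintro ⟨σ, hσ⟩
    obtain ⟨g, hg⟩ := (key σ).1 (Perm.mem_alternatingGroup.mp hσ)
    exact ⟨g, Subtype.ext hg⟩
  -- bound
  let x : ℕ → PresentedGroup rels := fun i => if h : i < n - 2 then PresentedGroup.of ⟨i, h⟩ else 1
  have hx : ∀ i (h : i < n - 2), x i = PresentedGroup.mk rels (FreeGroup.of ⟨i, h⟩) := by
    intro i h
    simp only [x, dif_pos h]; rfl
  have hrel : H60.AltPres.Rel x (n - 2) := by
    refine ⟨?_, ?_, ?_, ?_⟩
    · intro h
      rw [hx 0 h, ← map_pow]
      apply PresentedGroup.one_of_mem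
      left; left; left
      exact ⟨⟨0, h⟩, rfl, rfl⟩
    · intro i h1 h
      rw [hx i h, ← map_mul, ← pow_two]
      apply PresentedGroup.one_of_mem
      left; left; right
      exact ⟨⟨i, h⟩, h1, rfl⟩
    · intro i h
      rw [hx i (by omega), hx (i + 1) h, ← map_mul, ← map_mul, ← map_mul, ← pow_two, ← pow_succ]
      apply PresentedGroup.one_of_mem
      left; right
      exact ⟨⟨i, by omega⟩, ⟨i + 1, h⟩, rfl, rfl⟩
    · intro i j hij h
      rw [hx i (by omega), hx j h, ← map_mul, ← map_mul, ← pow_two]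
      apply PresentedGroup.one_of_mem
      right
      exact ⟨⟨i, by omega⟩, ⟨j, h⟩, hij, rfl⟩
  obtain ⟨hfin, hcard⟩ := H60.AltPres.bound x (n - 2) hrel
  have htop : Subgroup.closure (x '' {i | i < n - 2}) = ⊤ := by
    rw [← PresentedGroup.closure_range_of]
    congr 1
    ext y
    constructor
    · rintro ⟨i, hi, rfl⟩
      refine ⟨⟨i, hi⟩, ?_⟩
      simp only [x, dif_pos (show i < n - 2 from hi)]
    · rintro ⟨⟨i, hi⟩, rfl⟩
      refine ⟨i, hi, ?_⟩
      simp only [x, dif_pos hi]
  rw [htop] at hfin hcard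
  have hfin' : Finite (PresentedGroup rels) := Finite.of_equiv _ (Subgroup.topEquiv (G := PresentedGroup rels)).toEquiv
  rw [Nat.card_congr (Subgroup.topEquiv (G := PresentedGroup rels)).toEquiv] at hcard
  have hbij : Function.Bijective φ := by
    apply hsurj.bijective_of_nat_card_le
    have : Nontrivial (Fin n) := Fin.nontrivial_iff_two_le.mpr (by omega)
    have h1 := two_mul_nat_card_alternatingGroup (α := Fin n)
    rw [Nat.card_perm, Nat.card_eq_fintype_card (α := Fin n), Fintype.card_fin] at h1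
    have h2 : n - 2 + 2 = n := by omega
    rw [h2] at hcard
    omega
  exact ⟨MulEquiv.ofBijective φ hbij, hφ⟩



/-- a homomorphism from `Alt(8)` given by generators. -/
theorem alt8_hom {G : Type*} [Group G] (x : Fin 6 → G) (h0 : x 0 ^ 3 = 1) (h2 : ∀ i : Fin 6, 1 ≤ i.val → x i ^ 2 = 1)
    (h3 : ∀ i j : Fin 6, j.val = i.val + 1 → (x i * x j) ^ 3 = 1)
    (h4 : ∀ i j : Fin 6, i.val + 1 < j.val → (x i * x j) ^ 2 = 1) :
    ∃ f : alternatingGroup (Fin 8) →* G, ∀ (i : Fin 6) (a : alternatingGroup (Fin 8)),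
      (a : Perm (Fin 8)) = sw 8 0 * sw 8 (i.val + 1) → f a = x i := by
  obtain ⟨φ, hφ⟩ := pres 8 (by norm_num)
  have hr : ∀ r ∈ ({g : FreeGroup (Fin (8 - 2)) | ∃ i : Fin (8 - 2), i.val = 0 ∧ g = FreeGroup.of i ^ 3} ∪
       {g | ∃ i : Fin (8 - 2), 1 ≤ i.val ∧ g = FreeGroup.of i ^ 2} ∪
       {g | ∃ i j : Fin (8 - 2), j.val = i.val + 1 ∧ g = (FreeGroup.of i * FreeGroup.of j) ^ 3} ∪
       {g | ∃ i j : Fin (8 - 2), i.val + 1 < j.val ∧ g = (FreeGroup.of i * FreeGroup.of j) ^ 2}),
       FreeGroup.lift x r = 1 := by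
    rintro r (((⟨i, hi, rfl⟩ | ⟨i, hi, rfl⟩) | ⟨i, j, hij, rfl⟩) | ⟨i, j, hij, rfl⟩)
    · rw [map_pow, FreeGroup.lift_apply_of]
      have : i = (0 : Fin 6) := Fin.ext hi
      rw [this]; exact h0
    · rw [map_pow, FreeGroup.lift_apply_of]; exact h2 i hi
    · rw [map_pow, map_mul, FreeGroup.lift_apply_of, FreeGroup.lift_apply_of]; exact h3 i j hij
    · rw [map_pow, map_mul, FreeGroup.lift_apply_of, FreeGroup.lift_apply_of]; exact h4 i j hij
  refine ⟨(PresentedGroup.toGroup hr).comp φ.symm.toMonoidHom, fun i a ha => ?_⟩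
  have h5 : a = φ (PresentedGroup.of i) := Subtype.ext (by rw [ha]; exact (hφ i).symm)
  rw [h5]
  change PresentedGroup.toGroup hr (φ.symm (φ (PresentedGroup.of i))) = x i
  rw [MulEquiv.symm_apply_apply, PresentedGroup.toGroup.of]

end H54.QA
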