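import Mathlib
import Cfsg.Agent.Lib.H54.QA5
import Cfsg.Agent.Lib.H54.QA6
import Cfsg.Agent.S3224

/-! 3-local characterization of `Alt(8)`: the case `C(V) = V × ⟨ζ⟩` (helper54). -/

set_option autoImplicit false
set_option linter.unusedSectionVars false
set_option linter.unusedVariables false
set_option linter.style.haveILetI false
set_option maxRecDepth 100000

namespace H54.QA

open Equiv Subgroup
open scoped Pointwise

theorem b_odd : ∀ b : Perm (Fin 5), Perm.sign b = -1 → b * b = 1 →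
    ∃ e : Perm (Fin 5), Perm.sign e = 1 ∧ b * (e * d5 * e⁻¹) = (e * d5 * e⁻¹) * b := by decide +kernel

def V4K : Subgroup KK where
  carrier := {k | k = 1 ∨ k = a1 ∨ k = a2 ∨ k = a3}
  one_mem' := Or.inl rfl
  mul_mem' := by
    rintro _ _ (rfl | rfl | rfl | rfl) (rfl | rfl | rfl | rfl) <;>
    first
    | (left; exact kext (by decide +kernel))
    | (right; left; exact kext (by decide +kernel))
    | (right; right; left; exact kext (by decide +kernel))
    | (right; right; right; exact kext (by decide +kernel))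
  inv_mem' := by
    rintro _ (rfl | rfl | rfl | rfl) <;>
    first
    | (left; exact kext (by decide +kernel))
    | (right; left; exact kext (by decide +kernel))
    | (right; right; left; exact kext (by decide +kernel))
    | (right; right; right; exact kext (by decide +kernel))

theorem mem_V4K (k : KK) : k ∈ V4K ↔ k = 1 ∨ k = a1 ∨ k = a2 ∨ k = a3 := Iff.rfl

instance : DecidablePred (· ∈ V4K) := fun k =>
  decidable_of_iff ((k : Perm (Fin 3) × Perm (Fin 5)) = (1 : KK) ∨ (k : Perm (Fin 3) × Perm (Fin 5)) = a1 ∨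
    (k : Perm (Fin 3) × Perm (Fin 5)) = a2 ∨ (k : Perm (Fin 3) × Perm (Fin 5)) = a3) (by
    change _ ↔ (k = 1 ∨ k = a1 ∨ k = a2 ∨ k = a3)
    constructor
    · rintro (h | h | h | h)
      · exact Or.inl (kext h)
      · exact Or.inr (Or.inl (kext h))
      · exact Or.inr (Or.inr (Or.inl (kext h)))
      · exact Or.inr (Or.inr (Or.inr (kext h)))
    · rintro (h | h | h | h) <;> rw [h] <;> simp)

theorem card_V4K : Nat.card V4K = 4 := by rw [Nat.card_eq_fintype_card]; decide +kernel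

def NK : Subgroup KK := normalizer (V4K : Set KK)

theorem mem_NK (k : KK) : k ∈ NK ↔ k * a1 * k⁻¹ ∈ V4K ∧ k * a2 * k⁻¹ ∈ V4K := by
  constructor
  · intro h
    rw [NK, mem_normalizer_iff] at h
    exact ⟨(h a1).1 (Or.inr (Or.inl rfl)), (h a2).1 (Or.inr (Or.inr (Or.inl rfl)))⟩
  · rintro ⟨h1, h2⟩
    apply mem_normalizer_fintype
    rintro x (rfl | rfl | rfl | rfl)
    · rw [mul_one, mul_inv_cancel]; exact one_mem _
    · exact h1
    · exact h2
    · have : k * a3 * k⁻¹ = (k * a1 * k⁻¹) * (k * a2 * k⁻¹) := by rw [← a12]; group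
      rw [this]; exact mul_mem h1 h2

instance : DecidablePred (· ∈ NK) := fun k => decidable_of_iff _ (mem_NK k).symm

theorem card_NK : Nat.card NK = 72 := by rw [Nat.card_eq_fintype_card]; decide +kernel

/-- centraliser of `a1` in `KK`. -/
def Ca : Subgroup KK := centralizer {a1}
theorem mem_Ca (k : KK) : k ∈ Ca ↔ (k : Perm (Fin 3) × Perm (Fin 5)) * a1 = a1 * k := by
  rw [Ca, mem_centralizer_singleton_iff]
  exact ⟨fun h => congrArg Subtype.val h, fun h => kext h⟩
instance : DecidablePred (· ∈ Ca) := fun k => decidable_of_iff _ (mem_Ca k).symm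
theorem card_Ca : Nat.card Ca = 24 := by rw [Nat.card_eq_fintype_card]; decide +kernel

variable {G : Type*} [Group G] [Finite G] {ψ : KK →* G} {n : G} {T : Subgroup G}

theorem Dat.hi (h : Dat ψ n) {k : KK} (hk : k * k = 1) (hk1 : k ≠ 1) : ∃ g, g * ψ k * g⁻¹ = ψ a1 := by
  have e1 : ψ k * ψ k = 1 := by rw [← map_mul, hk, map_one]
  have e2 : ψ k ≠ 1 := fun h1 => hk1 (h.inj (by rw [h1, map_one]))
  obtain ⟨⟨a, b⟩, hab⟩ := k
  have ha2 : a * a = 1 := congrArg Prod.fst (congrArg Subtype.val hk)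
  have hb2 : b * b = 1 := congrArg Prod.snd (congrArg Subtype.val hk)
  have hs : Perm.sign b = 1 ∨ Perm.sign b = -1 := Int.units_eq_one_or _
  rcases hs with hs | hs
  · have ha : a = 1 := by
      have : ∀ a : Perm (Fin 3), Perm.sign a = 1 → a * a = 1 → a = 1 := by decide +kernel
      apply this a _ ha2
      have := (mem_KK a b).1 hab
      rwa [hs, mul_one] at this
    subst ha
    apply h.u1c e1 e2
    rw [← map_mul, ← map_mul]
    exact congrArg ψ (cc_bb b hs).symm
  · obtain ⟨e, he, he2⟩ := b_odd b hs hb2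
    refine h.u1d e1 e2 (x := ψ (bb e he) * ψ dd * (ψ (bb e he))⁻¹) (g := ψ (bb e he) * n) ?_ ?_
    · rw [← h.sw1]; group
    · rw [← map_inv, ← map_mul, ← map_mul, ← map_mul, ← map_mul]
      congr 1
      apply kext
      change (a * ((1 : Perm (Fin 3)) * 1 * 1⁻¹), b * (e * d5 * e⁻¹)) = ((1 : Perm (Fin 3)) * 1 * 1⁻¹ * a, e * d5 * e⁻¹ * b)
      rw [he2]; simp

theorem mem_VG {g : G} : g ∈ V4K.map ψ ↔ g = 1 ∨ g = ψ a1 ∨ g = ψ a2 ∨ g = ψ a3 := by
  constructor
  · rintro ⟨k, hk, rfl⟩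
    rcases hk with rfl | rfl | rfl | rfl
    · left; exact map_one _
    · right; left; rfl
    · right; right; left; rfl
    · right; right; right; rfl
  · rintro (rfl | rfl | rfl | rfl)
    · exact one_mem _
    · exact ⟨a1, Or.inr (Or.inl rfl), rfl⟩
    · exact ⟨a2, Or.inr (Or.inr (Or.inl rfl)), rfl⟩
    · exact ⟨a3, Or.inr (Or.inr (Or.inr rfl)), rfl⟩

theorem Dat.card_map (h : Dat ψ n) (S : Subgroup KK) : Nat.card (S.map ψ) = Nat.card S :=
  (Nat.card_congr (S.equivMapOfInjective ψ h.inj).toEquiv).symm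

theorem VG_sq {g : G} (hg : g ∈ V4K.map ψ) : g * g = 1 := by
  have e3 : a3 * a3 = 1 := kext (by decide +kernel)
  rcases mem_VG.1 hg with rfl | rfl | rfl | rfl
  · simp
  · rw [← map_mul, a1a1, map_one]
  · rw [← map_mul, a2a2, map_one]
  · rw [← map_mul, e3, map_one]

/-- `N(V) ≤ ψ(NK)` if `T = V`. -/
theorem Dat.NV (h : Dat ψ n) (hX : ∀ g ∈ XV ψ, ∃ s ∈ V4K.map ψ, ∃ x ∈ zpowers (ψ cc), g = s * x) :
    normalizer ((V4K.map ψ : Subgroup G) : Set G) ≤ NK.map ψ := by
  intro g hg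
  have hcomm : ∀ v ∈ V4K.map ψ, v * ψ cc = ψ cc * v := by
    intro v hv
    have := z_XV (ψ := ψ)
    rcases mem_VG.1 hv with rfl | rfl | rfl | rfl
    · simp
    · exact ((mem_XV _).1 this).1.symm
    · exact ((mem_XV _).1 this).2.symm
    · exact (a3_XV this).symm
  have h1 : g * ψ cc * g⁻¹ ∈ XV ψ := by
    rw [mem_XV]
    have key : ∀ v ∈ V4K.map ψ, g * ψ cc * g⁻¹ * v = v * (g * ψ cc * g⁻¹) := by
      intro v hv
      have h2 : g⁻¹ * v * g ∈ V4K.map ψ := by
        have := (mem_normalizer_iff.1 (inv_mem hg) v).1 hv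
        rwa [inv_inv] at this
      have h3 := hcomm _ h2
      calc g * ψ cc * g⁻¹ * v = g * (ψ cc * (g⁻¹ * v * g)) * g⁻¹ := by group
        _ = g * ((g⁻¹ * v * g) * ψ cc) * g⁻¹ := by rw [h3]
        _ = _ := by group
    exact ⟨key _ (mem_VG.2 (Or.inr (Or.inl rfl))), key _ (mem_VG.2 (Or.inr (Or.inr (Or.inl rfl))))⟩
  obtain ⟨s, hs, x, hx, hsx⟩ := hX _ h1
  have hsz : Commute s x := by
    obtain ⟨i, rfl⟩ := mem_zpowers_iff.1 hx
    exact (show Commute s (ψ cc) from hcomm s hs).zpow_right i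
  have hx3 : x ^ 3 = 1 := by
    rcases zp3 h.z3 hx with rfl | rfl | rfl
    · simp
    · exact h.z3
    · rw [inv_pow, h.z3, inv_one]
  have hs3 : s ^ 3 = 1 := by
    have h2 : (g * ψ cc * g⁻¹) ^ 3 = 1 := by rw [conj_pow, h.z3]; group
    rw [hsx, hsz.mul_pow, hx3, mul_one] at h2
    exact h2
  have hs1 : s = 1 := by
    have h2 : s ^ 3 = s := by rw [pow_succ, pow_two, VG_sq hs, one_mul]
    rw [← h2, hs3]
  rw [hs1, one_mul] at hsx
  obtain ⟨k, hk⟩ := h.range g (inv_norm (by rw [hsx]; exact hx))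
  refine ⟨k, ?_, hk⟩
  change k ∈ NK
  rw [mem_NK]
  have key : ∀ a : KK, a ∈ V4K → k * a * k⁻¹ ∈ V4K := by
    intro a ha
    have h2 := (mem_normalizer_iff.1 hg (ψ a)).1 ⟨a, ha, rfl⟩
    rw [← hk, ← map_inv, ← map_mul, ← map_mul] at h2
    obtain ⟨b, hb, hb2⟩ := h2
    rw [← h.inj hb2]; exact hb
  exact ⟨key _ (Or.inr (Or.inl rfl)), key _ (Or.inr (Or.inr (Or.inl rfl)))⟩

end H54.QA
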