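import Mathlib
import Cfsg.Agent.Lib.H54.QA7

/-! 3-local characterization of `Alt(8)`: the case `C(V) = V × ⟨ζ⟩` is impossible (helper54). -/

set_option autoImplicit false
set_option linter.unusedSectionVars false
set_option linter.unusedVariables false
set_option linter.style.haveILetI false
set_option maxRecDepth 100000

namespace H54.QA

open Equiv Subgroup
open scoped Pointwise

variable {G : Type*} [Group G] [Finite G] {ψ : KK →* G} {n : G} {T : Subgroup G}

theorem card_rel {A B : Subgroup G} (h : A ≤ B) : Nat.card A * A.relIndex B = Nat.card B := by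
  have h1 := Subgroup.card_mul_index (A.subgroupOf B)
  rw [Nat.card_congr (Subgroup.subgroupOfEquivOfLe h).toEquiv] at h1
  exact h1

theorem r_sq {m : ℕ} (hm : 3 ≤ m) {i j : ZMod m} (hi : i + i = 0) (hi0 : i ≠ 0) (hj : j + j = 0) (hj0 : j ≠ 0) : i = j := by
  haveI : NeZero m := ⟨by omega⟩
  have key : ∀ i : ZMod m, i + i = 0 → i ≠ 0 → 2 * i.val = m := by
    intro i hi hi0
    have h1 : ((i.val + i.val : ℕ) : ZMod m) = 0 := by push_cast; rw [ZMod.natCast_zmod_val]; exact hi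
    have h2 := (ZMod.natCast_eq_zero_iff _ _).1 h1
    have h3 := ZMod.val_lt i
    have h4 : 0 < i.val := by
      rcases Nat.eq_zero_or_pos i.val with h | h
      · exact absurd ((ZMod.val_eq_zero i).1 h) hi0
      · exact h
    obtain ⟨c, hc⟩ := h2
    have h5 : c = 1 := by
      rcases Nat.lt_or_ge c 1 with h6 | h6
      · interval_cases c; omega
      · rcases Nat.lt_or_ge c 2 with h7 | h7
        · omega
        · have : m * 2 ≤ m * c := Nat.mul_le_mul_left m h7
          omega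
    rw [h5] at hc
    omega
  apply ZMod.val_injective m
  have := key i hi hi0
  have := key j hj hj0
  omega

/-- the dihedral case. -/
theorem Dat.bad_dih (h : Dat ψ n) (P : Sylow 2 G) (hVP : V4K.map ψ ≤ P) (hz : ∀ p ∈ (P : Subgroup G), p * ψ a1 = ψ a1 * p)
    (h16 : 16 ∣ Nat.card P) {m : ℕ} (e : P ≃* DihedralGroup m) : False := by
  haveI : Fact (Nat.Prime 2) := ⟨Nat.prime_two⟩
  haveI : Fact (Nat.Prime 3) := ⟨Nat.prime_three⟩
  have hcP : Nat.card P = 2 * m := by rw [Nat.card_congr e.toEquiv, DihedralGroup.nat_card]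
  have hPpos : 0 < Nat.card P := Nat.card_pos
  have hm8 : 8 ≤ m := by
    have := Nat.le_of_dvd hPpos h16
    omega
  haveI : NeZero m := ⟨by omega⟩
  obtain ⟨H, hH⟩ : ∃ H, H = centralizer ({ψ a1} : Set G) := ⟨_, rfl⟩
  have hmH : ∀ g, g ∈ H ↔ g * ψ a1 = ψ a1 * g := by intro g; rw [hH, mem_centralizer_singleton_iff]
  have hPH : (P : Subgroup G) ≤ H := fun p hp => (hmH p).2 (hz p hp)
  let P' : Sylow 2 H := P.subtype hPH
  have hP' : ∀ x : H, x ∈ (P' : Subgroup H) ↔ (x : G) ∈ (P : Subgroup G) := fun x => Iff.rfl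
  let f : DihedralGroup m →* H :=
    { toFun := fun x => ⟨(e.symm x : P), hPH (e.symm x).2⟩
      map_one' := by apply Subtype.ext; simp
      map_mul' := fun x y => by apply Subtype.ext; simp }
  have hfP : ∀ x, f x ∈ (P' : Subgroup H) := fun x => (e.symm x).2
  have hf : Function.Injective f := by
    intro x y hxy
    have h1 := congrArg (fun y : H => (y : G)) hxy
    exact e.symm.injective (Subtype.ext h1)
  have hfs : ∀ x ∈ (P' : Subgroup H), ∃ y, f y = x := by
    intro x hx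
    refine ⟨e ⟨(x : G), hx⟩, ?_⟩
    apply Subtype.ext
    change ((e.symm (e ⟨(x : G), hx⟩) : P) : G) = x
    rw [MulEquiv.symm_apply_apply]
  have hza : ψ a1 ∈ H := (hmH _).2 rfl
  have hzP : (⟨ψ a1, hza⟩ : H) ∈ (P' : Subgroup H) := hVP ⟨a1, Or.inr (Or.inl rfl), rfl⟩
  have hzc : ∀ g : H, g * ⟨ψ a1, hza⟩ = ⟨ψ a1, hza⟩ * g := by
    intro g; apply Subtype.ext; exact (hmH _).1 g.2
  have hz2 : (⟨ψ a1, hza⟩ : H) * ⟨ψ a1, hza⟩ = 1 := by
    apply Subtype.ext; change ψ a1 * ψ a1 = 1; rw [← map_mul, a1a1, map_one]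
  have hz1 : (⟨ψ a1, hza⟩ : H) ≠ 1 := by
    intro h1
    have h2 : ψ a1 = 1 := congrArg Subtype.val h1
    have h3 : a1 = 1 := h.inj (by rw [h2, map_one])
    exact absurd (congrArg Subtype.val h3) (by decide +kernel)
  obtain ⟨y, hy⟩ := hfs _ hzP
  have hyr : ∃ i : ZMod m, y = DihedralGroup.r i := by
    rcases y with i | i
    · exact ⟨i, rfl⟩
    · exfalso
      have h1 : DihedralGroup.sr i * DihedralGroup.r 1 = DihedralGroup.r 1 * DihedralGroup.sr i := by
        apply hf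
        rw [map_mul, map_mul, hy]
        exact (hzc _).symm
      rw [DihedralGroup.sr_mul_r, DihedralGroup.r_mul_sr] at h1
      have h2 : i + 1 = i - 1 := by injection h1
      have h3 : (2 : ZMod m) = 0 := by
        have : (2 : ZMod m) = (i + 1) - (i - 1) := by ring
        rw [this, h2, sub_self]
      have h4 : ((2 : ℕ) : ZMod m) = 0 := by exact_mod_cast h3
      have h5 := (ZMod.natCast_eq_zero_iff _ _).1 h4
      have := Nat.le_of_dvd (by norm_num) h5
      omega
  obtain ⟨i, rfl⟩ := hyr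
  have hi2 : i + i = 0 := by
    have h1 : DihedralGroup.r i * DihedralGroup.r i = (1 : DihedralGroup m) := by
      apply hf; rw [map_mul, hy, hz2, map_one]
    rw [DihedralGroup.r_mul_r] at h1
    have h2 : DihedralGroup.r (i + i) = DihedralGroup.r 0 := h1
    injection h2
  have hi0 : i ≠ 0 := by
    rintro rfl
    apply hz1
    rw [← hy]
    exact map_one f
  have hrm : ∀ j : ZMod m, f (DihedralGroup.r j) ∈ zpowers (f (DihedralGroup.r 1)) := by
    intro j
    have : DihedralGroup.r j = (DihedralGroup.r 1 : DihedralGroup m) ^ j.val := by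
      rw [DihedralGroup.r_one_pow, ZMod.natCast_zmod_val]
    rw [this, map_pow]
    exact npow_mem_zpowers _ _
  have hrc : ∀ x ∈ zpowers (f (DihedralGroup.r 1)), ∃ j : ZMod m, x = f (DihedralGroup.r j) := by
    intro x hx
    obtain ⟨k, rfl⟩ := mem_zpowers_iff.1 hx
    refine ⟨(k : ZMod m), ?_⟩
    rw [← DihedralGroup.r_one_zpow, map_zpow]
  have hQP : zpowers (f (DihedralGroup.r 1)) ≤ (P' : Subgroup H) := zpowers_le.2 (hfP _)
  have hidx : (zpowers (f (DihedralGroup.r 1))).relIndex (P' : Subgroup H) = 2 := by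
    have h1 := Subgroup.card_mul_index ((zpowers (f (DihedralGroup.r 1))).subgroupOf (P' : Subgroup H))
    have h2 : Nat.card ((zpowers (f (DihedralGroup.r 1))).subgroupOf (P' : Subgroup H)) = m := by
      rw [Nat.card_congr (Subgroup.subgroupOfEquivOfLe hQP).toEquiv, Nat.card_zpowers, orderOf_injective f hf,
        DihedralGroup.orderOf_r_one]
    have h3 : Nat.card (P' : Subgroup H) = 2 * m := by
      rw [← hcP]
      exact Nat.card_congr (Subgroup.subgroupOfEquivOfLe hPH).toEquiv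
    rw [h2, h3] at h1
    change ((zpowers (f (DihedralGroup.r 1))).subgroupOf (P' : Subgroup H)).index = 2
    have h4 : 0 < m := by omega
    exact Nat.eq_of_mul_eq_mul_left h4 (by rw [h1]; ring)
  obtain ⟨K, hK1, hK2, hK3⟩ := dih_core P' (zpowers (f (DihedralGroup.r 1))) hQP hidx inferInstance ⟨ψ a1, hza⟩ hzc
    (by
      intro x hx hxx hx1
      obtain ⟨j, rfl⟩ := hrc x hx
      have hj2 : j + j = 0 := by
        have h1 : DihedralGroup.r j * DihedralGroup.r j = (1 : DihedralGroup m) := by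
          apply hf; rw [map_mul, hxx, map_one]
        rw [DihedralGroup.r_mul_r] at h1
        have h2 : DihedralGroup.r (j + j) = DihedralGroup.r 0 := h1
        injection h2
      have hj0 : j ≠ 0 := by
        rintro rfl
        exact hx1 (map_one f)
      rw [r_sq (by omega) hj2 hj0 hi2 hi0, hy])
    (by rw [← hy]; exact hrm i)
    (by
      intro x hx hxQ
      obtain ⟨y, rfl⟩ := hfs x hx
      rcases y with j | j
      · exact absurd (hrm j) hxQ
      · rw [← map_mul, DihedralGroup.sr_mul_sr, sub_self]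
        exact map_one f)
  -- Frattini
  have hzH : ψ cc ∈ H := (hmH _).2 (by rw [← map_mul, ← map_mul, a1_cc])
  have hzK : ψ cc ∈ K.map H.subtype := by
    refine ⟨⟨ψ cc, hzH⟩, hK3 _ ?_, rfl⟩
    rw [← orderOf_coe]
    change Odd (orderOf (ψ cc))
    rw [ord3 h.z3 h.zne]; decide
  have hKH : K.map H.subtype ≤ H := by rintro _ ⟨x, _, rfl⟩; exact x.2
  have hfr := H54.PT.frat (H := H) (T := K.map H.subtype) (R := zpowers (ψ cc)) (r := 3) hKH (by
    rintro g hg _ ⟨x, hx, rfl⟩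
    exact ⟨⟨g, hg⟩ * x * ⟨g, hg⟩⁻¹, hK1.conj_mem x hx ⟨g, hg⟩, rfl⟩) (zpowers_le.2 hzK) (zpw h)
    (h.idx (zpowers_le.2 hzK) (by rw [← hH]; exact hKH))
  have hc1 : Nat.card (K.map H.subtype) = Nat.card K :=
    (Nat.card_congr (K.equivMapOfInjective _ H.subtype_injective).toEquiv).symm
  have hle : (normalizer (zpowers (ψ cc) : Set G) ⊓ H : Subgroup G) ≤ Ca.map ψ := by
    intro g hg
    obtain ⟨k, rfl⟩ := h.range g hg.1
    refine ⟨k, ?_, rfl⟩
    change k ∈ Ca
    rw [mem_Ca]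
    have := (hmH _).1 hg.2
    rw [← map_mul, ← map_mul] at this
    exact congrArg Subtype.val (h.inj this)
  have hc2 := card_dvd_of_le hle
  rw [h.card_map, card_Ca] at hc2
  have h16H : 16 ∣ Nat.card H := h16.trans (card_dvd_of_le hPH)
  have h1 : 16 ∣ Nat.card K * 24 := by
    have h2 : 16 ∣ Nat.card (K.map H.subtype) * Nat.card (normalizer (zpowers (ψ cc) : Set G) ⊓ H : Subgroup G) := by
      rw [← hfr]; exact h16H.mul_right _
    rw [hc1] at h2
    exact h2.trans (Nat.mul_dvd_mul_left _ hc2)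
  have h2 : Nat.Coprime 16 (Nat.card K) := by
    have : Nat.Coprime (2 ^ 4) (Nat.card K) := Nat.Coprime.pow_left 4 (Nat.coprime_two_left.2 hK2)
    exact this
  have h3 := h2.dvd_of_dvd_mul_left h1
  norm_num at h3

theorem Dat.bad_P (h : Dat ψ n) (hT : IsT ψ T) (hTV : ∀ t ∈ T, t ∈ V4K.map ψ) : ∃ P : Sylow 2 G, V4K.map ψ ≤ P ∧
    ∀ p ∈ (P : Subgroup G), p * ψ a1 = ψ a1 * p := by
  haveI : Fact (Nat.Prime 2) := ⟨Nat.prime_two⟩
  have hV2 : IsPGroup 2 (V4K.map ψ) := IsPGroup.of_card (n := 2) (by rw [h.card_map, card_V4K]; norm_num)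
  obtain ⟨P0, hP0⟩ := hV2.exists_le_sylow
  haveI : Nontrivial (P0 : Subgroup G) := by
    have h1 := card_le_of_le hP0
    rw [h.card_map, card_V4K] at h1
    exact Finite.one_lt_card_iff_nontrivial.1 (by omega)
  have hcn := IsPGroup.center_nontrivial P0.2
  obtain ⟨z, hz⟩ : ∃ z : Subgroup.center (P0 : Subgroup G), orderOf z = 2 := by
    apply exists_prime_orderOf_dvd_card'
    obtain ⟨k, hk⟩ := IsPGroup.iff_card.1 (P0.2.to_subgroup (Subgroup.center (P0 : Subgroup G)))
    have : 1 < Nat.card (Subgroup.center (P0 : Subgroup G)) := Finite.one_lt_card_iff_nontrivial.2 hcn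
    rw [hk] at this ⊢
    have hk0 : k ≠ 0 := by rintro rfl; norm_num at this
    exact dvd_pow_self 2 hk0
  have hzc : ∀ p ∈ (P0 : Subgroup G), p * ((z : P0) : G) = ((z : P0) : G) * p := by
    intro p hp
    exact congrArg Subtype.val (Subgroup.mem_center_iff.1 z.2 ⟨p, hp⟩)
  have hzo : orderOf ((z : P0) : G) = 2 := by rw [orderOf_coe, orderOf_coe, hz]
  have hzV : ((z : P0) : G) ∈ V4K.map ψ := by
    apply hTV
    rw [hT]
    refine ⟨?_, by rw [hzo]; norm_num⟩
    rw [mem_XV]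
    exact ⟨(hzc _ (hP0 (mem_VG.2 (Or.inr (Or.inl rfl))))).symm, (hzc _ (hP0 (mem_VG.2 (Or.inr (Or.inr (Or.inl rfl)))))).symm⟩
  have hz1 : ((z : P0) : G) ≠ 1 := by
    intro h1; rw [h1, orderOf_one] at hzo; norm_num at hzo
  -- conjugation
  have key : ∀ (k : KK) (a : KK), k ∈ NK → k * a * k⁻¹ = a1 → ((z : P0) : G) = ψ a → ∃ P : Sylow 2 G, V4K.map ψ ≤ P ∧
      ∀ p ∈ (P : Subgroup G), p * ψ a1 = ψ a1 * p := by
    intro k a hk ha hza
    refine ⟨ψ k • P0, ?_, ?_⟩
    · rintro _ ⟨v, hv, rfl⟩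
      change ψ v ∈ MulAut.conj (ψ k) • (P0 : Subgroup G)
      rw [Subgroup.mem_pointwise_smul_iff_inv_smul_mem]
      have hk' : k⁻¹ * v * k ∈ V4K := by
        have := (mem_normalizer_iff.1 (inv_mem hk) v).1 hv
        rwa [inv_inv] at this
      have : (MulAut.conj (ψ k))⁻¹ • ψ v = ψ (k⁻¹ * v * k) := by
        rw [← map_inv]
        change (ψ k)⁻¹ * ψ v * (ψ k)⁻¹⁻¹ = _
        rw [inv_inv, map_mul, map_mul, map_inv]
      rw [this]
      exact hP0 ⟨_, hk', rfl⟩
    · intro p hp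
      change p ∈ MulAut.conj (ψ k) • (P0 : Subgroup G) at hp
      rw [Subgroup.mem_pointwise_smul_iff_inv_smul_mem] at hp
      have e1 : (MulAut.conj (ψ k))⁻¹ • p = (ψ k)⁻¹ * p * ψ k := by
        rw [← map_inv]
        change (ψ k)⁻¹ * p * (ψ k)⁻¹⁻¹ = _
        rw [inv_inv]
      rw [e1] at hp
      have h2 := hzc _ hp
      rw [hza] at h2
      have h3 : ψ a1 = ψ k * ψ a * (ψ k)⁻¹ := by rw [← map_inv, ← map_mul, ← map_mul, ha]
      rw [h3]
      calc p * (ψ k * ψ a * (ψ k)⁻¹) = ψ k * (((ψ k)⁻¹ * p * ψ k) * ψ a) * (ψ k)⁻¹ := by group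
        _ = ψ k * (ψ a * ((ψ k)⁻¹ * p * ψ k)) * (ψ k)⁻¹ := by rw [h2]
        _ = _ := by group
  have hd : dd ∈ NK := by
    rw [mem_NK]
    exact ⟨by rw [dd_a1]; exact Or.inr (Or.inr (Or.inr rfl)), by rw [dd_a2]; exact Or.inr (Or.inl rfl)⟩
  rcases mem_VG.1 hzV with h1 | h1 | h1 | h1
  · exact absurd h1 hz1
  · exact key 1 a1 (one_mem _) (by group) h1
  · exact key dd a2 hd dd_a2 h1
  · exact key (dd * dd) a3 (mul_mem hd hd) (kext (by decide +kernel)) h1

theorem Dat.bad (h : Dat ψ n) (hT : IsT ψ T) (hX : ∀ g ∈ XV ψ, ∃ s ∈ T, ∃ x ∈ zpowers (ψ cc), g = s * x)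
    (hTV : ∀ t ∈ T, t ∈ V4K.map ψ) : False := by
  haveI : Fact (Nat.Prime 2) := ⟨Nat.prime_two⟩
  obtain ⟨P, hVP, hz⟩ := h.bad_P hT hTV
  -- the involution `t`
  obtain ⟨t0, ht0⟩ := exists_prime_orderOf_dvd_card' (G := centralizer ({ψ cc * ψ dd} : Set G)) 2 (by rw [h.cy]; norm_num)
  have ht0' : orderOf (t0 : G) = 2 := by rw [orderOf_coe, ht0]
  have ht0c := mem_centralizer_singleton_iff.1 t0.2
  obtain ⟨g, _, hg⟩ := conjP (p := 2) (⊤ : Subgroup G) (P : Subgroup G) le_top P.2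
    (by rw [relIndex_top_right]; exact P.not_dvd_index) (E := zpowers (t0 : G)) le_top
    (IsPGroup.of_card (n := 1) (by rw [Nat.card_zpowers, ht0']; norm_num))
  obtain ⟨t, ht⟩ : ∃ t, t = g * (t0 : G) * g⁻¹ := ⟨_, rfl⟩
  have htP : t ∈ (P : Subgroup G) := by rw [ht]; exact hg _ (mem_zpowers _)
  have hto : orderOf t = 2 := by rw [ht, ordc, ht0']
  have htt : t * t = 1 := by rw [← pow_two, ← hto, pow_orderOf_eq_one]
  have ht1 : t ≠ 1 := by intro h1; rw [h1, orderOf_one] at hto; norm_num at hto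
  have hnc : ∀ x, x * t * x⁻¹ ≠ ψ a1 := by
    intro x hx
    refine h.u3 (t := (t0 : G)) (g := x * g) ?_ ht0c
    rw [← hx, ht]; group
  have hnr : ∀ k : KK, t ≠ ψ k := by
    rintro k rfl
    have hk : k * k = 1 := h.inj (by rw [map_mul, map_one]; exact htt)
    have hk1 : k ≠ 1 := by rintro rfl; exact ht1 (map_one _)
    obtain ⟨x, hx⟩ := h.hi hk hk1
    exact hnc x hx
  have hX' : ∀ g ∈ XV ψ, ∃ s ∈ V4K.map ψ, ∃ x ∈ zpowers (ψ cc), g = s * x := by
    intro g hg
    obtain ⟨s, hs, x, hx, hsx⟩ := hX g hg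
    exact ⟨s, hTV s hs, x, hx, hsx⟩
  have ha2P : ψ a2 ∈ (P : Subgroup G) := hVP (mem_VG.2 (Or.inr (Or.inr (Or.inl rfl))))
  have ha1P : ψ a1 ∈ (P : Subgroup G) := hVP (mem_VG.2 (Or.inr (Or.inl rfl)))
  have ha2o : orderOf (ψ a2) = 2 := by
    apply orderOf_eq_prime
    · rw [pow_two, ← map_mul, a2a2, map_one]
    · intro h1
      have h3 : a2 = 1 := h.inj (by rw [h1, map_one])
      exact absurd (congrArg Subtype.val h3) (by decide +kernel)
  have hC4 : Nat.card ↥(centralizer ({(⟨ψ a2, ha2P⟩ : P)} : Set P)) = 4 := by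
    have h1 : (centralizer ({(⟨ψ a2, ha2P⟩ : P)} : Set P)).map (P : Subgroup G).subtype = V4K.map ψ := by
      ext g
      constructor
      · rintro ⟨p, hp, rfl⟩
        have hp' := congrArg Subtype.val (mem_centralizer_singleton_iff.1 hp)
        apply hTV
        rw [hT]
        refine ⟨(mem_XV _).2 ⟨hz _ p.2, hp'⟩, ?_⟩
        obtain ⟨k, hk⟩ := P.2 p
        have h2 : orderOf ((p : P) : G) ∣ 2 ^ k := by
          rw [orderOf_coe]; exact orderOf_dvd_of_pow_eq_one hk
        exact Nat.Coprime.coprime_dvd_left h2 (Nat.Coprime.pow_left k (by norm_num))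
      · intro hg
        refine ⟨⟨g, hVP hg⟩, ?_, rfl⟩
        change (⟨g, hVP hg⟩ : P) ∈ centralizer ({(⟨ψ a2, ha2P⟩ : P)} : Set P)
        rw [mem_centralizer_singleton_iff]
        apply Subtype.ext
        change g * ψ a2 = ψ a2 * g
        have e1 : a1 * a2 = a2 * a1 := a1a2
        have e2 : a3 * a2 = a2 * a3 := kext (by decide +kernel)
        rcases mem_VG.1 hg with rfl | rfl | rfl | rfl
        · simp
        · rw [← map_mul, e1, map_mul]
        · rfl
        · rw [← map_mul, e2, map_mul]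
    have h2 := (Nat.card_congr ((centralizer ({(⟨ψ a2, ha2P⟩ : P)} : Set P)).equivMapOfInjective _
      (P : Subgroup G).subtype_injective).toEquiv)
    rw [h2, h1, h.card_map, card_V4K]
  have hV4 : Nat.card (V4K.map ψ) = 4 := by rw [h.card_map, card_V4K]
  -- small order
  have hsmall : ¬ Nat.card P ∣ 8 := by
    intro h8
    have hN : (P : Subgroup G) ≤ normalizer ((V4K.map ψ : Subgroup G) : Set G) := by
      have h1 : (V4K.map ψ).relIndex P ∣ 2 := by
        have h2 := H54.QA.card_rel hVP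
        rw [hV4] at h2
        have h3 : 4 * (V4K.map ψ).relIndex P ∣ 4 * 2 := by rw [h2]; exact h8
        exact (Nat.mul_dvd_mul_iff_left (by norm_num)).1 h3
      rcases (Nat.dvd_prime Nat.prime_two).1 h1 with h2 | h2
      · rw [relIndex_eq_one] at h2
        exact h2.trans le_normalizer
      · have h3 : ((V4K.map ψ).subgroupOf (P : Subgroup G)).Normal := Subgroup.normal_of_index_eq_two h2
        intro p hp
        apply mem_normalizer_fintype
        intro x hx
        exact h3.conj_mem ⟨x, hVP hx⟩ hx ⟨p, hp⟩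
    obtain ⟨k, _, hk⟩ := h.NV hX' (hN htP)
    exact hnr k hk.symm
  obtain ⟨r, hr⟩ := IsPGroup.iff_card.1 P.2
  have h16 : 16 ∣ Nat.card P := by
    rw [hr]
    have : 4 ≤ r := by
      by_contra hc
      apply hsmall
      rw [hr]
      have : r ≤ 3 := by omega
      exact (pow_dvd_pow 2 this)
    exact (pow_dvd_pow 2 this : 2 ^ 4 ∣ 2 ^ r)
  rcases Cfsg.Agent.S3224.result (S := P) P.2 ⟨ψ a2, ha2P⟩ (by rw [← orderOf_coe]; exact ha2o) hC4 with ⟨m, ⟨e⟩⟩ | hqd | h4
  · exact h.bad_dih P hVP hz h16 e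
  · have ha1o : ψ a1 ≠ 1 := by
      intro h1
      have h3 : a1 = 1 := h.inj (by rw [h1, map_one])
      exact absurd (congrArg Subtype.val h3) (by decide +kernel)
    have ha12 : ψ a2 ≠ ψ a1 := by
      intro h1
      exact absurd (congrArg Subtype.val (h.inj h1)) (by decide +kernel)
    obtain ⟨x, hx⟩ := qd_conj (S := P) hqd (z := ⟨ψ a1, ha1P⟩) (v := ⟨ψ a2, ha2P⟩) (t := ⟨t, htP⟩)
      (fun g => Subtype.ext (hz g g.2)) (Subtype.ext (by change ψ a1 * ψ a1 = 1; rw [← map_mul, a1a1, map_one]))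
      (fun h1 => ha1o (congrArg Subtype.val h1)) (Subtype.ext (by change ψ a2 * ψ a2 = 1; rw [← map_mul, a2a2, map_one]))
      (fun h1 => by
        have h2 : ψ a2 = 1 := congrArg Subtype.val h1
        rw [h2, orderOf_one] at ha2o; norm_num at ha2o)
      (fun h1 => ha12 (congrArg Subtype.val h1)) (Subtype.ext htt) (fun h1 => ht1 (congrArg Subtype.val h1))
      (fun h1 => by
        have h2 : t = ψ a1 := congrArg Subtype.val h1
        exact hnr a1 h2)
    have hx' : (x : G) * ψ a2 * (x : G)⁻¹ = t := congrArg Subtype.val hx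
    apply hnc (ψ dd * (x : G)⁻¹)
    have e1 : ψ dd * ψ a2 * (ψ dd)⁻¹ = ψ a1 := by rw [← map_inv, ← map_mul, ← map_mul, dd_a2]
    rw [← hx', ← e1]; group
  · apply hsmall
    rw [h4]; norm_num

end H54.QA
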