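import Mathlib
import Cfsg.Agent.Lib.H54.QA8
import Cfsg.Agent.Lib.H54.QA0

/-! 3-local characterization of `Alt(8)`: the subgroup `Alt(8)` (helper54). -/

set_option autoImplicit false
set_option linter.unusedSectionVars false
set_option linter.unusedVariables false
set_option linter.style.haveILetI false
set_option maxRecDepth 100000

namespace H54.QA

open Equiv Subgroup
open scoped Pointwise

theorem b_final : ∀ b4 : Perm (Fin 5), Perm.sign b4 = -1 → b4 * b4 = 1 → b4 * e5 * b4⁻¹ = e5⁻¹ →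
    ∀ b2 : Perm (Fin 5), Perm.sign b2 = 1 → b2 * b2 = 1 → b2 * e5 * b2⁻¹ = e5⁻¹ → b2 * b4 = b4 * b2 →
    ∀ b1 : Perm (Fin 5), Perm.sign b1 = 1 → b1 * b1 = 1 → b1 ≠ 1 → (e5 * b1) ^ 3 = 1 → b1 * b4 = b4 * b1 →
      (b1 * b2) ^ 3 = 1 := by decide +kernel

def kap : KK := ⟨(1, swap 0 1 * swap 1 2 * swap 2 3 * swap 3 4), by rw [mem_KK]; decide⟩

theorem kap_cc : kap * cc = cc * kap := kext (by decide +kernel)
theorem kap_dd : kap * dd * kap⁻¹ = ee := kext (by decide +kernel)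
theorem ee_eq : ee = a2 * dd⁻¹ := kext (by decide +kernel)
theorem t12 : t1 * t2 = dd := kext (by decide +kernel)
theorem t23 : t2 * t3 = ee := kext (by decide +kernel)
theorem t0_ee : t0 * ee = ee * t0 := kext (by decide +kernel)
theorem t2_ee : t2 * ee * t2⁻¹ = ee⁻¹ := kext (by decide +kernel)
theorem t1_dd : t1 * dd * t1⁻¹ = dd⁻¹ := kext (by decide +kernel)
theorem t0_cc : t0 * cc * t0⁻¹ = cc⁻¹ := kext (by decide +kernel)
theorem t1_cc : t1 * cc * t1⁻¹ = cc⁻¹ := kext (by decide +kernel)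
theorem t2_cc : t2 * cc * t2⁻¹ = cc⁻¹ := kext (by decide +kernel)
theorem t3_cc : t3 * cc * t3⁻¹ = cc⁻¹ := kext (by decide +kernel)
theorem t02 : t0 * t2 = t2 * t0 := kext (by decide +kernel)
theorem t0t0 : t0 * t0 = 1 := kext (by decide +kernel)
theorem t1t1 : t1 * t1 = 1 := kext (by decide +kernel)
theorem t2t2 : t2 * t2 = 1 := kext (by decide +kernel)
theorem t3t3 : t3 * t3 = 1 := kext (by decide +kernel)
theorem t1n1 : t1⁻¹ * a1 * t1 = a1 ∨ t1⁻¹ * a1 * t1 = a2 ∨ t1⁻¹ * a1 * t1 = a3 := by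
  left; exact kext (by decide +kernel)
theorem t1n2 : t1⁻¹ * a2 * t1 = a1 ∨ t1⁻¹ * a2 * t1 = a2 ∨ t1⁻¹ * a2 * t1 = a3 := by
  right; right; exact kext (by decide +kernel)

variable {G : Type*} [Group G] [Finite G] {ψ : KK →* G} {n : G} {T : Subgroup G}

theorem conj_eq {x y z : G} (h : x * y * x⁻¹ = z) : x * y = z * x := by rw [← h]; group

/-- the element `x₁`. -/
theorem Dat.exx (h : Dat ψ n) (hT : IsT ψ T) {w : G} (hwT : w ∈ T) (hwd : w * ψ dd = ψ dd * w) (hw1 : w ≠ 1)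
    (hww : w * w = 1) (hnorm : w * (ψ cc * w * (ψ cc)⁻¹) * (ψ cc * ψ cc * w * (ψ cc * ψ cc)⁻¹) = 1)
    (hall : ∀ g ∈ T, g * ψ dd = ψ dd * g → g = 1 ∨ g = w ∨ g = ψ cc * w * (ψ cc)⁻¹ ∨ g = ψ cc * ψ cc * w * (ψ cc * ψ cc)⁻¹) :
    ∃ x ∈ T, x * ψ dd = ψ dd * x ∧ x ≠ 1 ∧ x * x = 1 ∧ (ψ cc * x) ^ 3 = 1 ∧ x * ψ t1 = ψ t1 * x := by
  obtain ⟨z, hz⟩ : ∃ z, z = ψ cc := ⟨_, rfl⟩
  obtain ⟨s, hs⟩ : ∃ s, s = ψ t1 := ⟨_, rfl⟩
  have hz3 : z ^ 3 = 1 := by rw [hz]; exact h.z3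
  have hz2 : z * z = z⁻¹ := by
    rw [eq_inv_iff_mul_eq_one, ← hz3, pow_succ, pow_two]
  have hsz : s * z * s⁻¹ = z⁻¹ := by rw [hs, hz, ← map_inv, ← map_inv, ← map_mul, ← map_mul, t1_cc]
  have hss : s * s = 1 := by rw [hs, ← map_mul, t1t1, map_one]
  have hsd : s * ψ dd * s⁻¹ = (ψ dd)⁻¹ := by rw [hs, ← map_inv, ← map_inv, ← map_mul, ← map_mul, t1_dd]
  have hzd : z * ψ dd = ψ dd * z := by rw [hz]; exact h.zw
  have hzT : ∀ x ∈ T, z * x * z⁻¹ ∈ T := fun x hx => by rw [hz]; exact hT.conj z_XV hx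
  have hsT : ∀ x ∈ T, s * x * s⁻¹ ∈ T := fun x hx => by rw [hs]; exact hT.conjk t1n1 t1n2 hx
  have hw3 : (z * w) ^ 3 = 1 := by
    rw [← hz] at hnorm
    have e1 : (z * w) ^ 3 = w⁻¹ * (w * (z * w * z⁻¹) * (z * z * w * (z * z)⁻¹)) * (z ^ 3) * w := by
      rw [pow_succ, pow_two, pow_succ, pow_two]; group
    rw [e1, hnorm, hz3]; group
  have hzwd : (z * w * z⁻¹) * ψ dd = ψ dd * (z * w * z⁻¹) := by
    have e1 : Commute z (ψ dd) := hzd
    have e2 : Commute w (ψ dd) := hwd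
    exact ((e1.mul_left e2).mul_left e1.inv_left).eq
  have hzzwd : (z * (z * w * z⁻¹) * z⁻¹) * ψ dd = ψ dd * (z * (z * w * z⁻¹) * z⁻¹) := by
    have e1 : Commute z (ψ dd) := hzd
    have e2 : Commute (z * w * z⁻¹) (ψ dd) := hzwd
    exact ((e1.mul_left e2).mul_left e1.inv_left).eq
  have hcn : ∀ x, x ≠ 1 → z * x * z⁻¹ ≠ 1 := by
    intro x hx h1; apply hx
    calc x = z⁻¹ * (z * x * z⁻¹) * z := by group
      _ = 1 := by rw [h1]; group
  have hcs : ∀ x, x * x = 1 → (z * x * z⁻¹) * (z * x * z⁻¹) = 1 := by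
    intro x hx
    calc (z * x * z⁻¹) * (z * x * z⁻¹) = z * (x * x) * z⁻¹ := by group
      _ = 1 := by rw [hx]; group
  have hc3 : ∀ x, (z * x) ^ 3 = 1 → (z * (z * x * z⁻¹)) ^ 3 = 1 := by
    intro x hx
    have : z * (z * x * z⁻¹) = z * (z * x) * z⁻¹ := by group
    rw [this, conj_pow, hx]; group
  have hsw : (s * w * s⁻¹) * ψ dd = ψ dd * (s * w * s⁻¹) := by
    have e1 : Commute w (ψ dd)⁻¹ := (show Commute w (ψ dd) from hwd).inv_right
    have e2 := (show w * (ψ dd)⁻¹ = (ψ dd)⁻¹ * w from e1.eq)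
    have hsi : s⁻¹ = s := inv_eq_of_mul_eq_one_left hss
    have e3 : s⁻¹ * ψ dd * s = (ψ dd)⁻¹ := by rw [hsi] at hsd ⊢; exact hsd
    calc (s * w * s⁻¹) * ψ dd = s * (w * (s⁻¹ * ψ dd * s)) * s⁻¹ := by group
      _ = s * ((s⁻¹ * ψ dd * s) * w) * s⁻¹ := by rw [e3, e2]
      _ = _ := by group
  have hsz' : s * z = z⁻¹ * s := conj_eq hsz
  have hszi : s * z⁻¹ = z * s := by
    have : s * z⁻¹ * s⁻¹ = z := by
      calc s * z⁻¹ * s⁻¹ = (s * z * s⁻¹)⁻¹ := by group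
        _ = z := by rw [hsz, inv_inv]
    exact conj_eq this
  rcases hall _ (hsT w hwT) hsw with e | e | e | e
  · exfalso; apply hw1
    calc w = s⁻¹ * (s * w * s⁻¹) * s := by group
      _ = 1 := by rw [e]; group
  · refine ⟨w, hwT, hwd, hw1, hww, by rw [← hz]; exact hw3, ?_⟩
    rw [← hs]; exact (conj_eq e).symm
  · -- s w s⁻¹ = z w z⁻¹ : take z² w z⁻²
    rw [← hz] at e
    refine ⟨z * (z * w * z⁻¹) * z⁻¹, hzT _ (hzT _ hwT), hzzwd, hcn _ (hcn _ hw1), hcs _ (hcs _ hww), ?_, ?_⟩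
    · rw [← hz]; exact hc3 _ (hc3 _ hw3)
    · rw [← hs]
      have e2 : s * w = z * w * z⁻¹ * s := conj_eq e
      have e3 : z * (z * w * z⁻¹) * z⁻¹ = z⁻¹ * w * z := by
        calc z * (z * w * z⁻¹) * z⁻¹ = (z * z) * w * (z * z)⁻¹ := by group
          _ = z⁻¹ * w * z := by rw [hz2, inv_inv]
      rw [e3]
      symm
      calc s * (z⁻¹ * w * z) = (s * z⁻¹) * w * z := by group
        _ = z * (s * w) * z := by rw [hszi]; group
        _ = z * z * w * z⁻¹ * (s * z) := by rw [e2]; group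
        _ = (z * z) * w * (z⁻¹ * z⁻¹) * s := by rw [hsz']; group
        _ = z⁻¹ * w * (z * z)⁻¹ * s := by rw [hz2]; congr 2; rw [← mul_inv_rev, hz2]
        _ = z⁻¹ * w * z * s := by rw [hz2, inv_inv]
  · rw [← hz] at e
    refine ⟨z * w * z⁻¹, hzT _ hwT, hzwd, hcn _ hw1, hcs _ hww, ?_, ?_⟩
    · rw [← hz]; exact hc3 _ hw3
    · rw [← hs]
      have e2 : s * w = z⁻¹ * w * z * s := by
        have := conj_eq e
        rw [this, hz2, inv_inv]
      symm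
      calc s * (z * w * z⁻¹) = (s * z) * w * z⁻¹ := by group
        _ = z⁻¹ * (s * w) * z⁻¹ := by rw [hsz']; group
        _ = (z⁻¹ * z⁻¹) * w * z * (s * z⁻¹) := by rw [e2]; group
        _ = (z * z)⁻¹ * w * (z * z) * s := by rw [hszi]; group
        _ = z * w * z⁻¹ * s := by rw [hz2, inv_inv]

theorem Dat.x12 (h : Dat ψ n) {x : G} (hx1 : x ≠ 1) (hxx : x * x = 1) (hx3 : (ψ cc * x) ^ 3 = 1)
    (hxe : x * ψ ee = ψ ee * x) (hxt : x * ψ t2 = ψ t2 * x) : (x * ψ t0) ^ 3 = 1 := by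
  obtain ⟨N, hN⟩ : ∃ N, N = ψ kap * n * (ψ kap)⁻¹ := ⟨_, rfl⟩
  have hkc : ψ kap * ψ cc * (ψ kap)⁻¹ = ψ cc := by
    rw [← map_inv, ← map_mul, ← map_mul, kap_cc]; congr 1; group
  have hkc' : (ψ kap)⁻¹ * ψ cc * ψ kap = ψ cc := by
    conv_lhs => rw [← hkc]
    group
  have hkd : ψ kap * ψ dd * (ψ kap)⁻¹ = ψ ee := by rw [← map_inv, ← map_mul, ← map_mul, kap_dd]
  have hkd' : (ψ kap)⁻¹ * ψ ee * ψ kap = ψ dd := by rw [← hkd]; group
  have hN1 : N * ψ cc * N⁻¹ = ψ ee := by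
    rw [hN]
    calc ψ kap * n * (ψ kap)⁻¹ * ψ cc * (ψ kap * n * (ψ kap)⁻¹)⁻¹
        = ψ kap * (n * ((ψ kap)⁻¹ * ψ cc * ψ kap) * n⁻¹) * (ψ kap)⁻¹ := by group
      _ = ψ ee := by rw [hkc', h.sw1, hkd]
  have hN2 : N * ψ ee * N⁻¹ = ψ cc := by
    rw [hN]
    calc ψ kap * n * (ψ kap)⁻¹ * ψ ee * (ψ kap * n * (ψ kap)⁻¹)⁻¹
        = ψ kap * (n * ((ψ kap)⁻¹ * ψ ee * ψ kap) * n⁻¹) * (ψ kap)⁻¹ := by group
      _ = ψ cc := by rw [hkd', h.sw2, hkc]
  -- conjugated elements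
  obtain ⟨c, hc⟩ : ∃ c : G →* G, ∀ g, c g = N⁻¹ * g * N :=
    ⟨(MulAut.conj N⁻¹).toMonoidHom, fun g => by change N⁻¹ * g * N⁻¹⁻¹ = _; rw [inv_inv]⟩
  have cinj : Function.Injective c := by
    intro a b hab
    rw [hc, hc] at hab
    simpa using hab
  have ce : c (ψ ee) = ψ cc := by rw [hc, ← hN1]; group
  have cz : c (ψ cc) = ψ ee := by rw [hc, ← hN2]; group
  -- x
  obtain ⟨b1, hb1, hxb, hb11⟩ := h.u1 (t := c x) (by rw [← map_mul, hxx, map_one]) (by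
    have e := congrArg c hxe
    simp only [map_mul] at e
    rw [ce] at e; exact e)
  obtain ⟨b2, hb2, htb, hb22⟩ := h.u1 (t := c (ψ t0)) (by
    have e := congrArg c (congrArg ψ t0t0)
    simp only [map_mul, map_one] at e
    exact e) (by
    have e := congrArg c (congrArg ψ t0_ee)
    simp only [map_mul] at e
    rw [ce] at e; exact e)
  have h4n : c (ψ t2) * ψ cc * (c (ψ t2))⁻¹ = (ψ cc)⁻¹ := by
    have e := congrArg c (congrArg ψ t2_ee)
    simp only [map_mul, map_inv] at e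
    rw [ce] at e
    exact e
  obtain ⟨k4, hk4⟩ := h.range (c (ψ t2)) (inv_norm (by rw [h4n]; exact inv_mem (mem_zpowers _)))
  obtain ⟨⟨a4, b4⟩, hab4⟩ := k4
  have q1 : (⟨(a4, b4), hab4⟩ : KK) * ⟨(a4, b4), hab4⟩ = 1 := h.inj (by
    have e := congrArg c (congrArg ψ t2t2)
    simp only [map_mul, map_one] at e ⊢
    rw [hk4]; exact e)
  have q2 : (⟨(a4, b4), hab4⟩ : KK) * cc * (⟨(a4, b4), hab4⟩ : KK)⁻¹ = cc⁻¹ := h.inj (by
    simp only [map_mul, map_inv]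
    rw [hk4]; exact h4n)
  have q3 : (⟨(a4, b4), hab4⟩ : KK) * ee * (⟨(a4, b4), hab4⟩ : KK)⁻¹ = ee⁻¹ := h.inj (by
    have e := congrArg c (congrArg ψ t2_cc)
    simp only [map_mul, map_inv] at e ⊢
    rw [cz] at e
    rw [hk4]; exact e)
  have q4 : bb b1 hb1 * (⟨(a4, b4), hab4⟩ : KK) = (⟨(a4, b4), hab4⟩ : KK) * bb b1 hb1 := h.inj (by
    have e := congrArg c hxt
    simp only [map_mul] at e ⊢
    rw [hxb] at e
    rw [hk4]; exact e)
  have q5 : bb b2 hb2 * (⟨(a4, b4), hab4⟩ : KK) = (⟨(a4, b4), hab4⟩ : KK) * bb b2 hb2 := h.inj (by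
    have e := congrArg c (congrArg ψ t02)
    simp only [map_mul] at e ⊢
    rw [htb] at e
    rw [hk4]; exact e)
  have q6 : bb b2 hb2 * ee * (bb b2 hb2)⁻¹ = ee⁻¹ := h.inj (by
    have e := congrArg c (congrArg ψ t0_cc)
    simp only [map_mul, map_inv] at e ⊢
    rw [htb, cz] at e
    exact e)
  have q7 : (ee * bb b1 hb1) ^ 3 = 1 := h.inj (by
    have e := congrArg c hx3
    simp only [map_pow, map_mul, map_one] at e ⊢
    rw [cz, hxb] at e
    exact e)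
  have hb1n : b1 ≠ 1 := by
    rintro rfl
    apply hx1
    apply cinj
    have : bb 1 hb1 = 1 := rfl
    rw [hxb, this, map_one, map_one]
  have ha4 : Perm.sign a4 = -1 := by
    have : ∀ a : Perm (Fin 3), a * c3 * a⁻¹ = c3⁻¹ → Perm.sign a = -1 := by decide +kernel
    exact this a4 (congrArg Prod.fst (congrArg Subtype.val q2))
  have hb4 : Perm.sign b4 = -1 := by
    have := (mem_KK a4 b4).1 hab4
    rw [ha4] at this
    rcases Int.units_eq_one_or (Perm.sign b4) with e | e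
    · rw [e] at this; exact absurd this (by decide)
    · exact e
  have hfin := b_final b4 hb4 (congrArg Prod.snd (congrArg Subtype.val q1)) (congrArg Prod.snd (congrArg Subtype.val q3))
    b2 hb2 hb22 (congrArg Prod.snd (congrArg Subtype.val q6)) (congrArg Prod.snd (congrArg Subtype.val q5))
    b1 hb1 hb11 hb1n (congrArg Prod.snd (congrArg Subtype.val q7)) (congrArg Prod.snd (congrArg Subtype.val q4))
  apply cinj
  have : (bb b1 hb1 * bb b2 hb2) ^ 3 = 1 := by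
    apply kext
    change (((1 : Perm (Fin 3)) * 1) ^ 3, (b1 * b2) ^ 3) = (1, 1)
    rw [hfin]; simp
  have e := congrArg ψ this
  simp only [map_pow, map_mul, map_one] at e ⊢
  rw [hxb, htb]; exact e

end H54.QA
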