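import Mathlib
import Cfsg.Agent.Lib.H54.QA9

/-! 3-local characterization of `Alt(8)`: the homomorphism `Alt(8) → G` (helper54). -/

set_option autoImplicit false
set_option linter.unusedSectionVars false
set_option linter.unusedVariables false
set_option linter.style.haveILetI false
set_option maxRecDepth 100000

namespace H54.QA

open Equiv Subgroup
open scoped Pointwise

abbrev A8 := alternatingGroup (Fin 8)

def iota0 : (Perm (Fin 3) × Perm (Fin 5)) →* Perm (Fin 8) :=
  (finSumFinEquiv (m := 3) (n := 5)).permCongrHom.toMonoidHom.comp (Perm.sumCongrHom (Fin 3) (Fin 5))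

theorem iota0_sign (k : Perm (Fin 3) × Perm (Fin 5)) : Perm.sign (iota0 k) = Perm.sign k.1 * Perm.sign k.2 := by
  change Perm.sign ((finSumFinEquiv (m := 3) (n := 5)).permCongr (Perm.sumCongr k.1 k.2)) = _
  rw [Perm.sign_permCongr, Perm.sign_sumCongr]

theorem iota0_inj : Function.Injective iota0 := by
  apply Function.Injective.comp (g := (finSumFinEquiv (m := 3) (n := 5)).permCongrHom)
  · exact (finSumFinEquiv (m := 3) (n := 5)).permCongrHom.injective
  · exact Perm.sumCongrHom_injective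

def iota : KK →* A8 where
  toFun k := ⟨iota0 k, by
    rw [Perm.mem_alternatingGroup, iota0_sign]; exact k.2⟩
  map_one' := Subtype.ext (map_one iota0)
  map_mul' x y := Subtype.ext (map_mul iota0 _ _)

theorem iota_inj : Function.Injective iota := by
  intro x y hxy
  apply kext
  exact iota0_inj (congrArg Subtype.val hxy)

def gg (i : Fin 6) : A8 := ⟨sw 8 0 * sw 8 (i.val + 1), by
  rw [Perm.mem_alternatingGroup, map_mul, sw_sign (by norm_num), sw_sign (by omega)]; rfl⟩

theorem aext {x y : A8} (h : (x : Perm (Fin 8)) = y) : x = y := Subtype.ext h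

theorem i_cc : iota cc = gg 0 := aext (by decide +kernel)
theorem i_t0 : iota t0 = gg 2 := aext (by decide +kernel)
theorem i_t1 : iota t1 = gg 3 := aext (by decide +kernel)
theorem i_t2 : iota t2 = gg 4 := aext (by decide +kernel)
theorem i_t3 : iota t3 = gg 5 := aext (by decide +kernel)

theorem c3_norm : ∀ a : Perm (Fin 3), a * c3 * a⁻¹ = c3 ∨ a * c3 * a⁻¹ = c3⁻¹ := by decide +kernel

theorem k_norm (k : KK) : k * cc * k⁻¹ = cc ∨ k * cc * k⁻¹ = cc⁻¹ := by
  obtain ⟨⟨a, b⟩, hab⟩ := k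
  rcases c3_norm a with h | h
  · left; apply kext
    change (a * c3 * a⁻¹, b * 1 * b⁻¹) = (c3, 1)
    rw [h]; simp
  · right; apply kext
    change (a * c3 * a⁻¹, b * 1 * b⁻¹) = (c3⁻¹, (1 : Perm (Fin 5))⁻¹)
    rw [h]; simp

theorem r02 : (cc * t0) ^ 2 = 1 := kext (by decide +kernel)
theorem r03 : (cc * t1) ^ 2 = 1 := kext (by decide +kernel)
theorem r04 : (cc * t2) ^ 2 = 1 := kext (by decide +kernel)
theorem r05 : (cc * t3) ^ 2 = 1 := kext (by decide +kernel)
theorem r23 : (t0 * t1) ^ 3 = 1 := kext (by decide +kernel)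
theorem r34 : (t1 * t2) ^ 3 = 1 := kext (by decide +kernel)
theorem r45 : (t2 * t3) ^ 3 = 1 := kext (by decide +kernel)
theorem r24 : (t0 * t2) ^ 2 = 1 := kext (by decide +kernel)
theorem r25 : (t0 * t3) ^ 2 = 1 := kext (by decide +kernel)
theorem r35 : (t1 * t3) ^ 2 = 1 := kext (by decide +kernel)

variable {G : Type*} [Group G] [Finite G] {ψ : KK →* G} {n : G} {T : Subgroup G}

theorem comm_sq {x y : G} (h : x * y = y * x) (hx : x * x = 1) (hy : y * y = 1) : (x * y) ^ 2 = 1 := by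
  rw [(show Commute x y from h).mul_pow, pow_two, pow_two, hx, hy, one_mul]

theorem Dat.exf (h : Dat ψ n) : ∃ f : A8 →* G, Function.Injective f ∧ Dat (f.comp iota) n := by
  obtain ⟨T, hT1, hT, hX⟩ := h.exT
  rcases h.Wclass hT with hbad | ⟨w, hwT, hwd, hw1, hww, hnorm, hall⟩
  · exfalso
    refine h.bad hT hX ?_
    intro t ht
    obtain ⟨v, w', hv, hw', hwd, rfl⟩ := h.Tgen hT ht
    rw [hbad w' hw' hwd, mul_one]
    exact mem_VG.2 hv
  obtain ⟨x, hxT, hxd, hx1, hxx, hx3, hxt1⟩ := h.exx hT hwT hwd hw1 hww hnorm hall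
  have hxV := (mem_XV x).1 ((hT x).1 hxT).1
  have hxt2 : x * ψ t2 = ψ t2 * x := by
    have e1 : ψ t2 = (ψ t1)⁻¹ * ψ dd := by rw [← t12, map_mul]; group
    rw [e1]
    exact ((show Commute x (ψ t1) from hxt1).inv_right.mul_right (show Commute x (ψ dd) from hxd)).eq
  have hxe : x * ψ ee = ψ ee * x := by
    rw [ee_eq, map_mul, map_inv]
    exact ((show Commute x (ψ a2) from hxV.2).mul_right (show Commute x (ψ dd) from hxd).inv_right).eq
  have hxt3 : x * ψ t3 = ψ t3 * x := by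
    have e1 : ψ t3 = (ψ t2)⁻¹ * ψ ee := by rw [← t23, map_mul]; group
    rw [e1]
    exact ((show Commute x (ψ t2) from hxt2).inv_right.mul_right (show Commute x (ψ ee) from hxe)).eq
  have h12 := h.x12 hx1 hxx hx3 hxe hxt2
  have s0 : ψ t0 * ψ t0 = 1 := by rw [← map_mul, t0t0, map_one]
  have s1 : ψ t1 * ψ t1 = 1 := by rw [← map_mul, t1t1, map_one]
  have s2 : ψ t2 * ψ t2 = 1 := by rw [← map_mul, t2t2, map_one]
  have s3 : ψ t3 * ψ t3 = 1 := by rw [← map_mul, t3t3, map_one]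
  have rel : ∀ (a b : KK) (m : ℕ), (a * b) ^ m = 1 → (ψ a * ψ b) ^ m = 1 := by
    intro a b m hm; rw [← map_mul, ← map_pow, hm, map_one]
  obtain ⟨X, hX0⟩ : ∃ X : Fin 6 → G, X = ![ψ cc, x, ψ t0, ψ t1, ψ t2, ψ t3] := ⟨_, rfl⟩
  have x0 : X 0 = ψ cc := by rw [hX0]; rfl
  have x1 : X 1 = x := by rw [hX0]; rfl
  have x2 : X 2 = ψ t0 := by rw [hX0]; rfl
  have x3 : X 3 = ψ t1 := by rw [hX0]; rfl
  have x4 : X 4 = ψ t2 := by rw [hX0]; rfl
  have x5 : X 5 = ψ t3 := by rw [hX0]; rfl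
  obtain ⟨f, hf⟩ := alt8_hom X (by rw [x0]; exact h.z3)
    (by
      intro i hi
      fin_cases i
      · exact absurd hi (by decide)
      · change X 1 ^ 2 = 1; rw [x1, pow_two]; exact hxx
      · change X 2 ^ 2 = 1; rw [x2, pow_two]; exact s0
      · change X 3 ^ 2 = 1; rw [x3, pow_two]; exact s1
      · change X 4 ^ 2 = 1; rw [x4, pow_two]; exact s2
      · change X 5 ^ 2 = 1; rw [x5, pow_two]; exact s3)
    (by
      intro i j hij
      have hj : j = ⟨i.val + 1, by have := j.2; omega⟩ := Fin.ext hij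
      have hi : i.val < 5 := by have := j.2; omega
      fin_cases i
      · rw [hj]; change (X 0 * X 1) ^ 3 = 1; rw [x0, x1]; exact hx3
      · rw [hj]; change (X 1 * X 2) ^ 3 = 1; rw [x1, x2]; exact h12
      · rw [hj]; change (X 2 * X 3) ^ 3 = 1; rw [x2, x3]; exact rel _ _ _ r23
      · rw [hj]; change (X 3 * X 4) ^ 3 = 1; rw [x3, x4]; exact rel _ _ _ r34
      · rw [hj]; change (X 4 * X 5) ^ 3 = 1; rw [x4, x5]; exact rel _ _ _ r45
      · exact absurd hi (by decide))
    (by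
      have key : ∀ i j : Fin 6, i.val + 1 < j.val → (i = 0 ∧ j = 2) ∨ (i = 0 ∧ j = 3) ∨ (i = 0 ∧ j = 4) ∨ (i = 0 ∧ j = 5) ∨
          (i = 1 ∧ j = 3) ∨ (i = 1 ∧ j = 4) ∨ (i = 1 ∧ j = 5) ∨ (i = 2 ∧ j = 4) ∨ (i = 2 ∧ j = 5) ∨ (i = 3 ∧ j = 5) := by
        decide
      intro i j hij
      rcases key i j hij with ⟨rfl, rfl⟩ | ⟨rfl, rfl⟩ | ⟨rfl, rfl⟩ | ⟨rfl, rfl⟩ | ⟨rfl, rfl⟩ | ⟨rfl, rfl⟩ | ⟨rfl, rfl⟩ |
        ⟨rfl, rfl⟩ | ⟨rfl, rfl⟩ | ⟨rfl, rfl⟩
      · rw [x0, x2]; exact rel _ _ _ r02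
      · rw [x0, x3]; exact rel _ _ _ r03
      · rw [x0, x4]; exact rel _ _ _ r04
      · rw [x0, x5]; exact rel _ _ _ r05
      · rw [x1, x3]; exact comm_sq hxt1 hxx s1
      · rw [x1, x4]; exact comm_sq hxt2 hxx s2
      · rw [x1, x5]; exact comm_sq hxt3 hxx s3
      · rw [x2, x4]; exact rel _ _ _ r24
      · rw [x2, x5]; exact rel _ _ _ r25
      · rw [x3, x5]; exact rel _ _ _ r35)
  have fg : ∀ i : Fin 6, f (gg i) = X i := fun i => hf i (gg i) rfl
  have fcc : (f.comp iota) cc = ψ cc := by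
    change f (iota cc) = _; rw [i_cc, fg, x0]
  have ft : (f.comp iota) dd = ψ dd := by
    rw [← t12, map_mul]
    change f (iota t1) * f (iota t2) = _
    rw [i_t1, i_t2, fg, fg, x3, x4, ← map_mul]
  have finj : Function.Injective f := by
    have hs : IsSimpleGroup A8 := alternatingGroup.isSimpleGroup (by rw [Nat.card_eq_fintype_card, Fintype.card_fin]; norm_num)
    rw [← MonoidHom.ker_eq_bot_iff]
    rcases hs.eq_bot_or_eq_top_of_normal f.ker inferInstance with h1 | h1
    · exact h1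
    · exfalso
      apply h.zne
      rw [← fcc]
      have : iota cc ∈ f.ker := by rw [h1]; trivial
      exact MonoidHom.mem_ker.1 this
  have inj' : Function.Injective (f.comp iota) := finj.comp iota_inj
  refine ⟨f, finj, inj', ?_, ?_, ?_, ?_, h.c27⟩
  · -- range
    have hR : (f.comp iota).range ≤ normalizer (zpowers (ψ cc) : Set G) := by
      rintro _ ⟨k, rfl⟩
      apply inv_norm
      rw [← fcc, ← map_inv, ← map_mul, ← map_mul]
      rcases k_norm k with e | e <;> rw [e]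
      · exact mem_zpowers _
      · rw [map_inv]; exact inv_mem (mem_zpowers _)
    have hc1 : Nat.card (f.comp iota).range = Nat.card KK :=
      (Nat.card_congr (MonoidHom.ofInjective inj').toEquiv).symm
    have hc2 : Nat.card ψ.range = Nat.card KK :=
      (Nat.card_congr (MonoidHom.ofInjective h.inj).toEquiv).symm
    have hN : normalizer (zpowers (ψ cc) : Set G) ≤ ψ.range := by
      intro g hg
      obtain ⟨k, hk⟩ := h.range g hg
      exact ⟨k, hk⟩
    have he : (f.comp iota).range = normalizer (zpowers (ψ cc) : Set G) := by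
      apply eq_of_le_of_card_ge hR
      rw [hc1, ← hc2]
      exact card_le_of_le hN
    intro g hg
    rw [fcc, ← he] at hg
    exact hg
  · rw [fcc, ft]; exact h.sw1
  · rw [fcc, ft]; exact h.sw2
  · rw [fcc, ft]; exact h.cy

end H54.QA
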