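import Mathlib
import Cfsg.Agent.Lib.H54.QAA
import Cfsg.Agent.Lib.H3.CardSup

/-! 3-local characterization of `Alt(8)`: the elementary abelian group of order 16 (helper54). -/

set_option autoImplicit false
set_option linter.unusedSectionVars false
set_option linter.unusedVariables false
set_option linter.style.haveILetI false
set_option maxRecDepth 100000

namespace H54.QA

open Equiv Subgroup
open scoped Pointwise

def mkA (σ : Perm (Fin 8)) (h : Perm.sign σ = 1) : A8 := ⟨σ, Perm.mem_alternatingGroup.2 h⟩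

def U1 : A8 := mkA (swap 4 5 * swap 6 7) (by decide)
def U2 : A8 := mkA (swap 4 6 * swap 5 7) (by decide)
def U3 : A8 := mkA (swap 4 7 * swap 5 6) (by decide)
def P1 : A8 := mkA (swap 0 1 * swap 2 3) (by decide)
def P2 : A8 := mkA (swap 0 2 * swap 1 3) (by decide)
def P3 : A8 := mkA (swap 0 3 * swap 1 2) (by decide)
def S0 : A8 := mkA (swap 0 4 * swap 1 5 * swap 2 6 * swap 3 7) (by decide)
def R0 : A8 := mkA (swap 0 1 * swap 4 5) (by decide)
def JJ : A8 := mkA (swap 0 1 * swap 2 3 * (swap 4 5 * swap 6 7)) (by decide)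
def CC : A8 := mkA (swap 0 1 * swap 1 2) (by decide)
def DDD : A8 := mkA (swap 4 5 * swap 5 6) (by decide)

attribute [irreducible] U1 U2 U3 P1 P2 P3 S0 R0 JJ CC DDD

theorem i_a1 : iota a1 = U1 := aext (by decide +kernel)
theorem i_a2 : iota a2 = U2 := aext (by decide +kernel)
theorem i_a3 : iota a3 = U3 := aext (by decide +kernel)
theorem i_cc' : iota cc = CC := aext (by decide +kernel)
theorem i_dd' : iota dd = DDD := aext (by decide +kernel)

def V4A : Subgroup A8 := V4K.map iota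
theorem mem_V4A {x : A8} : x ∈ V4A ↔ x = 1 ∨ x = U1 ∨ x = U2 ∨ x = U3 := by
  rw [V4A, Subgroup.mem_map]
  constructor
  · rintro ⟨k, hk, rfl⟩
    rcases hk with rfl | rfl | rfl | rfl
    · left; exact map_one _
    · right; left; exact i_a1
    · right; right; left; exact i_a2
    · right; right; right; exact i_a3
  · rintro (rfl | rfl | rfl | rfl)
    · exact ⟨1, one_mem _, map_one _⟩
    · exact ⟨a1, Or.inr (Or.inl rfl), i_a1⟩
    · exact ⟨a2, Or.inr (Or.inr (Or.inl rfl)), i_a2⟩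
    · exact ⟨a3, Or.inr (Or.inr (Or.inr rfl)), i_a3⟩

theorem S_U1 : S0 * U1 * S0⁻¹ = P1 := aext (by decide +kernel)
theorem S_U2 : S0 * U2 * S0⁻¹ = P2 := aext (by decide +kernel)
theorem S_U3 : S0 * U3 * S0⁻¹ = P3 := aext (by decide +kernel)
theorem S_P1 : S0 * P1 * S0⁻¹ = U1 := aext (by decide +kernel)
theorem S_P2 : S0 * P2 * S0⁻¹ = U2 := aext (by decide +kernel)
theorem S_P3 : S0 * P3 * S0⁻¹ = U3 := aext (by decide +kernel)

def P4A : Subgroup A8 := V4A.map (MulAut.conj S0).toMonoidHom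
theorem mem_P4A {x : A8} : x ∈ P4A ↔ x = 1 ∨ x = P1 ∨ x = P2 ∨ x = P3 := by
  rw [P4A, Subgroup.mem_map]
  constructor
  · rintro ⟨k, hk, rfl⟩
    rcases mem_V4A.1 hk with rfl | rfl | rfl | rfl
    · left; exact map_one _
    · right; left; exact S_U1
    · right; right; left; exact S_U2
    · right; right; right; exact S_U3
  · rintro (rfl | rfl | rfl | rfl)
    · exact ⟨1, one_mem _, map_one _⟩
    · exact ⟨U1, mem_V4A.2 (Or.inr (Or.inl rfl)), S_U1⟩
    · exact ⟨U2, mem_V4A.2 (Or.inr (Or.inr (Or.inl rfl))), S_U2⟩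
    · exact ⟨U3, mem_V4A.2 (Or.inr (Or.inr (Or.inr rfl))), S_U3⟩

theorem card_V4A : Nat.card V4A = 4 := by
  rw [← card_V4K]; exact (Nat.card_congr (V4K.equivMapOfInjective iota iota_inj).toEquiv).symm
theorem card_P4A : Nat.card P4A = 4 := by
  rw [← card_V4A]; exact (Nat.card_congr (V4A.equivMapOfInjective _ (MulAut.conj S0).injective).toEquiv).symm

theorem VP_comm : ∀ v ∈ V4A, ∀ p ∈ P4A, v * p = p * v := by
  intro v hv p hp
  rcases mem_V4A.1 hv with rfl | rfl | rfl | rfl <;> rcases mem_P4A.1 hp with rfl | rfl | rfl | rfl <;>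
    exact aext (by decide +kernel)

theorem VV_comm : ∀ v ∈ V4A, ∀ p ∈ V4A, v * p = p * v := by
  intro v hv p hp
  rcases mem_V4A.1 hv with rfl | rfl | rfl | rfl <;> rcases mem_V4A.1 hp with rfl | rfl | rfl | rfl <;>
    exact aext (by decide +kernel)

theorem PP_comm : ∀ v ∈ P4A, ∀ p ∈ P4A, v * p = p * v := by
  intro v hv p hp
  rcases mem_P4A.1 hv with rfl | rfl | rfl | rfl <;> rcases mem_P4A.1 hp with rfl | rfl | rfl | rfl <;>
    exact aext (by decide +kernel)

def EE : Subgroup A8 := V4A ⊔ P4A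

theorem mem_EE {x : A8} : x ∈ EE ↔ ∃ v ∈ V4A, ∃ p ∈ P4A, x = v * p := by
  constructor
  · intro hx; exact sup_mul VP_comm hx
  · rintro ⟨v, hv, p, hp, rfl⟩
    exact mul_mem (mem_sup_left hv) (mem_sup_right hp)

theorem EE_comm : ∀ v ∈ EE, ∀ p ∈ EE, v * p = p * v := by
  intro x hx y hy
  obtain ⟨v, hv, p, hp, rfl⟩ := mem_EE.1 hx
  obtain ⟨w, hw, q, hq, rfl⟩ := mem_EE.1 hy
  have c1 : Commute v w := VV_comm v hv w hw
  have c2 : Commute v q := VP_comm v hv q hq
  have c3 : Commute p w := (VP_comm w hw p hp).symm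
  have c4 : Commute p q := PP_comm p hp q hq
  exact ((c1.mul_right c2).mul_left (c3.mul_right c4)).eq

theorem VP_inf : V4A ⊓ P4A = ⊥ := by
  rw [eq_bot_iff]
  rintro x ⟨hx, hy⟩
  rw [mem_bot]
  rcases mem_V4A.1 hx with rfl | rfl | rfl | rfl
  · rfl
  all_goals
    exfalso
    rcases mem_P4A.1 hy with e | e | e | e <;> exact absurd (congrArg Subtype.val e) (by decide +kernel)

theorem card_EE : Nat.card EE = 16 := by
  have h1 := H3.CardSup.card_sup_mul_card_inf V4A P4A (by
    intro p hp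
    apply mem_normalizer_fintype
    intro v hv
    have : p * v * p⁻¹ = v := by
      rw [VP_comm p hp v hv]; group
    rw [this]; exact hv)
  rw [VP_inf, card_V4A, card_P4A] at h1
  rw [EE]
  simpa using h1

theorem sq_V : ∀ v ∈ V4A, v * v = 1 := by
  intro v hv
  rcases mem_V4A.1 hv with rfl | rfl | rfl | rfl <;> exact aext (by decide +kernel)
theorem sq_P : ∀ v ∈ P4A, v * v = 1 := by
  intro v hv
  rcases mem_P4A.1 hv with rfl | rfl | rfl | rfl <;> exact aext (by decide +kernel)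
theorem sq_EE : ∀ x ∈ EE, x * x = 1 := by
  intro x hx
  obtain ⟨v, hv, p, hp, rfl⟩ := mem_EE.1 hx
  have c := VP_comm v hv p hp
  calc v * p * (v * p) = v * (p * v) * p := by group
    _ = (v * v) * (p * p) := by rw [← c]; group
    _ = 1 := by rw [sq_V v hv, sq_P p hp, one_mul]

theorem C_P1 : CC * P1 * CC⁻¹ = P3 := aext (by decide +kernel)
theorem C_P3 : CC * P3 * CC⁻¹ = P2 := aext (by decide +kernel)
theorem C_P2 : CC * P2 * CC⁻¹ = P1 := aext (by decide +kernel)
theorem CCP1 : CC * CC * P1 * (CC * CC)⁻¹ = P2 := aext (by decide +kernel)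
theorem C_P2' : P2 = CC⁻¹ * P1 * CC := aext (by decide +kernel)
theorem C_P3' : P3 = (CC * CC)⁻¹ * P1 * (CC * CC) := aext (by decide +kernel)
theorem P1_mem : P1 ∈ P4A := mem_P4A.2 (Or.inr (Or.inl rfl))
theorem P2_mem : P2 ∈ P4A := mem_P4A.2 (Or.inr (Or.inr (Or.inl rfl)))
theorem P3_mem : P3 ∈ P4A := mem_P4A.2 (Or.inr (Or.inr (Or.inr rfl)))
theorem U1_mem : U1 ∈ V4A := mem_V4A.2 (Or.inr (Or.inl rfl))
theorem U2_mem : U2 ∈ V4A := mem_V4A.2 (Or.inr (Or.inr (Or.inl rfl)))
theorem U3_mem : U3 ∈ V4A := mem_V4A.2 (Or.inr (Or.inr (Or.inr rfl)))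

variable {G : Type*} [Group G] [Finite G] {f : A8 →* G} {n : G} {T : Subgroup G}

theorem pa1 : (f.comp iota) a1 = f U1 := by change f (iota a1) = _; rw [i_a1]
theorem pa2 : (f.comp iota) a2 = f U2 := by change f (iota a2) = _; rw [i_a2]
theorem pa3 : (f.comp iota) a3 = f U3 := by change f (iota a3) = _; rw [i_a3]
theorem pcc : (f.comp iota) cc = f CC := by change f (iota cc) = _; rw [i_cc']
theorem pdd : (f.comp iota) dd = f DDD := by change f (iota dd) = _; rw [i_dd']

theorem P_T (h : Dat (f.comp iota) n) (hf : Function.Injective f) (hT : IsT (f.comp iota) T) : ∀ p ∈ P4A, f p ∈ T := by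
  intro p hp
  rw [hT]
  constructor
  · rw [mem_XV, pa1, pa2, ← map_mul, ← map_mul, ← map_mul, ← map_mul,
      VP_comm U1 U1_mem p hp, VP_comm U2 U2_mem p hp]
    exact ⟨rfl, rfl⟩
  · have h1 : orderOf (f p) ∣ 2 := by
      apply orderOf_dvd_of_pow_eq_one
      rw [pow_two, ← map_mul, sq_P p hp, map_one]
    exact Nat.Coprime.coprime_dvd_left h1 (by norm_num)

theorem P_D : ∀ p ∈ P4A, p * DDD = DDD * p := by
  intro p hp
  rcases mem_P4A.1 hp with rfl | rfl | rfl | rfl <;> exact aext (by decide +kernel)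

theorem fne (hf : Function.Injective f) {x : A8} (hx : (x : Perm (Fin 8)) ≠ 1) : f x ≠ 1 := by
  intro h1
  apply hx
  have : x = 1 := hf (by rw [h1, map_one])
  rw [this]; rfl

/-- `T = f(E)`. -/
theorem T_eq (h : Dat (f.comp iota) n) (hf : Function.Injective f) (hT : IsT (f.comp iota) T) : T = EE.map f := by
  have hP := P_T h hf hT
  apply le_antisymm
  · intro t ht
    obtain ⟨v, w, hv, hw, hwd, rfl⟩ := h.Tgen hT ht
    have hwP : ∃ p ∈ P4A, w = f p := by
      rcases h.Wclass hT with hbad | ⟨w0, hw0T, hw0d, hw01, hw0w, hnorm, hall⟩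
      · exact ⟨1, one_mem _, by rw [hbad w hw hwd, map_one]⟩
      · have hw0 : ∃ p ∈ P4A, w0 = f p := by
          have hc : f P1 * (f.comp iota) dd = (f.comp iota) dd * f P1 := by
            rw [pdd, ← map_mul, ← map_mul, P_D P1 P1_mem]
          rcases hall (f P1) (hP P1 P1_mem) hc with e | e | e | e
          · exact absurd e (fne hf (by decide +kernel))
          · exact ⟨P1, P1_mem, e.symm⟩
          · refine ⟨P2, P2_mem, ?_⟩
            have e2 : f P2 = (f CC)⁻¹ * f P1 * f CC := by rw [C_P2', map_mul, map_mul, map_inv]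
            rw [e2, e, pcc]; group
          · refine ⟨P3, P3_mem, ?_⟩
            have e2 : f P3 = (f CC * f CC)⁻¹ * f P1 * (f CC * f CC) := by
              rw [C_P3', map_mul, map_mul, map_inv, map_mul]
            rw [e2, e, pcc]; group
        obtain ⟨p, hp, rfl⟩ := hw0
        have hcp : ∀ q ∈ P4A, CC * q * CC⁻¹ ∈ P4A := by
          intro q hq
          rcases mem_P4A.1 hq with rfl | rfl | rfl | rfl
          · rw [mul_one, mul_inv_cancel]; exact one_mem _
          · rw [C_P1]; exact P3_mem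
          · rw [C_P2]; exact P1_mem
          · rw [C_P3]; exact P2_mem
        rcases hall w hw hwd with e | e | e | e
        · exact ⟨1, one_mem _, by rw [e, map_one]⟩
        · exact ⟨p, hp, e⟩
        · refine ⟨CC * p * CC⁻¹, hcp p hp, ?_⟩
          rw [e, pcc, map_mul, map_mul, map_inv]
        · refine ⟨CC * (CC * p * CC⁻¹) * CC⁻¹, hcp _ (hcp p hp), ?_⟩
          rw [e, pcc, map_mul, map_mul, map_mul, map_mul, map_inv]; group
    obtain ⟨p, hp, rfl⟩ := hwP
    have hvV : ∃ x ∈ V4A, v = f x := by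
      rcases hv with rfl | rfl | rfl | rfl
      · exact ⟨1, one_mem _, (map_one f).symm⟩
      · exact ⟨U1, mem_V4A.2 (Or.inr (Or.inl rfl)), pa1⟩
      · exact ⟨U2, mem_V4A.2 (Or.inr (Or.inr (Or.inl rfl))), pa2⟩
      · exact ⟨U3, mem_V4A.2 (Or.inr (Or.inr (Or.inr rfl))), pa3⟩
    obtain ⟨x, hx, rfl⟩ := hvV
    exact ⟨x * p, mem_EE.2 ⟨x, hx, p, hp, rfl⟩, map_mul _ _ _⟩
  · rintro _ ⟨x, hx, rfl⟩
    obtain ⟨v, hv, p, hp, rfl⟩ := mem_EE.1 hx
    rw [map_mul]
    refine mul_mem ?_ (hP p hp)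
    rw [hT]
    constructor
    · rw [mem_XV, pa1, pa2, ← map_mul, ← map_mul, ← map_mul, ← map_mul,
        VV_comm U1 U1_mem v hv, VV_comm U2 U2_mem v hv]
      exact ⟨rfl, rfl⟩
    · have h1 : orderOf (f v) ∣ 2 := by
        apply orderOf_dvd_of_pow_eq_one
        rw [pow_two, ← map_mul, sq_V v hv, map_one]
      exact Nat.Coprime.coprime_dvd_left h1 (by norm_num)

end H54.QA
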