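import Mathlib
import Cfsg.Agent.Lib.H54.QAB

/-! 3-local characterization of `Alt(8)`: fusion of involutions, `N(V)` and `N(E)` (helper54). -/

set_option autoImplicit false
set_option linter.unusedSectionVars false
set_option linter.unusedVariables false
set_option linter.style.haveILetI false
set_option maxRecDepth 100000

namespace H54.QA

open Equiv Subgroup
open scoped Pointwise

def TAU : A8 := mkA (swap 1 2 * swap 2 4 * swap 3 6 * swap 6 5) (by decide)
attribute [irreducible] TAU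

theorem tau_S : TAU * S0 * TAU⁻¹ = JJ := aext (by decide +kernel)
theorem S_CD : S0 * (CC * DDD) = CC * DDD * S0 := aext (by decide +kernel)
theorem J_PU : JJ = U1 * P1 := aext (by decide +kernel)

theorem ex_J : ∀ v ∈ V4A, v ≠ 1 → ∀ p ∈ P4A, p ≠ 1 → ∃ τ : A8, τ * (v * p) * τ⁻¹ = JJ := by
  intro v hv hv1 p hp hp1
  rcases mem_V4A.1 hv with rfl | rfl | rfl | rfl <;> rcases mem_P4A.1 hp with rfl | rfl | rfl | rfl
  all_goals first
  | exact absurd rfl hv1
  | exact absurd rfl hp1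
  | exact ⟨1, aext (by decide +kernel)⟩
  | exact ⟨CC, aext (by decide +kernel)⟩
  | exact ⟨CC * CC, aext (by decide +kernel)⟩
  | exact ⟨DDD, aext (by decide +kernel)⟩
  | exact ⟨CC * DDD, aext (by decide +kernel)⟩
  | exact ⟨CC * CC * DDD, aext (by decide +kernel)⟩
  | exact ⟨DDD * DDD, aext (by decide +kernel)⟩
  | exact ⟨CC * (DDD * DDD), aext (by decide +kernel)⟩
  | exact ⟨CC * CC * (DDD * DDD), aext (by decide +kernel)⟩

theorem ex_V : ∀ v ∈ V4A, v ≠ 1 → ∃ τ : A8, τ * v * τ⁻¹ = U1 := by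
  intro v hv hv1
  rcases mem_V4A.1 hv with rfl | rfl | rfl | rfl
  all_goals first
  | exact absurd rfl hv1
  | exact ⟨1, aext (by decide +kernel)⟩
  | exact ⟨DDD, aext (by decide +kernel)⟩
  | exact ⟨DDD * DDD, aext (by decide +kernel)⟩

theorem ex_P : ∀ v ∈ P4A, v ≠ 1 → ∃ τ : A8, τ * v * τ⁻¹ = U1 := by
  intro v hv hv1
  rcases mem_P4A.1 hv with rfl | rfl | rfl | rfl
  all_goals first
  | exact absurd rfl hv1
  | exact ⟨S0, aext (by decide +kernel)⟩
  | exact ⟨DDD * S0, aext (by decide +kernel)⟩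
  | exact ⟨DDD * DDD * S0, aext (by decide +kernel)⟩

theorem ex_N : ∀ v ∈ V4A, v ≠ 1 → ∀ w ∈ V4A, w ≠ 1 → v ≠ w → ∃ τ : A8, τ * U1 * τ⁻¹ = v ∧ τ * U2 * τ⁻¹ = w := by
  intro v hv hv1 w hw hw1 hvw
  rcases mem_V4A.1 hv with rfl | rfl | rfl | rfl <;> rcases mem_V4A.1 hw with rfl | rfl | rfl | rfl
  all_goals first
  | exact absurd rfl hv1
  | exact absurd rfl hw1
  | exact absurd rfl hvw
  | exact ⟨1, aext (by decide +kernel), aext (by decide +kernel)⟩
  | exact ⟨DDD, aext (by decide +kernel), aext (by decide +kernel)⟩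
  | exact ⟨DDD * DDD, aext (by decide +kernel), aext (by decide +kernel)⟩
  | exact ⟨R0, aext (by decide +kernel), aext (by decide +kernel)⟩
  | exact ⟨DDD * R0, aext (by decide +kernel), aext (by decide +kernel)⟩
  | exact ⟨DDD * DDD * R0, aext (by decide +kernel), aext (by decide +kernel)⟩

variable {G : Type*} [Group G] [Finite G] {f : A8 →* G} {n : G} {T : Subgroup G}

theorem jnu (h : Dat (f.comp iota) n) (g : G) : g * f JJ * g⁻¹ ≠ f U1 := by
  intro hg
  refine h.u3 (t := f S0) (g := g * f TAU) ?_ ?_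
  · rw [pa1, ← hg, ← tau_S, map_mul, map_mul, map_inv]; group
  · rw [pcc, pdd, ← map_mul, ← map_mul, S_CD, map_mul]

/-- conjugates of elements of `V` are not products. -/
theorem vp_no (h : Dat (f.comp iota) n) {x : A8} {τ : A8} (hx : τ * x * τ⁻¹ = U1) {g : G} {v p : A8} (hv : v ∈ V4A)
    (hp : p ∈ P4A) (hg : g * f x * g⁻¹ = f (v * p)) : v = 1 ∨ p = 1 := by
  by_contra hc
  push Not at hc
  obtain ⟨ρ, hρ⟩ := ex_J v hv hc.1 p hp hc.2
  have e1 : f x = (f τ)⁻¹ * f U1 * f τ := by rw [← hx, map_mul, map_mul, map_inv]; group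
  have e2 : f JJ = f ρ * f (v * p) * (f ρ)⁻¹ := by rw [← hρ, map_mul, map_mul, map_inv]
  apply jnu h (f τ * g⁻¹ * (f ρ)⁻¹)
  rw [e2, ← hg, e1]; group

theorem XV_range (h : Dat (f.comp iota) n) (hf : Function.Injective f) {g : G} (hg : g ∈ XV (f.comp iota)) :
    ∃ e ∈ EE, ∃ c ∈ zpowers CC, g = f (e * c) := by
  obtain ⟨T, hT1, hT, hX⟩ := h.exT
  obtain ⟨s, hs, x, hx, rfl⟩ := hX g hg
  rw [T_eq h hf hT] at hs
  obtain ⟨e, he, rfl⟩ := hs
  rw [pcc, ← MonoidHom.map_zpowers] at hx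
  obtain ⟨c, hc, rfl⟩ := hx
  exact ⟨e, he, c, hc, (map_mul _ _ _).symm⟩

theorem NV_range (h : Dat (f.comp iota) n) (hf : Function.Injective f) {g : G} {v w : A8} (hv : v ∈ V4A) (hw : w ∈ V4A)
    (h1 : g * f U1 * g⁻¹ = f v) (h2 : g * f U2 * g⁻¹ = f w) : g ∈ f.range := by
  have hne : ∀ x : A8, f x = g * f U1 * g⁻¹ ∨ f x = g * f U2 * g⁻¹ → x ≠ 1 := by
    rintro x hx rfl
    rw [map_one] at hx
    rcases hx with hx | hx
    · apply fne hf (x := U1) (by decide +kernel)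
      calc f U1 = g⁻¹ * (g * f U1 * g⁻¹) * g := by group
        _ = 1 := by rw [← hx]; group
    · apply fne hf (x := U2) (by decide +kernel)
      calc f U2 = g⁻¹ * (g * f U2 * g⁻¹) * g := by group
        _ = 1 := by rw [← hx]; group
  have hvw : v ≠ w := by
    rintro rfl
    have h3 : f U1 = f U2 := by
      calc f U1 = g⁻¹ * (g * f U1 * g⁻¹) * g := by group
        _ = g⁻¹ * (g * f U2 * g⁻¹) * g := by rw [h1, h2]
        _ = f U2 := by group
    exact absurd (congrArg Subtype.val (hf h3)) (by decide +kernel)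
  obtain ⟨τ, ht1, ht2⟩ := ex_N v hv (hne v (Or.inl h1.symm)) w hw (hne w (Or.inr h2.symm)) hvw
  have h3 : (f τ)⁻¹ * g ∈ XV (f.comp iota) := by
    rw [mem_XV, pa1, pa2]
    have key : ∀ u x : A8, τ * u * τ⁻¹ = x → g * f u * g⁻¹ = f x → (f τ)⁻¹ * g * f u = f u * ((f τ)⁻¹ * g) := by
      intro u x e1 e2
      rw [← e1, map_mul, map_mul, map_inv] at e2
      calc (f τ)⁻¹ * g * f u = (f τ)⁻¹ * (g * f u * g⁻¹) * g := by group
        _ = (f τ)⁻¹ * (f τ * f u * (f τ)⁻¹) * g := by rw [e2]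
        _ = _ := by group
    exact ⟨key _ _ ht1 h1, key _ _ ht2 h2⟩
  obtain ⟨e, _, c, _, hec⟩ := XV_range h hf h3
  exact ⟨τ * (e * c), by rw [map_mul, ← hec]; group⟩

theorem NE_range (h : Dat (f.comp iota) n) (hf : Function.Injective f) {g : G}
    (hg : ∀ x ∈ EE, ∃ y ∈ EE, g * f x * g⁻¹ = f y) : g ∈ f.range := by
  have key : ∀ u ∈ V4A, u ≠ 1 → ∃ x, g * f u * g⁻¹ = f x ∧ x ≠ 1 ∧ (x ∈ V4A ∨ x ∈ P4A) := by
    intro u hu hu1
    obtain ⟨y, hy, hgy⟩ := hg u (mem_sup_left hu)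
    obtain ⟨v, hv, p, hp, rfl⟩ := mem_EE.1 hy
    obtain ⟨τ, hτ⟩ := ex_V u hu hu1
    refine ⟨v * p, hgy, ?_, ?_⟩
    · intro h1
      rw [h1, map_one] at hgy
      apply hu1
      apply hf
      rw [map_one]
      calc f u = g⁻¹ * (g * f u * g⁻¹) * g := by group
        _ = 1 := by rw [hgy]; group
    · rcases vp_no h hτ hv hp hgy with e | e
      · right; rw [e, one_mul]; exact hp
      · left; rw [e, mul_one]; exact hv
  have n1 : U1 ≠ 1 := fun h1 => absurd (congrArg Subtype.val h1) (by decide +kernel)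
  have n2 : U2 ≠ 1 := fun h1 => absurd (congrArg Subtype.val h1) (by decide +kernel)
  have n3 : U3 ≠ 1 := fun h1 => absurd (congrArg Subtype.val h1) (by decide +kernel)
  have e3 : U3 = U1 * U2 := aext (by decide +kernel)
  obtain ⟨x1, h1, m1, k1⟩ := key U1 U1_mem n1
  obtain ⟨x2, h2, m2, k2⟩ := key U2 U2_mem n2
  obtain ⟨x3, h3, m3, k3⟩ := key U3 U3_mem n3
  have h12 : x3 = x1 * x2 := by
    apply hf
    rw [map_mul, ← h1, ← h2, ← h3, e3, map_mul]; group
  have hinf : ∀ x, x ∈ V4A → x ∈ P4A → x = 1 := by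
    intro x a b
    have : x ∈ V4A ⊓ P4A := ⟨a, b⟩
    rw [VP_inf] at this
    exact mem_bot.1 this
  rcases k1 with k1 | k1 <;> rcases k2 with k2 | k2
  · exact NV_range h hf k1 k2 h1 h2
  · exfalso
    rcases k3 with k3 | k3
    · apply m2
      apply hinf x2 _ k2
      have : x2 = x1⁻¹ * x3 := by rw [h12]; group
      rw [this]; exact mul_mem (inv_mem k1) k3
    · apply m1
      apply hinf x1 k1
      have : x1 = x3 * x2⁻¹ := by rw [h12]; group
      rw [this]; exact mul_mem k3 (inv_mem k2)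
  · exfalso
    rcases k3 with k3 | k3
    · apply m1
      apply hinf x1 _ k1
      have : x1 = x3 * x2⁻¹ := by rw [h12]; group
      rw [this]; exact mul_mem k3 (inv_mem k2)
    · apply m2
      apply hinf x2 k2
      have : x2 = x1⁻¹ * x3 := by rw [h12]; group
      rw [this]; exact mul_mem (inv_mem k1) k3
  · have hS : ∀ x ∈ P4A, S0 * x * S0⁻¹ ∈ V4A := by
      intro x hx
      rcases mem_P4A.1 hx with rfl | rfl | rfl | rfl
      · rw [mul_one, mul_inv_cancel]; exact one_mem _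
      · rw [S_P1]; exact U1_mem
      · rw [S_P2]; exact U2_mem
      · rw [S_P3]; exact U3_mem
    have h5 : f S0 * g ∈ f.range := by
      apply NV_range h hf (hS x1 k1) (hS x2 k2)
      · rw [map_mul, map_mul, map_inv, ← h1]; group
      · rw [map_mul, map_mul, map_inv, ← h2]; group
    have : g = (f S0)⁻¹ * (f S0 * g) := by group
    rw [this]
    exact mul_mem (inv_mem ⟨S0, rfl⟩) h5

end H54.QA
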