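import Mathlib
import Cfsg.Agent.Lib.H54.QAC

/-! 3-local characterization of `Alt(8)`: the Sylow 2-subgroup (helper54). -/

set_option autoImplicit false
set_option linter.unusedSectionVars false
set_option linter.unusedVariables false
set_option linter.style.haveILetI false
set_option maxRecDepth 100000

namespace H54.QA

open Equiv Subgroup
open scoped Pointwise

theorem sup_mul_norm {G : Type*} [Group G] {A B : Subgroup G} (hc : ∀ b ∈ B, ∀ a ∈ A, b * a * b⁻¹ ∈ A) {x : G}
    (hx : x ∈ A ⊔ B) : ∃ a ∈ A, ∃ b ∈ B, x = a * b := by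
  let P : Subgroup G :=
    { carrier := {x | ∃ a ∈ A, ∃ b ∈ B, x = a * b}
      one_mem' := ⟨1, one_mem _, 1, one_mem _, by simp⟩
      mul_mem' := by
        rintro _ _ ⟨a, ha, b, hb, rfl⟩ ⟨c, hc', d, hd, rfl⟩
        refine ⟨a * (b * c * b⁻¹), mul_mem ha (hc b hb c hc'), b * d, mul_mem hb hd, ?_⟩
        group
      inv_mem' := by
        rintro _ ⟨a, ha, b, hb, rfl⟩
        refine ⟨b⁻¹ * a⁻¹ * b⁻¹⁻¹, hc b⁻¹ (inv_mem hb) a⁻¹ (inv_mem ha), b⁻¹, inv_mem hb, ?_⟩
        group }
  have h1 : A ⊔ B ≤ P := by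
    apply sup_le
    · intro a ha; exact ⟨a, ha, 1, one_mem _, by simp⟩
    · intro b hb; exact ⟨1, one_mem _, b, hb, by simp⟩
  exact h1 hx

theorem RS : R0 * S0 = S0 * R0 := aext (by decide +kernel)
theorem RR1 : R0 * R0 = 1 := aext (by decide +kernel)
theorem SS1 : S0 * S0 = 1 := aext (by decide +kernel)

def RR : Subgroup A8 where
  carrier := {x | x = 1 ∨ x = R0 ∨ x = S0 ∨ x = R0 * S0}
  one_mem' := Or.inl rfl
  mul_mem' := by
    rintro _ _ (rfl | rfl | rfl | rfl) (rfl | rfl | rfl | rfl) <;>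
    first
    | (left; exact aext (by decide +kernel))
    | (right; left; exact aext (by decide +kernel))
    | (right; right; left; exact aext (by decide +kernel))
    | (right; right; right; exact aext (by decide +kernel))
  inv_mem' := by
    rintro _ (rfl | rfl | rfl | rfl) <;>
    first
    | (left; exact aext (by decide +kernel))
    | (right; left; exact aext (by decide +kernel))
    | (right; right; left; exact aext (by decide +kernel))
    | (right; right; right; exact aext (by decide +kernel))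

theorem mem_RR {x : A8} : x ∈ RR ↔ x = 1 ∨ x = R0 ∨ x = S0 ∨ x = R0 * S0 := Iff.rfl

theorem R_nE : ∀ v ∈ EE, R0 * v * R0⁻¹ ∈ EE := by
  have hV : ∀ v ∈ V4A, R0 * v * R0⁻¹ ∈ V4A := by
    intro v hv
    rw [mem_V4A]
    rcases mem_V4A.1 hv with rfl | rfl | rfl | rfl <;> first
      | (left; exact aext (by decide +kernel))
      | (right; left; exact aext (by decide +kernel))
      | (right; right; left; exact aext (by decide +kernel))
      | (right; right; right; exact aext (by decide +kernel))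
  have hP : ∀ v ∈ P4A, R0 * v * R0⁻¹ ∈ P4A := by
    intro v hv
    rw [mem_P4A]
    rcases mem_P4A.1 hv with rfl | rfl | rfl | rfl <;> first
      | (left; exact aext (by decide +kernel))
      | (right; left; exact aext (by decide +kernel))
      | (right; right; left; exact aext (by decide +kernel))
      | (right; right; right; exact aext (by decide +kernel))
  intro x hx
  obtain ⟨v, hv, p, hp, rfl⟩ := mem_EE.1 hx
  have : R0 * (v * p) * R0⁻¹ = (R0 * v * R0⁻¹) * (R0 * p * R0⁻¹) := by group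
  rw [this, mem_EE]
  exact ⟨_, hV v hv, _, hP p hp, rfl⟩

theorem S_nE : ∀ v ∈ EE, S0 * v * S0⁻¹ ∈ EE := by
  intro x hx
  obtain ⟨v, hv, p, hp, rfl⟩ := mem_EE.1 hx
  have h1 : S0 * v * S0⁻¹ ∈ P4A := by
    rcases mem_V4A.1 hv with rfl | rfl | rfl | rfl
    · rw [mul_one, mul_inv_cancel]; exact one_mem _
    · rw [S_U1]; exact P1_mem
    · rw [S_U2]; exact P2_mem
    · rw [S_U3]; exact P3_mem
  have h2 : S0 * p * S0⁻¹ ∈ V4A := by
    rcases mem_P4A.1 hp with rfl | rfl | rfl | rfl
    · rw [mul_one, mul_inv_cancel]; exact one_mem _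
    · rw [S_P1]; exact U1_mem
    · rw [S_P2]; exact U2_mem
    · rw [S_P3]; exact U3_mem
  have : S0 * (v * p) * S0⁻¹ = (S0 * v * S0⁻¹) * (S0 * p * S0⁻¹) := by group
  rw [this]
  exact mul_mem (mem_sup_right h1) (mem_sup_left h2)

theorem RR_nE : ∀ r ∈ RR, ∀ v ∈ EE, r * v * r⁻¹ ∈ EE := by
  intro r hr v hv
  rcases hr with rfl | rfl | rfl | rfl
  · simpa using hv
  · exact R_nE v hv
  · exact S_nE v hv
  · have : R0 * S0 * v * (R0 * S0)⁻¹ = R0 * (S0 * v * S0⁻¹) * R0⁻¹ := by group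
    rw [this]; exact R_nE _ (S_nE v hv)

/-- centralisers in `E` of the elements of `R`. -/
theorem CR : ∀ x ∈ EE, x * R0 = R0 * x → x = 1 ∨ x = U1 ∨ x = P1 ∨ x = JJ := by
  intro x hx h
  have hh := congrArg Subtype.val h
  obtain ⟨v, hv, p, hp, rfl⟩ := mem_EE.1 hx
  rcases mem_V4A.1 hv with rfl | rfl | rfl | rfl <;> rcases mem_P4A.1 hp with rfl | rfl | rfl | rfl
  all_goals first
    | exact absurd hh (by decide +kernel)
    | (left; exact aext (by decide +kernel))
    | (right; left; exact aext (by decide +kernel))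
    | (right; right; left; exact aext (by decide +kernel))
    | (right; right; right; exact aext (by decide +kernel))

theorem CS : ∀ x ∈ EE, x * S0 = S0 * x → x = 1 ∨ x = U2 * P2 ∨ x = U3 * P3 ∨ x = JJ := by
  intro x hx h
  have hh := congrArg Subtype.val h
  obtain ⟨v, hv, p, hp, rfl⟩ := mem_EE.1 hx
  rcases mem_V4A.1 hv with rfl | rfl | rfl | rfl <;> rcases mem_P4A.1 hp with rfl | rfl | rfl | rfl
  all_goals first
    | exact absurd hh (by decide +kernel)
    | (left; exact aext (by decide +kernel))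
    | (right; left; exact aext (by decide +kernel))
    | (right; right; left; exact aext (by decide +kernel))
    | (right; right; right; exact aext (by decide +kernel))

theorem CRS : ∀ x ∈ EE, x * (R0 * S0) = (R0 * S0) * x → x = 1 ∨ x = U2 * P3 ∨ x = U3 * P2 ∨ x = JJ := by
  intro x hx h
  have hh := congrArg Subtype.val h
  obtain ⟨v, hv, p, hp, rfl⟩ := mem_EE.1 hx
  rcases mem_V4A.1 hv with rfl | rfl | rfl | rfl <;> rcases mem_P4A.1 hp with rfl | rfl | rfl | rfl
  all_goals first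
    | exact absurd hh (by decide +kernel)
    | (left; exact aext (by decide +kernel))
    | (right; left; exact aext (by decide +kernel))
    | (right; right; left; exact aext (by decide +kernel))
    | (right; right; right; exact aext (by decide +kernel))

theorem CRCS {x : A8} (hx : x ∈ EE) (h1 : x * R0 = R0 * x) (h2 : x * S0 = S0 * x) : x = 1 ∨ x = JJ := by
  rcases CR x hx h1 with rfl | rfl | rfl | rfl
  · left; rfl
  · exact absurd (congrArg Subtype.val h2) (by decide +kernel)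
  · exact absurd (congrArg Subtype.val h2) (by decide +kernel)
  · right; rfl

theorem card_le4 {F : Subgroup A8} {a b c d : A8} (h : ∀ x ∈ F, x = a ∨ x = b ∨ x = c ∨ x = d) : Nat.card F ≤ 4 := by
  have h1 : (F : Set A8) ⊆ ({a, b, c, d} : Finset A8) := by
    intro x hx
    simpa using h x hx
  have h2 : Nat.card F = (F : Set A8).ncard := rfl
  rw [h2]
  calc (F : Set A8).ncard ≤ (({a, b, c, d} : Finset A8) : Set A8).ncard := Set.ncard_le_ncard h1 (Finset.finite_toSet _)
    _ = ({a, b, c, d} : Finset A8).card := Set.ncard_coe_finset _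
    _ ≤ 4 := Finset.card_le_four

theorem card_le2 {F : Subgroup A8} {a b : A8} (h : ∀ x ∈ F, x = a ∨ x = b) : Nat.card F ≤ 2 := by
  have h1 : (F : Set A8) ⊆ ({a, b} : Finset A8) := by
    intro x hx
    simpa using h x hx
  have h2 : Nat.card F = (F : Set A8).ncard := rfl
  rw [h2]
  calc (F : Set A8).ncard ≤ (({a, b} : Finset A8) : Set A8).ncard := Set.ncard_le_ncard h1 (Finset.finite_toSet _)
    _ = ({a, b} : Finset A8).card := Set.ncard_coe_finset _
    _ ≤ 2 := Finset.card_le_two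

theorem C_le4 {r : A8} (hr : r ∈ RR) (hr1 : r ≠ 1) {F : Subgroup A8} (hF : F ≤ EE) (h : ∀ x ∈ F, x * r = r * x) :
    Nat.card F ≤ 4 := by
  rcases hr with rfl | rfl | rfl | rfl
  · exact absurd rfl hr1
  · exact card_le4 (fun x hx => CR x (hF hx) (h x hx))
  · exact card_le4 (fun x hx => CS x (hF hx) (h x hx))
  · exact card_le4 (fun x hx => CRS x (hF hx) (h x hx))

def TT : Subgroup A8 := EE ⊔ RR
theorem mem_TT {x : A8} (hx : x ∈ TT) : ∃ e ∈ EE, ∃ r ∈ RR, x = e * r := sup_mul_norm RR_nE hx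

theorem R0_mem : R0 ∈ RR := Or.inr (Or.inl rfl)
theorem S0_mem : S0 ∈ RR := Or.inr (Or.inr (Or.inl rfl))
theorem R0_TT : R0 ∈ TT := mem_sup_right R0_mem
theorem S0_TT : S0 ∈ TT := mem_sup_right S0_mem

theorem RE_inf : EE ⊓ RR = ⊥ := by
  rw [eq_bot_iff]
  rintro x ⟨hx, hy⟩
  rw [mem_bot]
  by_contra hx1
  have h1 : EE ≤ EE := le_rfl
  have h2 := C_le4 hy hx1 (F := EE) le_rfl (fun y hy => EE_comm y hy x hx)
  rw [card_EE] at h2
  norm_num at h2

theorem card_RR : Nat.card RR = 4 := by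
  have h1 : (RR : Set A8) = (({1, R0, S0, R0 * S0} : Finset A8) : Set A8) := by
    ext x
    simp only [Finset.coe_insert, Finset.coe_singleton, Set.mem_insert_iff, Set.mem_singleton_iff]
    exact mem_RR
  have h2 : Nat.card RR = (RR : Set A8).ncard := rfl
  rw [h2, h1, Set.ncard_coe_finset]
  decide +kernel

theorem card_TT : Nat.card TT = 64 := by
  have h1 := H3.CardSup.card_sup_mul_card_inf RR EE (by
    intro r hr
    exact mem_normalizer_fintype (fun v hv => RR_nE r hr v hv))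
  rw [inf_comm, RE_inf, card_RR, card_EE] at h1
  rw [TT, sup_comm]
  simpa using h1

theorem TT_nE : ∀ x ∈ TT, ∀ v ∈ EE, x * v * x⁻¹ ∈ EE := by
  intro x hx v hv
  obtain ⟨e, he, r, hr, rfl⟩ := mem_TT hx
  have : e * r * v * (e * r)⁻¹ = e * (r * v * r⁻¹) * e⁻¹ := by group
  rw [this]
  exact mul_mem (mul_mem he (RR_nE r hr v hv)) (inv_mem he)

theorem comm_of {e r x : A8} (he : e ∈ EE) (hx : x ∈ EE) (h : x * (e * r) = (e * r) * x) : x * r = r * x := by
  have h1 := EE_comm x hx e he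
  have h2 : e * (x * r) = e * (r * x) := by
    calc e * (x * r) = (e * x) * r := by group
      _ = x * (e * r) := by rw [← h1]; group
      _ = (e * r) * x := h
      _ = e * (r * x) := by group
  exact mul_left_cancel h2

/-- `E` is the only abelian subgroup of order `16` of `TT`. -/
theorem uniq {F : Subgroup A8} (hF : F ≤ TT) (hc : Nat.card F = 16) (hcomm : ∀ x ∈ F, ∀ y ∈ F, x * y = y * x) : F = EE := by
  by_cases hle : F ≤ EE
  · exact eq_of_le_of_card_ge hle (by rw [hc, card_EE])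
  exfalso
  obtain ⟨a, haF, haE⟩ := SetLike.not_le_iff_exists.1 hle
  obtain ⟨e, he, r, hr, rfl⟩ := mem_TT (hF haF)
  have hr1 : r ≠ 1 := by rintro rfl; apply haE; rw [mul_one]; exact he
  have h1 : Nat.card (F ⊓ EE : Subgroup A8) ≤ 4 :=
    C_le4 hr hr1 inf_le_right (fun x hx => comm_of he hx.2 (hcomm x hx.1 _ haF))
  have h2 := H3.CardSup.card_sup_mul_card_inf F EE (by
    intro x hx
    exact mem_normalizer_fintype (fun v hv => TT_nE x (hF hx) v hv))
  rw [hc, card_EE] at h2
  have hle2 : F ⊔ EE ≤ TT := sup_le hF le_sup_left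
  have h3 := card_le_of_le hle2
  rw [card_TT] at h3
  have h4 : Nat.card (F ⊔ EE : Subgroup A8) = 64 := by
    by_contra hne
    have h5 : Nat.card (F ⊔ EE : Subgroup A8) < 64 := lt_of_le_of_ne h3 hne
    have h6 : Nat.card (F ⊔ EE : Subgroup A8) * Nat.card (F ⊓ EE : Subgroup A8) < 64 * 4 := by
      calc Nat.card (F ⊔ EE : Subgroup A8) * Nat.card (F ⊓ EE : Subgroup A8)
          ≤ Nat.card (F ⊔ EE : Subgroup A8) * 4 := Nat.mul_le_mul_left _ h1
        _ < 64 * 4 := by omega
    omega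
  have h5 : Nat.card (F ⊓ EE : Subgroup A8) = 4 := by rw [h4] at h2; omega
  have h6 : F ⊔ EE = TT := eq_of_le_of_card_ge hle2 (by rw [h4, card_TT])
  have hs : ∀ ρ ∈ TT, ∀ x ∈ F ⊓ EE, ρ ∈ RR → x * ρ = ρ * x := by
    intro ρ hρ x hx hρR
    rw [← h6, sup_comm] at hρ
    obtain ⟨e', he', φ, hφ, hρe⟩ := sup_mul_norm (A := EE) (B := F) (fun b hb v hv => TT_nE b (hF hb) v hv) hρ
    have h7 : φ = e'⁻¹ * ρ := by rw [hρe]; group
    have h8 := hcomm x hx.1 φ hφ
    rw [h7] at h8
    exact comm_of (inv_mem he') hx.2 h8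
  have h7 : Nat.card (F ⊓ EE : Subgroup A8) ≤ 2 :=
    card_le2 (a := 1) (b := JJ) (fun x hx => CRCS hx.2 (hs R0 R0_TT x hx R0_mem) (hs S0 S0_TT x hx S0_mem))
  omega

theorem center_TT {x : A8} (hx : x ∈ TT) (h : ∀ y ∈ TT, x * y = y * x) : x = 1 ∨ x = JJ := by
  obtain ⟨e, he, r, hr, rfl⟩ := mem_TT hx
  by_cases hr1 : r = 1
  · rw [hr1, mul_one] at h ⊢
    exact CRCS he (h R0 R0_TT) (h S0 S0_TT)
  · exfalso
    have h1 := C_le4 hr hr1 (F := EE) le_rfl (fun y hy => comm_of he hy (h y (mem_sup_left hy)).symm)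
    rw [card_EE] at h1
    norm_num at h1

theorem J_center : ∀ y ∈ TT, JJ * y = y * JJ := by
  intro y hy
  obtain ⟨e, he, r, hr, rfl⟩ := mem_TT hy
  have hJ : JJ ∈ EE := by rw [J_PU, mem_EE]; exact ⟨U1, U1_mem, P1, P1_mem, rfl⟩
  have h1 : Commute JJ e := EE_comm _ hJ e he
  have h2 : Commute JJ r := by
    rcases hr with rfl | rfl | rfl | rfl
    · exact Commute.one_right _
    · exact aext (by decide +kernel)
    · exact aext (by decide +kernel)
    · exact aext (by decide +kernel)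
  exact (h1.mul_right h2).eq

theorem card_A8 : Nat.card A8 = 20160 := by
  have h1 := two_mul_nat_card_alternatingGroup (α := Fin 8)
  rw [Nat.card_perm, Nat.card_eq_fintype_card (α := Fin 8), Fintype.card_fin] at h1
  have h3 : (8 : ℕ).factorial = 40320 := by decide
  have h2 : 2 * Nat.card A8 = 40320 := by rw [← h3]; exact h1
  omega

theorem p2_A8 {F : Subgroup A8} (hF : IsPGroup 2 F) : Nat.card F ≤ 64 := by
  haveI : Fact (Nat.Prime 2) := ⟨Nat.prime_two⟩
  obtain ⟨k, hk⟩ := IsPGroup.iff_card.1 hF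
  have h1 : Nat.card F ∣ Nat.card A8 := card_subgroup_dvd_card F
  rw [hk, card_A8] at h1
  rw [hk]
  have h2 : k ≤ 6 := by
    by_contra hc
    have h3 : 2 ^ 7 ∣ 20160 := (pow_dvd_pow 2 (by omega)).trans h1
    norm_num at h3
  calc 2 ^ k ≤ 2 ^ 6 := Nat.pow_le_pow_right (by norm_num) h2
    _ = 64 := by norm_num

variable {G : Type*} [Group G] [Finite G] {f : A8 →* G} {n : G} {T : Subgroup G}

theorem card_mapf (hf : Function.Injective f) (F : Subgroup A8) : Nat.card (F.map f) = Nat.card F :=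
  (Nat.card_congr (F.equivMapOfInjective f hf).toEquiv).symm

theorem TT_p : IsPGroup 2 (TT.map f) := by
  haveI : Fact (Nat.Prime 2) := ⟨Nat.prime_two⟩
  have : IsPGroup 2 TT := IsPGroup.of_card (n := 6) (by rw [card_TT]; norm_num)
  exact this.map f

/-- `f(TT)` is a Sylow 2-subgroup of `G`. -/
theorem TT_syl (h : Dat (f.comp iota) n) (hf : Function.Injective f) : ∃ P : Sylow 2 G, (P : Subgroup G) = TT.map f := by
  haveI : Fact (Nat.Prime 2) := ⟨Nat.prime_two⟩
  obtain ⟨P, hP⟩ := (TT_p (f := f)).exists_le_sylow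
  refine ⟨P, ?_⟩
  by_contra hne
  have hlt : TT.map f < (P : Subgroup G) := lt_of_le_of_ne hP (Ne.symm hne)
  have hnil : Group.IsNilpotent P := P.2.isNilpotent
  have hnc := @Group.normalizerCondition_of_isNilpotent P _ hnil
  have h1 : (TT.map f).subgroupOf P < ⊤ := by
    rw [lt_top_iff_ne_top]
    intro h2
    rw [subgroupOf_eq_top] at h2
    exact absurd hlt (not_lt_of_ge h2)
  obtain ⟨x, hx1, hx2⟩ := SetLike.exists_of_lt (hnc _ h1)
  -- x normalises TT.map f
  have hxn : ∀ y ∈ TT.map f, (x : G) * y * (x : G)⁻¹ ∈ TT.map f := by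
    intro y hy
    have := (mem_normalizer_iff.1 hx1 ⟨y, hP hy⟩).1 hy
    exact this
  have hxr : (x : G) ∈ f.range := by
    apply NE_range h hf
    obtain ⟨F, hF⟩ : ∃ F : Subgroup A8, F = (EE.map ((MulAut.conj (x : G)).toMonoidHom.comp f)).comap f := ⟨_, rfl⟩
    have hle : EE.map ((MulAut.conj (x : G)).toMonoidHom.comp f) ≤ f.range := by
      rintro _ ⟨e, he, rfl⟩
      obtain ⟨t, _, ht2⟩ := hxn (f e) ⟨e, mem_sup_left he, rfl⟩
      exact ⟨t, ht2⟩
    have hinj : Function.Injective ((MulAut.conj (x : G)).toMonoidHom.comp f) := (MulAut.conj (x : G)).injective.comp hf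
    have hFm : F.map f = EE.map ((MulAut.conj (x : G)).toMonoidHom.comp f) := by
      rw [hF]; exact map_comap_eq_self hle
    have hFc : Nat.card F = 16 := by
      rw [← card_mapf hf F, hFm, ← card_EE]
      exact (Nat.card_congr (EE.equivMapOfInjective _ hinj).toEquiv).symm
    have hFT : F ≤ TT := by
      intro y hy
      have h2 : f y ∈ F.map f := ⟨y, hy, rfl⟩
      rw [hFm] at h2
      obtain ⟨e, he, he2⟩ := h2
      obtain ⟨t, ht1, ht2⟩ := hxn (f e) ⟨e, mem_sup_left he, rfl⟩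
      have h3 : f t = f y := ht2.trans he2
      rw [← hf h3]; exact ht1
    have hFcomm : ∀ y ∈ F, ∀ z ∈ F, y * z = z * y := by
      intro y hy z hz
      have hy2 : f y ∈ F.map f := ⟨y, hy, rfl⟩
      have hz2 : f z ∈ F.map f := ⟨z, hz, rfl⟩
      rw [hFm] at hy2 hz2
      obtain ⟨a, ha, ha2⟩ := hy2
      obtain ⟨b, hb, hb2⟩ := hz2
      apply hf
      rw [map_mul, map_mul, ← ha2, ← hb2, ← map_mul, ← map_mul, EE_comm a ha b hb]
    have hFE := uniq hFT hFc hFcomm
    intro e he
    have h2 : (x : G) * f e * (x : G)⁻¹ ∈ F.map f := by rw [hFm]; exact ⟨e, he, rfl⟩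
    rw [hFE] at h2
    obtain ⟨y, hy, hy2⟩ := h2
    exact ⟨y, hy, hy2.symm⟩
  obtain ⟨σ, hσ⟩ := hxr
  have h2 : TT ≤ (P : Subgroup G).comap f := by
    intro y hy; exact hP ⟨y, hy, rfl⟩
  have h3 : IsPGroup 2 ((P : Subgroup G).comap f) := P.2.comap_of_injective f hf
  have h4 : TT = (P : Subgroup G).comap f := eq_of_le_of_card_ge h2 (by rw [card_TT]; exact p2_A8 h3)
  apply hx2
  change (x : G) ∈ TT.map f
  refine ⟨σ, ?_, hσ⟩
  change σ ∈ TT
  rw [h4]
  change f σ ∈ (P : Subgroup G)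
  rw [hσ]; exact x.2

theorem card_Syl (h : Dat (f.comp iota) n) (hf : Function.Injective f) : ¬ 128 ∣ Nat.card G := by
  obtain ⟨P, hP⟩ := TT_syl h hf
  intro h1
  have h2 := P.card_mul_index
  rw [hP, card_mapf hf, card_TT] at h2
  have h3 := P.not_dvd_index
  rw [hP] at h3
  rw [← h2] at h1
  apply h3
  have : 64 * 2 ∣ 64 * (TT.map f).index := by simpa using h1
  exact (Nat.mul_dvd_mul_iff_left (by norm_num)).1 this

theorem CU_64 (h : Dat (f.comp iota) n) (hf : Function.Injective f) : ¬ 64 ∣ Nat.card (centralizer ({f U1} : Set G)) := by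
  haveI : Fact (Nat.Prime 2) := ⟨Nat.prime_two⟩
  intro h64
  obtain ⟨P, hP⟩ := TT_syl h hf
  obtain ⟨Q, _, hQH, hQp, hQi⟩ := exSyl (p := 2) (centralizer ({f U1} : Set G)) ⊥ bot_le IsPGroup.of_bot
  have hQc : 64 ∣ Nat.card Q := by
    have h1 := card_rel hQH
    rw [← h1] at h64
    have h2 : Nat.Coprime (2 ^ 6) (Q.relIndex (centralizer ({f U1} : Set G))) :=
      Nat.Coprime.pow_left 6 ((Nat.Prime.coprime_iff_not_dvd Nat.prime_two).2 hQi)
    have h3 : 2 ^ 6 ∣ Nat.card Q * Q.relIndex (centralizer ({f U1} : Set G)) := by norm_num; exact h64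
    have := h2.dvd_of_dvd_mul_right h3
    norm_num at this
    exact this
  obtain ⟨g, _, hg⟩ := conjP (p := 2) (⊤ : Subgroup G) (P : Subgroup G) le_top P.2
    (by rw [relIndex_top_right]; exact P.not_dvd_index) (E := Q) le_top hQp
  have hle : Q.map (MulAut.conj g).toMonoidHom ≤ TT.map f := by
    rw [← hP]
    rintro _ ⟨q, hq, rfl⟩
    exact hg q hq
  have hc : Nat.card (Q.map (MulAut.conj g).toMonoidHom) = Nat.card Q :=
    (Nat.card_congr (Q.equivMapOfInjective _ (MulAut.conj g).injective).toEquiv).symm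
  have heq : Q.map (MulAut.conj g).toMonoidHom = TT.map f := by
    apply eq_of_le_of_card_ge hle
    rw [hc, card_mapf hf, card_TT]
    exact Nat.le_of_dvd Nat.card_pos hQc
  -- u ∈ Q
  have hcent : ∀ y ∈ TT.map f, (g * f U1 * g⁻¹) * y = y * (g * f U1 * g⁻¹) := by
    intro y hy
    rw [← heq] at hy
    obtain ⟨q, hq, rfl⟩ := hy
    have h1 := mem_centralizer_singleton_iff.1 (hQH hq)
    change g * f U1 * g⁻¹ * (g * q * g⁻¹) = g * q * g⁻¹ * (g * f U1 * g⁻¹)
    calc g * f U1 * g⁻¹ * (g * q * g⁻¹) = g * (f U1 * q) * g⁻¹ := by group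
      _ = g * (q * f U1) * g⁻¹ := by rw [h1]
      _ = _ := by group
  have hoU : orderOf (f U1) = 2 := by
    apply orderOf_eq_prime
    · rw [pow_two, ← map_mul, sq_V U1 U1_mem, map_one]
    · exact fne hf (by decide +kernel)
  have hmem : g * f U1 * g⁻¹ ∈ TT.map f := by
    obtain ⟨x, hx⟩ : ∃ x, x = g * f U1 * g⁻¹ := ⟨_, rfl⟩
    have hxp : IsPGroup 2 (zpowers x) := IsPGroup.of_card (n := 1) (by rw [Nat.card_zpowers, hx, ordc, hoU]; norm_num)
    have hsup : IsPGroup 2 (TT.map f ⊔ zpowers x : Subgroup G) := by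
      apply IsPGroup.to_sup_of_normal_right' TT_p hxp
      intro y hy
      apply mem_normalizer_fintype
      intro z hz
      obtain ⟨k, rfl⟩ := mem_zpowers_iff.1 hz
      have h1 : y * x ^ k * y⁻¹ = x ^ k := by
        have h2 : Commute x y := by rw [hx]; exact hcent y hy
        have h3 := (h2.zpow_left k).eq
        rw [← h3]; group
      rw [h1]; exact zpow_mem (mem_zpowers x) k
    have h5 := P.3 hsup (by rw [hP]; exact le_sup_left)
    rw [hP] at h5
    rw [← hx, ← h5]
    exact mem_sup_right (mem_zpowers x)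
  obtain ⟨σ, hσ, hσ2⟩ := hmem
  have h6 : σ = 1 ∨ σ = JJ := by
    apply center_TT hσ
    intro y hy
    apply hf
    rw [map_mul, map_mul, hσ2]
    exact hcent (f y) ⟨y, hy, rfl⟩
  rcases h6 with rfl | rfl
  · rw [map_one] at hσ2
    have h7 := ordc g (f U1)
    rw [← hσ2, hoU, orderOf_one] at h7
    norm_num at h7
  · apply jnu h g⁻¹
    rw [hσ2]; group

end H54.QA
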