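import Mathlib
import Cfsg.Agent.Lib.H54.QAD
import Cfsg.Agent.Lib.H31.FT3Q

/-! 3-local characterization of `Alt(8)`: a group with a self-centralizing element of order 3 (helper54). -/

set_option autoImplicit false
set_option linter.unusedSectionVars false
set_option linter.unusedVariables false
set_option linter.style.haveILetI false
set_option maxRecDepth 100000

namespace H54.QA

open Equiv Subgroup H31.FT3
open scoped Pointwise

theorem s3_fact : ∀ a b : Perm (Fin 3), a * a = 1 → a ≠ 1 → b * b * b = 1 → b ≠ 1 → a * (b * a * b⁻¹) = b := by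
  decide +kernel

theorem s3_fact2 : ∀ a b : Perm (Fin 3), a * a = 1 → a ≠ 1 → b * b = 1 → a * b = b * a → b = 1 ∨ b = a := by
  decide +kernel

/-- Sylow subgroups of a nilpotent normal subgroup. -/
theorem nil_syl {Q : Type*} [Group Q] [Finite Q] {N : Subgroup Q} (hN : N.Normal) (hnil : Group.IsNilpotent N)
    (q : ℕ) [hq : Fact q.Prime] : ∃ S : Subgroup Q, S.Normal ∧ S ≤ N ∧ IsPGroup q S ∧ (q ∣ Nat.card N → S ≠ ⊥) ∧
      ∀ x ∈ N, (∃ k : ℕ, orderOf x = q ^ k) → x ∈ S := by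
  obtain ⟨P⟩ : Nonempty (Sylow q N) := inferInstance
  have hPa : ∀ (p : ℕ) (_ : Fact p.Prime) (P : Sylow p N), (P : Subgroup N).Normal :=
    ((Group.isNilpotent_of_finite_tfae (G := N)).out 0 3).1 hnil
  have hPn : (P : Subgroup N).Normal := hPa q hq P
  haveI := P.characteristic_of_normal hPn
  haveI := hN
  refine ⟨(P : Subgroup N).map N.subtype, inferInstance, map_subtype_le _, P.2.map _, ?_, ?_⟩
  · intro hd h1
    rw [Subgroup.map_eq_bot_iff_of_injective _ N.subtype_injective] at h1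
    have h2 := P.card_mul_index
    have h3 := P.not_dvd_index
    rw [h1, card_bot, one_mul] at h2
    rw [h1, h2] at h3
    exact h3 hd
  · rintro x hx ⟨k, hk⟩
    refine ⟨⟨x, hx⟩, ?_, rfl⟩
    have h1 : IsPGroup q (zpowers (⟨x, hx⟩ : N)) := IsPGroup.of_card (n := k) (by rw [Nat.card_zpowers, orderOf_mk, hk])
    obtain ⟨R, hR⟩ := h1.exists_le_sylow
    haveI : Subsingleton (Sylow q N) := by
      haveI := P.unique_of_normal hPn
      infer_instance
    have h2 : R = P := Subsingleton.elim _ _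
    rw [← h2]
    exact hR (mem_zpowers _)

theorem core_S3 {Q : Type*} [Group Q] [Finite Q] {y : Q} (hy : SC y) {N : Subgroup Q} [hN : N.Normal]
    (hnil : Group.IsNilpotent N) (h3 : (Nat.card N).Coprime 3) (e : Q ⧸ N ≃* Perm (Fin 3)) (E : Set Q)
    (hE : ∀ a ∈ E, a * a = 1) (hEc : ∀ a ∈ E, ∀ b ∈ E, a * b = b * a) (hEm : ∀ a ∈ E, ∀ b ∈ E, a * b ∈ E)
    (h1 : ∀ x : Q, Odd (orderOf x) → (∀ a ∈ E, x * a = a * x) → x = 1) {q : ℕ} (hq : q.Prime) (hqN : q ∣ Nat.card N) :
    q = 2 := by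
  by_contra hq2
  haveI : Fact q.Prime := ⟨hq⟩
  haveI : Fact (Nat.Prime 2) := ⟨Nat.prime_two⟩
  obtain ⟨S, hSn, hSN, hSp, hSb, _⟩ := nil_syl hN hnil q
  obtain ⟨P2, hPn, hPN, hPp, _, hPm⟩ := nil_syl hN hnil 2
  have hSb := hSb hqN
  have hodd : ∀ x ∈ S, Odd (orderOf x) := by
    intro x hx
    obtain ⟨k, hk⟩ := (IsPGroup.iff_orderOf.1 hSp) ⟨x, hx⟩
    rw [orderOf_mk] at hk
    rw [hk]
    exact (hq.odd_of_ne_two hq2).pow
  have hdis : Disjoint P2 S := by
    apply IsPGroup.disjoint_of_ne 2 q (Ne.symm hq2) P2 S hPp hSp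
  -- elements of E in N commute with S
  have hEN : ∀ a ∈ E, a ∈ N → ∀ x ∈ S, x * a = a * x := by
    intro a ha haN x hx
    have h2 : a ∈ P2 := by
      apply hPm a haN
      have h3 : orderOf a ∣ 2 := orderOf_dvd_of_pow_eq_one (by rw [pow_two]; exact hE a ha)
      obtain ⟨k, hk, hk2⟩ := (Nat.dvd_prime_pow Nat.prime_two (m := 1)).1 (by simpa using h3)
      exact ⟨k, hk2⟩
    exact (Subgroup.commute_of_normal_of_disjoint P2 S hPn hSn hdis a x h2 hx).eq.symm
  by_cases hall : ∀ a ∈ E, a ∈ N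
  · apply hSb
    rw [eq_bot_iff]
    intro x hx
    rw [mem_bot]
    exact h1 x (hodd x hx) (fun a ha => hEN a ha (hall a ha) x hx)
  push Not at hall
  obtain ⟨a, haE, haN⟩ := hall
  have ha1 : e (QuotientGroup.mk a) ≠ 1 := by
    intro h2
    apply haN
    rw [← QuotientGroup.eq_one_iff]
    exact e.injective (h2.trans (map_one e).symm)
  have key : ∀ u v : Q, e (QuotientGroup.mk (u * v)) = e (QuotientGroup.mk u) * e (QuotientGroup.mk v) := by
    intro u v
    rw [QuotientGroup.mk_mul, map_mul]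
  have e1 : e (QuotientGroup.mk (1 : Q)) = 1 := by rw [QuotientGroup.mk_one, map_one]
  have ea2 : e (QuotientGroup.mk a) * e (QuotientGroup.mk a) = 1 := by rw [← key, hE a haE, e1]
  -- a acts fixed-point-freely on S
  have hfix : ∀ x ∈ S, x * a = a * x → x = 1 := by
    intro x hx hxa
    apply h1 x (hodd x hx)
    intro b hb
    have eb2 : e (QuotientGroup.mk b) * e (QuotientGroup.mk b) = 1 := by rw [← key, hE b hb, e1]
    have eab : e (QuotientGroup.mk a) * e (QuotientGroup.mk b) = e (QuotientGroup.mk b) * e (QuotientGroup.mk a) := by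
      rw [← key, ← key, hEc a haE b hb]
    rcases s3_fact2 _ _ ea2 ha1 eb2 eab with h2 | h2
    · apply hEN b hb _ x hx
      rw [← QuotientGroup.eq_one_iff]
      exact e.injective (h2.trans (map_one e).symm)
    · have h3 : a * b ∈ N := by
        rw [← QuotientGroup.eq_one_iff]
        apply e.injective
        rw [key, h2, ea2, map_one]
      have h4 := hEN (a * b) (hEm a haE b hb) h3 x hx
      apply mul_left_cancel (a := a)
      calc a * (x * b) = (a * x) * b := by group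
        _ = x * (a * b) := by rw [← hxa]; group
        _ = (a * b) * x := h4
        _ = a * (b * x) := by group
  -- a inverts S
  have hinv : ∀ c : Q, c * c = 1 → (∀ x ∈ S, x * c = c * x → x = 1) → ∀ x ∈ S, c * x * c⁻¹ = x⁻¹ := by
    intro c hc hcf x hx
    have hci : c⁻¹ = c := inv_eq_of_mul_eq_one_left hc
    -- the map s ↦ s⁻¹ * c s c⁻¹ is injective on S
    obtain ⟨F, hF⟩ : ∃ F : S → S, ∀ s : S, ((F s : S) : Q) = (s : Q)⁻¹ * (c * s * c⁻¹) :=
      ⟨fun s => ⟨(s : Q)⁻¹ * (c * s * c⁻¹), mul_mem (inv_mem s.2) (hSn.conj_mem _ s.2 c)⟩, fun s => rfl⟩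
    have hFi : Function.Injective F := by
      intro s t hst
      have h2 : (s : Q)⁻¹ * (c * s * c⁻¹) = (t : Q)⁻¹ * (c * t * c⁻¹) := by rw [← hF, ← hF, hst]
      have h3 : (t : Q) * (s : Q)⁻¹ = 1 := by
        apply hcf _ (mul_mem t.2 (inv_mem s.2))
        calc (t : Q) * (s : Q)⁻¹ * c = t * ((s : Q)⁻¹ * (c * s * c⁻¹)) * (c * (s : Q)⁻¹ * c⁻¹) * c := by group
          _ = t * ((t : Q)⁻¹ * (c * t * c⁻¹)) * (c * (s : Q)⁻¹ * c⁻¹) * c := by rw [h2]
          _ = c * (t * (s : Q)⁻¹) := by group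
      exact Subtype.ext (mul_inv_eq_one.1 h3).symm
    have hFs := Finite.surjective_of_injective hFi
    obtain ⟨s, hs⟩ := hFs ⟨x, hx⟩
    have h2 : x = (s : Q)⁻¹ * (c * s * c⁻¹) := by rw [← hF, hs]
    rw [h2]
    have h4 : c * ((s : Q)⁻¹ * (c * s * c⁻¹)) * c⁻¹ = c * (s : Q)⁻¹ * c * s * (c⁻¹ * c⁻¹) := by group
    rw [h4, hci, hc]
    rw [mul_inv_rev, mul_inv_rev, mul_inv_rev, hci, inv_inv]
    group
  obtain ⟨b, hb⟩ : ∃ b : Q, b = y * a * y⁻¹ := ⟨_, rfl⟩
  have ia := hinv a (hE a haE) hfix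
  have hb2 : b * b = 1 := by
    rw [hb]
    calc y * a * y⁻¹ * (y * a * y⁻¹) = y * (a * a) * y⁻¹ := by group
      _ = 1 := by rw [hE a haE]; group
  have ib := hinv b hb2 (by
    intro x hx hxb
    have h2 : y⁻¹ * x * y⁻¹⁻¹ ∈ S := hSn.conj_mem x hx y⁻¹
    have h3 := hfix _ h2 (by
      rw [hb] at hxb
      calc y⁻¹ * x * y⁻¹⁻¹ * a = y⁻¹ * (x * (y * a * y⁻¹)) * y := by group
        _ = y⁻¹ * ((y * a * y⁻¹) * x) * y := by rw [hxb]
        _ = a * (y⁻¹ * x * y⁻¹⁻¹) := by group)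
    calc x = y * (y⁻¹ * x * y⁻¹⁻¹) * y⁻¹ := by group
      _ = 1 := by rw [h3]; group)
  have hcS : ∀ x ∈ S, x * (a * b) = a * b * x := by
    intro x hx
    have h2 : (a * b) * x * (a * b)⁻¹ = x := by
      calc (a * b) * x * (a * b)⁻¹ = a * (b * x * b⁻¹) * a⁻¹ := by group
        _ = a * x⁻¹ * a⁻¹ := by rw [ib x hx]
        _ = (a * x * a⁻¹)⁻¹ := by group
        _ = x := by rw [ia x hx, inv_inv]
    exact (mul_inv_eq_iff_eq_mul.1 h2).symm
  have hyN : y ∉ N := by
    intro h2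
    have h4 := orderOf_dvd_natCard N h2
    rw [hy.ord] at h4
    have := Nat.Coprime.eq_one_of_dvd h3.symm h4
    norm_num at this
  have ey1 : e (QuotientGroup.mk y) ≠ 1 := by
    intro h2
    apply hyN
    rw [← QuotientGroup.eq_one_iff]
    exact e.injective (h2.trans (map_one e).symm)
  have ey3 : e (QuotientGroup.mk y) * e (QuotientGroup.mk y) * e (QuotientGroup.mk y) = 1 := by
    rw [← key, ← key, hy.three', e1]
  have eyi : e (QuotientGroup.mk y⁻¹) = (e (QuotientGroup.mk y))⁻¹ := by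
    rw [QuotientGroup.mk_inv, map_inv]
  have h5 : e (QuotientGroup.mk (a * b)) = e (QuotientGroup.mk y) := by
    rw [key, hb, key, key, eyi]
    exact s3_fact _ _ ea2 ha1 ey3 ey1
  have h6 : 3 ∣ orderOf (a * b) := by
    have h7 : orderOf (e (QuotientGroup.mk (a * b))) = 3 := by
      rw [h5]
      apply orderOf_eq_prime _ ey1
      rw [pow_succ, pow_two]; exact ey3
    rw [← h7]
    have h8 : e (QuotientGroup.mk (a * b)) = (e.toMonoidHom.comp (QuotientGroup.mk' N)) (a * b) := rfl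
    rw [h8]
    exact orderOf_map_dvd _ _
  have h7 := hy.pow_three_of_dvd h6
  have h8 : orderOf (a * b) = 3 := by
    apply orderOf_eq_prime h7
    intro h9
    rw [h9, e1] at h5
    exact ey1 h5.symm
  have h9 := hy.of_order h8
  apply hSb
  rw [eq_bot_iff]
  intro x hx
  rw [mem_bot]
  by_contra hx1
  have h10 := h9.cent x (hcS x hx)
  have h11 : orderOf x ∣ 3 := by
    rw [← h9.ord, ← Nat.card_zpowers (a * b)]
    exact orderOf_dvd_natCard _ h10
  have h12 := orderOf_dvd_natCard N (hSN hx)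
  have := Nat.Coprime.eq_one_of_dvd (Nat.Coprime.coprime_dvd_left h12 h3) h11
  exact hx1 (orderOf_eq_one_iff.1 this)

end H54.QA
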